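import Cfsg.Prelude.Def_CaseTheorems
import Cfsg.Prelude.Def_Transfer
import Cfsg.Agent.Lib.Core.Cores
import Cfsg.Agent.Lib.Core.Coprime
import Cfsg.Agent.Lib.Transfer.PResidual
import Cfsg.Agent.Lib.Signalizer.Involutions
import Cfsg.Agent.Lib.ZStar.Main
import Cfsg.Agent.S0205

/-!
# Groups whose involution centralisers have normal 2-complements: first facts (S3214)

Owner: helper5.  `theta t` is the odd core of `C(t)`; it consists of the elements of odd order of `C(t)`.
-/

set_option autoImplicit false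

namespace CfsgLib.InvCent

open Subgroup

variable {G : Type*} [Group G]

/-- Every involution centraliser has a normal 2-complement. -/
def TwoNilpCent (G : Type*) [Group G] : Prop :=
  ∀ t : G, orderOf t = 2 → Cfsg.HasNormalPComplement 2 ↥(centralizer ({t} : Set G))

/-- The odd core of `C(t)`. -/
def theta (t : G) : Subgroup G :=
  (Cfsg.oddCore ↥(centralizer ({t} : Set G))).map (centralizer ({t} : Set G)).subtype

theorem theta_le (t : G) : theta t ≤ centralizer ({t} : Set G) := map_subtype_le _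

theorem mem_cent {t g : G} : g ∈ centralizer ({t} : Set G) ↔ g * t = t * g :=
  mem_centralizer_singleton_iff

theorem centralizer_conj (g t : G) :
    centralizer ({g * t * g⁻¹} : Set G) =
      (centralizer ({t} : Set G)).map (MulAut.conj g).toMonoidHom := by
  ext x
  rw [Subgroup.mem_map_equiv, mem_cent, mem_cent]
  change x * (g * t * g⁻¹) = g * t * g⁻¹ * x ↔ (MulAut.conj g).symm x * t = t * (MulAut.conj g).symm x
  rw [MulAut.conj_symm_apply]
  constructor <;> intro h
  · calc g⁻¹ * x * g * t = g⁻¹ * (x * (g * t * g⁻¹)) * g := by group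
      _ = g⁻¹ * (g * t * g⁻¹ * x) * g := by rw [h]
      _ = t * (g⁻¹ * x * g) := by group
  · calc x * (g * t * g⁻¹) = g * (g⁻¹ * x * g * t) * g⁻¹ := by group
      _ = g * (t * (g⁻¹ * x * g)) * g⁻¹ := by rw [h]
      _ = g * t * g⁻¹ * x := by group

variable [Finite G]

theorem odd_card_theta (t : G) : Odd (Nat.card (theta t)) := by
  rw [theta, card_map_of_injective (subtype_injective _)]
  exact ZStar.odd_card_oddCore _

theorem theta_coprime (t : G) : (Nat.card (theta t)).Coprime 2 :=
  Nat.coprime_two_right.2 (odd_card_theta t)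

theorem odd_orderOf_of_mem {H : Subgroup G} (hH : Odd (Nat.card H)) {g : G} (hg : g ∈ H) :
    Odd (orderOf g) :=
  hH.of_dvd_nat (H.orderOf_dvd_natCard hg)

theorem isSolvable_theta (t : G) : Group.IsSolvable (theta t) :=
  Cfsg.Agent.S0205.result (odd_card_theta t)

theorem le_normalizer_theta (t : G) :
    centralizer ({t} : Set G) ≤ normalizer (theta t : Set G) := by
  rw [theta]
  refine le_trans (le_of_eq ?_) (le_normalizer_map _)
  rw [normalizer_eq_top_iff.2 (inferInstance : (Cfsg.oddCore _).Normal), ← MonoidHom.range_eq_map,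
    range_subtype]

/-- An odd subgroup of `C(t)` normalised by `C(t)` lies in `θ(t)`. -/
theorem le_theta_of_normalized {t : G} {X : Subgroup G} (hX : X ≤ centralizer ({t} : Set G))
    (hn : centralizer ({t} : Set G) ≤ normalizer (X : Set G)) (hodd : Odd (Nat.card X)) :
    X ≤ theta t := by
  haveI : (X.subgroupOf (centralizer ({t} : Set G))).Normal :=
    normal_subgroupOf_of_le_normalizer hn
  have h : X.subgroupOf (centralizer ({t} : Set G)) ≤ Cfsg.oddCore _ :=
    ZStar.le_oddCore inferInstance (by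
      rw [Nat.card_congr (subgroupOfEquivOfLe hX).toEquiv]; exact hodd)
  intro x hx
  exact ⟨⟨x, hX hx⟩, h hx, rfl⟩

theorem theta_map_conj (g t : G) :
    theta (g * t * g⁻¹) = (theta t).map (MulAut.conj g).toMonoidHom := by
  have hle : ∀ (h s : G), (theta s).map (MulAut.conj h).toMonoidHom ≤ theta (h * s * h⁻¹) := by
    intro h s
    refine le_theta_of_normalized ?_ ?_ ?_
    · rw [centralizer_conj]; exact map_mono (theta_le s)
    · rw [centralizer_conj]
      exact (map_mono (le_normalizer_theta s)).trans (le_normalizer_map _)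
    · rw [card_map_of_injective (MulAut.conj h).injective]; exact odd_card_theta s
  refine le_antisymm ?_ (hle g t)
  have h := map_mono (f := (MulAut.conj g).toMonoidHom) (hle g⁻¹ (g * t * g⁻¹))
  rw [map_map, show g⁻¹ * (g * t * g⁻¹) * g⁻¹⁻¹ = t by group] at h
  refine le_trans (le_of_eq ?_) h
  conv_lhs => rw [← map_id (theta (g * t * g⁻¹))]
  congr 1
  ext x
  simp [mul_assoc]

theorem mem_theta_conj {g t x : G} (hx : x ∈ theta t) : g * x * g⁻¹ ∈ theta (g * t * g⁻¹) := by
  rw [theta_map_conj]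
  exact ⟨x, hx, rfl⟩

namespace TwoNilpCent

variable (hI : TwoNilpCent G)
include hI

theorem pResidual_eq {t : G} (ht : orderOf t = 2) :
    Cfsg.pResidual 2 ↥(centralizer ({t} : Set G)) = Cfsg.oddCore ↥(centralizer ({t} : Set G)) := by
  haveI : Fact (Nat.Prime 2) := ⟨Nat.prime_two⟩
  refine le_antisymm (Core.le_pPrimeCore ?_) (Transfer.le_pResidual_of_coprime ?_)
  · exact Transfer.hasNormalPComplement_iff_coprime.1 (hI t ht)
  · exact Core.coprime_card_pPrimeCore 2 _

/-- The elements of odd order of `C(t)` form `θ(t)`. -/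
theorem mem_theta {t x : G} (ht : orderOf t = 2) (hx : x * t = t * x) (hodd : Odd (orderOf x)) :
    x ∈ theta t := by
  refine ⟨⟨x, mem_cent.2 hx⟩, ?_, rfl⟩
  show (⟨x, mem_cent.2 hx⟩ : ↥(centralizer ({t} : Set G))) ∈ Cfsg.oddCore _
  rw [← hI.pResidual_eq ht]
  refine Transfer.mem_pResidual_of_coprime ?_
  rw [Subgroup.orderOf_mk]
  exact Nat.coprime_two_right.2 hodd

/-- An odd subgroup of `C(t)` lies in `θ(t)`. -/
theorem le_theta {t : G} (ht : orderOf t = 2) {X : Subgroup G}
    (hX : X ≤ centralizer ({t} : Set G)) (hodd : Odd (Nat.card X)) : X ≤ theta t :=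
  fun _ hx => hI.mem_theta ht (mem_cent.1 (hX hx)) (odd_orderOf_of_mem hodd hx)

/-- Balance is automatic. -/
theorem balance {a b : G} (hb : orderOf b = 2) : theta a ⊓ centralizer ({b} : Set G) ≤ theta b :=
  fun _ hx => hI.mem_theta hb (mem_cent.1 hx.2) (odd_orderOf_of_mem (odd_card_theta a) hx.1)

/-- `C(t) = θ(t) T` for any Sylow 2-subgroup `T` of `C(t)`. -/
theorem exists_mul {t : G} (ht : orderOf t = 2) {T : Subgroup G}
    (hT : ∃ P : Sylow 2 ↥(centralizer ({t} : Set G)),
      (P : Subgroup _).map (centralizer ({t} : Set G)).subtype = T)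
    {g : G} (hg : g * t = t * g) : ∃ u ∈ theta t, ∃ s ∈ T, g = u * s := by
  haveI : Fact (Nat.Prime 2) := ⟨Nat.prime_two⟩
  obtain ⟨P, rfl⟩ := hT
  obtain ⟨x, hx, k, hk, e⟩ :=
    Transfer.exists_mul_mem_pResidual P (⟨g, mem_cent.2 hg⟩ : ↥(centralizer ({t} : Set G)))
  rw [hI.pResidual_eq ht] at hk
  refine ⟨x * k * x⁻¹, ?_, x, ⟨x, hx, rfl⟩, ?_⟩
  · exact (mem_normalizer_iff.1 (le_normalizer_theta t x.2) _).1 ⟨k, hk, rfl⟩
  · have e' : g = (x : G) * (k : G) := congrArg Subtype.val e
    rw [e']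
    simp

theorem subgroup (H : Subgroup G) : TwoNilpCent H := fun t ht => by
  haveI : Fact (Nat.Prime 2) := ⟨Nat.prime_two⟩
  have ht' : orderOf (t : G) = 2 := by rw [Subgroup.orderOf_coe]; exact ht
  refine Transfer.hasNormalPComplement_of_injective
    (H.subtype.subgroupComap (centralizer ({(t : G)} : Set G)) |>.comp
      (Subgroup.inclusion (fun x hx => ?_))) ?_ (hI _ ht')
  · show (x : G) ∈ centralizer ({(t : G)} : Set G)
    exact mem_cent.2 (congrArg Subtype.val (mem_cent.1 hx))
  · intro a b e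
    exact Subtype.ext (Subtype.ext (congrArg Subtype.val e :))

omit hI in
/-- Involutions lift through odd normal subgroups. -/
theorem exists_involution_lift {N : Subgroup G} [N.Normal] (hodd : Odd (Nat.card N))
    {x : G ⧸ N} (hx : orderOf x = 2) : ∃ t : G, orderOf t = 2 ∧ (t : G ⧸ N) = x := by
  obtain ⟨g, rfl⟩ := QuotientGroup.mk_surjective x
  have hg2 : g ^ 2 ∈ N := by
    rw [← QuotientGroup.eq_one_iff]
    show ((g : G ⧸ N)) ^ 2 = 1
    rw [← hx]; exact pow_orderOf_eq_one _
  set m := Nat.card N with hm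
  refine ⟨g ^ m, ?_, ?_⟩
  · refine orderOf_eq_prime ?_ fun e => ?_
    · rw [← pow_mul, mul_comm, pow_mul]
      exact orderOf_dvd_iff_pow_eq_one.1 (N.orderOf_dvd_natCard hg2)
    · have h1 : (g : G ⧸ N) ^ m = 1 := by rw [← QuotientGroup.mk_pow, e, QuotientGroup.mk_one]
      have h2 := orderOf_dvd_iff_pow_eq_one.2 h1
      rw [hx] at h2
      exact hodd.not_two_dvd_nat h2
  · obtain ⟨k, hk⟩ := hodd
    rw [QuotientGroup.mk_pow, hk, pow_succ, pow_mul, ← hx, pow_orderOf_eq_one, one_pow, one_mul]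

/-- The hypothesis passes to quotients by odd normal subgroups. -/
theorem quotient {N : Subgroup G} [N.Normal] (hodd : Odd (Nat.card N)) : TwoNilpCent (G ⧸ N) := by
  intro x hx
  haveI : Fact (Nat.Prime 2) := ⟨Nat.prime_two⟩
  obtain ⟨t, ht, rfl⟩ := exists_involution_lift hodd hx
  let f : ↥(centralizer ({t} : Set G)) →* ↥(centralizer ({(t : G ⧸ N)} : Set (G ⧸ N))) :=
    { toFun := fun c => ⟨((c : G) : G ⧸ N), mem_cent.2 (by
        rw [← QuotientGroup.mk_mul, mem_cent.1 c.2, QuotientGroup.mk_mul])⟩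
      map_one' := rfl
      map_mul' := fun _ _ => rfl }
  refine Transfer.hasNormalPComplement_of_surjective f ?_ (hI t ht)
  rintro ⟨y, hy⟩
  obtain ⟨k, rfl⟩ := QuotientGroup.mk_surjective y
  have hsol : Group.IsSolvable (zpowers t) ∨ Group.IsSolvable N :=
    Or.inr (Cfsg.Agent.S0205.result hodd)
  obtain ⟨n, hn, hc⟩ := Core.exists_centralizing_in_coset (A := zpowers t) (N := N)
    le_normalizer_of_normal (by rw [Nat.card_zpowers, ht]; exact Nat.coprime_two_left.2 hodd) hsol
    (k := k) (fun a ha => by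
      obtain ⟨i, rfl⟩ := mem_zpowers_iff.1 ha
      rw [← QuotientGroup.eq_one_iff]
      have hc : Commute ((t : G ⧸ N) ^ i) (k : G ⧸ N) :=
        (Commute.zpow_left (show Commute (t : G ⧸ N) (k : G ⧸ N) from (mem_cent.1 hy).symm) i)
      rw [QuotientGroup.mk_mul, QuotientGroup.mk_inv, QuotientGroup.mk_mul, QuotientGroup.mk_mul,
        QuotientGroup.mk_inv, QuotientGroup.mk_zpow, hc.eq, mul_inv_cancel_right, inv_mul_cancel])
  refine ⟨⟨k * n, mem_cent.2 (mem_centralizer_iff.1 hc t (mem_zpowers t)).symm⟩, Subtype.ext ?_⟩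
  show ((k * n : G) : G ⧸ N) = k
  rw [QuotientGroup.mk_mul, (QuotientGroup.eq_one_iff n).2 hn, mul_one]

end TwoNilpCent

end CfsgLib.InvCent
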