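import Cfsg.Agent.Lib.InvCentTwoNilp.Points
import Cfsg.Agent.Lib.ZStar.Main

/-!
# Pairs: an odd group outside every `W` fixes at most two points (S3214)

Owner: helper5.
-/

set_option autoImplicit false
set_option linter.unusedSectionVars false

namespace CfsgLib.InvCent

open Subgroup CfsgLib.CIT
open CfsgLib.Signalizer (involution_sq involution_inv involution_ne_one orderOf_eq_two_of orderOf_conj)

universe u

variable {G : Type u} [Group G] [Finite G] [IsSimpleGroup G] {M : Subgroup G} (h : Ctx M)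
include h

theorem Ctx.subsingleton_fix {S : Subgroup G} (hS : Odd (Nat.card S))
    (hout : ∀ c : G ⧸ M, ¬ S ≤ Wp M c) (hfix : ∀ s ∈ S, s • base M = base M)
    (hswap : ∀ x : G ⧸ M, x ≠ base M → (∀ s ∈ S, s • x = x) →
      ∃ u ∈ normalizer (S : Set G), orderOf u = 2 ∧ u • base M = x)
    {x y : G ⧸ M} (hx : x ≠ base M) (hy : y ≠ base M) (hSx : ∀ s ∈ S, s • x = x)
    (hSy : ∀ s ∈ S, s • y = y) : x = y := by
  classical
  set N := normalizer (S : Set G) with hN
  -- involutions of `N` fix no fixed point of `S`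
  have hmove : ∀ u ∈ N, orderOf u = 2 → ∀ z : G ⧸ M, (∀ s ∈ S, s • z = z) → u • z ≠ z :=
    fun u hu h2 z hz e => hout z (h.le_Wp_of_invariant hS hz h2 e hu)
  -- no four group
  have hfour : ∀ u ∈ N, orderOf u = 2 → ∀ v ∈ N, orderOf v = 2 → u * v = v * u → u = v := by
    intro u hu h2 v hv h2' hc
    by_contra hne
    obtain ⟨p, hp⟩ := TwoGroups.SE.exists_fixed h.se h2
    have hpv := h.fix_of_commute h2 h2' hc hp
    have hE : Elem (zpowers u ⊔ zpowers v) := by
      have hz : ∀ w : G, orderOf w = 2 → Elem (zpowers w) := fun w hw x hx => by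
        obtain ⟨i, rfl⟩ := mem_zpowers_iff.1 hx
        rw [← (Commute.refl w).mul_zpow, involution_sq hw, one_zpow]
      refine (hz u h2).sup (hz v h2') fun a ha b hb => ?_
      obtain ⟨i, rfl⟩ := mem_zpowers_iff.1 ha
      obtain ⟨j, rfl⟩ := mem_zpowers_iff.1 hb
      exact (Commute.zpow_zpow (show Commute u v from hc) i j).eq
    have h3 : 3 ≤ Nat.card ↥(zpowers u ⊔ zpowers v) := by
      haveI := Fintype.ofFinite ↥(zpowers u ⊔ zpowers v)
      rw [Nat.card_eq_fintype_card]
      refine Fintype.two_lt_card_iff.2 ⟨1, ⟨u, mem_sup_left (mem_zpowers u)⟩,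
        ⟨v, mem_sup_right (mem_zpowers v)⟩, ?_, ?_, ?_⟩
      · exact fun e => involution_ne_one h2 (congrArg Subtype.val e).symm
      · exact fun e => involution_ne_one h2' (congrArg Subtype.val e).symm
      · exact fun e => hne (congrArg Subtype.val e)
    refine hout p (h.le_Wp_of_normalized (A := zpowers u ⊔ zpowers v) (fun e he => ?_) hE (hE.four_le h3)
      (sup_le (zpowers_le.2 hu) (zpowers_le.2 hv)) hS)
    have : zpowers u ⊔ zpowers v ≤ MulAction.stabilizer G p :=
      sup_le (zpowers_le.2 hp) (zpowers_le.2 hpv)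
    exact this he
  -- products of involutions of `N` lie in `O(N)`
  have hO : ∀ u ∈ N, orderOf u = 2 → ∀ v ∈ N, orderOf v = 2 →
      ∃ o : ↥N, o ∈ Cfsg.oddCore ↥N ∧ (o : G) = u * v := by
    have hodd : ∀ u ∈ N, orderOf u = 2 → ∀ v ∈ N, orderOf v = 2 → Odd (orderOf (u * v)) := by
      intro u hu h2 v hv h2'
      rw [← Nat.not_even_iff_odd]
      intro he
      obtain ⟨ht, htu, htv⟩ := Signalizer.central_involution h2 h2' he
      have htN : (u * v) ^ (orderOf (u * v) / 2) ∈ N := pow_mem (N.mul_mem hu hv) _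
      have e1 := hfour u hu h2 _ htN ht htu.symm.eq
      have e2 := hfour v hv h2' _ htN ht htv.symm.eq
      rw [show u = v from e1.trans e2.symm, involution_sq h2', orderOf_one] at he
      exact absurd he (by decide)
    intro u hu h2 v hv h2'
    refine ⟨⟨u, hu⟩ * ⟨v, hv⟩, ?_, rfl⟩
    have hu2 : orderOf (⟨u, hu⟩ : ↥N) = 2 := by rw [Subgroup.orderOf_mk, h2]
    -- `v` is conjugate to `u` in `N`
    obtain ⟨g, hg⟩ := isConj_iff.1 (TwoGroups.SE.isConj_of_odd_mul (a := (⟨u, hu⟩ : ↥N))
      (b := (⟨v, hv⟩ : ↥N)) hu2 (by rw [Subgroup.orderOf_mk, h2'])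
      (by rw [← orderOf_coe]; exact hodd u hu h2 v hv h2'))
    have h1 := ZStar.mem_oddCore_of_odd_commutator hu2 (fun g => by
      rw [← orderOf_coe]
      have hg' : orderOf ((g : G) * u * (g : G)⁻¹) = 2 := (orderOf_conj _ _).trans h2
      have := hodd u hu h2 _ (N.mul_mem (N.mul_mem g.2 hu) (N.inv_mem g.2)) hg'
      simpa [mul_assoc, involution_inv h2] using this) g
    rw [← hg]
    have e : (⟨u, hu⟩ : ↥N)⁻¹ = ⟨u, hu⟩ := involution_inv hu2
    rw [e] at h1
    convert h1 using 1
    group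
  -- `O(N)` fixes the base point
  have hOfix : ∀ o : ↥N, o ∈ Cfsg.oddCore ↥N → (o : G) • base M = base M := by
    intro o ho
    by_contra hne
    set x' := (o : G) • base M with hx'
    have hSx' : ∀ s ∈ S, s • x' = x' := fun s hs => by
      have hs' : (o : G)⁻¹ * s * o ∈ S := (mem_normalizer_iff''.1 o.2 s).1 hs
      rw [hx', ← mul_smul, show s * (o : G) = o * ((o : G)⁻¹ * s * o) by group, mul_smul, hfix _ hs']
    obtain ⟨u, hu, h2, hua⟩ := hswap x' hne hSx'
    -- `g = o⁻¹ u` fixes the base point and has an involution in its coset of `O(N)`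
    set u' : ↥N := ⟨u, hu⟩ with hu'
    set g : ↥N := o⁻¹ * u' with hg
    have hu2 : orderOf u' = 2 := by rw [hu', Subgroup.orderOf_mk, h2]
    have hgg : g * g ∈ Cfsg.oddCore ↥N := by
      rw [hg, show o⁻¹ * u' * (o⁻¹ * u') = o⁻¹ * (u' * o⁻¹ * u'⁻¹) * (u' * u') by group,
        involution_sq hu2, mul_one]
      exact mul_mem (inv_mem ho) (Subgroup.Normal.conj_mem inferInstance _ (inv_mem ho) u')
    have hn : Odd (orderOf (g * g)) := odd_orderOf_of_mem (ZStar.odd_card_oddCore _) hgg
    have hga : (g : G) • base M = base M := by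
      show ((o : G)⁻¹ * u) • base M = base M
      rw [mul_smul, hua, hx', inv_smul_smul]
    set n := orderOf (g * g) with hn'
    have hsq : g ^ n * g ^ n = 1 := by
      rw [← (Commute.refl g).mul_pow, pow_orderOf_eq_one]
    have hne1 : g ^ n ≠ 1 := by
      intro e1
      obtain ⟨k, hk⟩ := hn
      have hgO : g ∈ Cfsg.oddCore ↥N := by
        rw [show g = ((g * g) ^ k)⁻¹ * g ^ n by
          rw [hk, pow_succ, pow_mul, pow_two, inv_mul_cancel_left], e1, mul_one]
        exact inv_mem (pow_mem hgg k)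
      have : Odd (orderOf u') := odd_orderOf_of_mem (ZStar.odd_card_oddCore _)
        (show u' ∈ Cfsg.oddCore ↥N by
          rw [show u' = o * g by rw [hg, mul_inv_cancel_left]]; exact mul_mem ho hgO)
      rw [hu2] at this
      exact absurd this (by decide)
    refine hmove ((g ^ n : ↥N) : G) (g ^ n).2 ?_ (base M) hfix ?_
    · rw [orderOf_coe]
      exact orderOf_eq_two_of hne1 hsq
    · rw [Subgroup.coe_pow]
      exact pow_mem (MulAction.mem_stabilizer_iff.2 hga : (g : G) ∈ MulAction.stabilizer G (base M)) n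
  obtain ⟨u, hu, h2, hua⟩ := hswap x hx hSx
  obtain ⟨v, hv, h2', hva⟩ := hswap y hy hSy
  obtain ⟨o, ho, he⟩ := hO u hu h2 v hv h2'
  have h1 := hOfix o ho
  rw [he, mul_smul, hva] at h1
  calc x = u • base M := hua.symm
    _ = u • (u • y) := by rw [h1]
    _ = y := by rw [← mul_smul, involution_sq h2, one_smul]

end CfsgLib.InvCent
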