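import Cfsg.Agent.Lib.InvCentTwoNilp.Local
import Cfsg.Agent.Lib.PGroups.Basic

/-!
# Swappers and `p`-subgroups of two point stabilisers (S3214)

Owner: helper5.
-/

set_option autoImplicit false
set_option linter.unusedSectionVars false

namespace CfsgLib.InvCent

open Subgroup CfsgLib.CIT
open CfsgLib.Signalizer (involution_sq involution_inv involution_ne_one orderOf_eq_two_of orderOf_conj)

universe u

variable {G : Type u} [Group G] [Finite G] [IsSimpleGroup G] {M : Subgroup G}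

theorem mem_DD_of_swap {u : G} (hu : orderOf u = 2) {x : G ⧸ M} (hux : u • base M = x) {d : G}
    (hd : d ∈ DD M x) : u * d * u⁻¹ ∈ DD M x :=
  (mem_normalizer_iff.1 (swap_mem_normalizer hu hux) d).1 hd

/-- A swapper exchanges the two conjugates of `W`. -/
theorem swap_Wp {u : G} {x : G ⧸ M} (hux : u • base M = x) {d : G} (hd : d ∈ Wc M) :
    u * d * u⁻¹ ∈ Wp M x := by
  rw [← hux, Wp_smul, conj_mem_cj, Wp_base]
  exact hd

theorem swap_Wp' {u : G} (hu : orderOf u = 2) {x : G ⧸ M} (hux : u • base M = x) {d : G}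
    (hd : d ∈ Wp M x) : u * d * u⁻¹ ∈ Wc M := by
  have h1 : Wc M = cj u (Wp M x) := by rw [← Wp_smul, smul_back hu hux, Wp_base]
  rw [h1, conj_mem_cj]
  exact hd

namespace Ctx

variable (h : Ctx M)
include h

/-- A swapper normalising a Sylow subgroup of the two point stabiliser containing a given subgroup. -/
theorem exists_invariant_swapper {p : ℕ} [hp : Fact p.Prime] (hp2 : p ≠ 2) {x : G ⧸ M}
    (hx : x ≠ base M) {S : Subgroup G} (hS : S ≤ DD M x) (hSp : IsPGroup p S) :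
    ∃ u R, orderOf u = 2 ∧ u • base M = x ∧ SylP p R (DD M x) ∧ S ≤ R ∧
      u ∈ normalizer (R : Set G) := by
  obtain ⟨u, hu, hua, -⟩ := h.exists_swapper hx.symm
  have hn : Subgroup.zpowers u ≤ normalizer (DD M x : Set G) :=
    zpowers_le.2 (swap_mem_normalizer hu hua)
  obtain ⟨R0, hR0, hR0u⟩ := exists_invariant_sylP (p := p) hn
    (by rw [Nat.card_zpowers, hu]; exact (h.odd_DD hx).coprime_two_left) (h.odd_DD hx)
  obtain ⟨R, hR, hSR⟩ := exists_sylP_ge hS hSp
  obtain ⟨d, hd, e⟩ := hR0.exists_conj hR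
  refine ⟨d * u * d⁻¹, R, (orderOf_conj d u).trans hu, ?_, hR, hSR, ?_⟩
  · rw [mul_smul, mul_smul, smul_base_eq_iff.2 (M.inv_mem hd.1), hua]
    exact hd.2
  · rw [← e, normalizer_cj, conj_mem_cj]
    exact hR0u (mem_zpowers u)

/-- `mod_W_unique` at a further point. -/
theorem mod_Wp_unique {p : ℕ} [hp : Fact p.Prime] (hp2 : p ≠ 2) {z : G ⧸ M} (hz : z ≠ base M)
    {R : Subgroup G} (hR : R ≤ DD M z) (hRp : IsPGroup p R) {x y : G} (hx : x ∈ R)
    (hxW : x ∉ Wp M z) (hxp : x ^ p ∈ Wp M z) (hy : y ∈ R) (hyp : y ^ p ∈ Wp M z) :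
    ∃ j : ℤ, (x ^ j)⁻¹ * y ∈ Wp M z := by
  obtain ⟨u, hu, hua, -⟩ := h.exists_swapper hz.symm
  have hRu : cj u R ≤ M := fun g hg => by
    have h1 := cj_mono (g := u) hR hg
    rw [mem_normalizer_iff_cj.1 (swap_mem_normalizer hu hua)] at h1
    exact h1.1
  have hback : ∀ g, u * g * u⁻¹ ∈ Wc M → g ∈ Wp M z := fun g hg => by
    have := swap_Wp hua hg
    rwa [show u * (u * g * u⁻¹) * u⁻¹ = (u * u) * g * (u * u)⁻¹ by group, involution_sq hu, one_mul,
      inv_one, mul_one] at this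
  obtain ⟨j, hj⟩ := h.mod_W_unique hp2 hRu (hRp.map _) (x := u * x * u⁻¹) (y := u * y * u⁻¹)
    (conj_mem_cj.2 hx) (fun e => hxW (hback x e)) (by rw [conj_pow]; exact swap_Wp' hu hua hxp)
    (conj_mem_cj.2 hy) (by rw [conj_pow]; exact swap_Wp' hu hua hyp)
  refine ⟨j, hback _ ?_⟩
  convert hj using 1
  rw [conj_zpow]
  group

theorem comm_mem_Wp {p : ℕ} [hp : Fact p.Prime] (hp2 : p ≠ 2) {z : G ⧸ M} (hz : z ≠ base M)
    {R : Subgroup G} (hR : R ≤ DD M z) (hRp : IsPGroup p R) {x y : G} (hx : x ∈ R) (hy : y ∈ R) :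
    x * y * x⁻¹ * y⁻¹ ∈ Wp M z := by
  obtain ⟨u, hu, hua, -⟩ := h.exists_swapper hz.symm
  have hRu : cj u R ≤ M := fun g hg => by
    have h1 := cj_mono (g := u) hR hg
    rw [mem_normalizer_iff_cj.1 (swap_mem_normalizer hu hua)] at h1
    exact h1.1
  have h1 := swap_Wp hua (h.comm_mem_W hp2 hRu (hRp.map _) ((conj_mem_cj (g := u)).2 hx)
    ((conj_mem_cj (g := u)).2 hy))
  convert h1 using 1
  have e := involution_inv hu
  have e2 := involution_sq hu
  calc x * y * x⁻¹ * y⁻¹ = u * u * (x * y * x⁻¹ * y⁻¹) * (u * u)⁻¹ := by rw [e2]; group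
    _ = _ := by group

end Ctx

omit [IsSimpleGroup G] in
/-- A `p`-element of order `p` in a nontrivial `p`-group. -/
theorem exists_orderOf_eq {p : ℕ} [hp : Fact p.Prime] {R : Subgroup G} (hR : IsPGroup p R)
    (hne : R ≠ ⊥) : ∃ z ∈ R, orderOf z = p := by
  obtain ⟨k, hk⟩ := hR.exists_card_eq
  obtain ⟨z, hz⟩ := exists_prime_orderOf_dvd_card' (G := ↥R) p (by
    rw [hk]
    refine dvd_pow_self p fun e => hne ((card_eq_one (H := R)).1 ?_)
    rw [hk, e, pow_zero])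
  exact ⟨z, z.2, by rw [orderOf_coe]; exact hz⟩

end CfsgLib.InvCent
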