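import Cfsg.Agent.Lib.InvCentTwoNilp.Good
import Cfsg.Agent.Lib.InvCentTwoNilp.Swap
import Cfsg.Agent.Lib.InvCentTwoNilp.Par
import Cfsg.Agent.Lib.Core.SolvableStruct

/-!
# Prime divisors of `q - 1` and of `|W|` are bad (S3214)

Owner: helper5.
-/

set_option autoImplicit false
set_option linter.unusedSectionVars false

namespace CfsgLib.InvCent

open Subgroup CfsgLib.CIT
open CfsgLib.Signalizer (involution_sq involution_inv involution_ne_one orderOf_eq_two_of orderOf_conj)
open CfsgLib.TwoGroups.SE (smul_mk_eq_iff)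

universe u

variable {G : Type u} [Group G] [Finite G] [IsSimpleGroup G] {M T : Subgroup G}

namespace Ctx

variable (h : Ctx M)
include h

/-- Elements of `W` of order `p` centralised by involutions which also lie in a second `W` do not exist. -/
theorem eq_base_of_centralizer_le {p : ℕ} [hp : Fact p.Prime]
    (hC : ∀ z ∈ Wc M, orderOf z = p →
      centralizer ({z} : Set G) ≤ M ∧ ∃ t ∈ M, orderOf t = 2 ∧ t * z = z * t)
    {z : G} (hz : z ∈ Wc M) (ho : orderOf z = p) {x : G ⧸ M} (hzx : z ∈ Wp M x) : x = base M := by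
  obtain ⟨-, t, htM, ht, htz⟩ := hC z hz ho
  obtain ⟨g, rfl⟩ := QuotientGroup.mk_surjective x
  rw [Wp_mk, mem_cj] at hzx
  have ho' : orderOf (g⁻¹ * z * g) = p := (TwoGroups.SE.orderOf_conj' g z).trans ho
  have htg := (hC _ hzx ho').1 (mem_cent.2 (show g⁻¹ * t * g * (g⁻¹ * z * g) = _ by
    calc g⁻¹ * t * g * (g⁻¹ * z * g) = g⁻¹ * (t * z) * g := by group
      _ = g⁻¹ * z * g * (g⁻¹ * t * g) := by rw [htz]; group))
  exact TwoGroups.SE.fixed_unique h.se ht ((smul_mk_eq_iff t g).2 htg) (smul_base_eq_iff.2 htM)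

variable (hT : IsSyl T M) {p : ℕ} [hp : Fact p.Prime] {Q : Subgroup G}
include hT

/-- G1: a prime dividing `q - 1` and `|W|` is bad. -/
theorem not_good_of_dvd (hQ : SylP p Q (Wc M)) (hQ1 : Q ≠ ⊥) (hgood : normalizer (Q : Set G) ≤ M)
    (hdvd : p ∣ Nat.card (invSub T) - 1) : False := by
  classical
  obtain ⟨z1, hz1, hz1o⟩ := exists_orderOf_eq hQ.isPGroup hQ1
  have hp2 : p ≠ 2 := ne_two_of_mem (hQ.le hz1) hz1o
  -- a Sylow subgroup of `M` normalising `Q`
  obtain ⟨R, hR, hQR⟩ := exists_sylP_ge (hQ.le.trans (Wc_le M)) hQ.isPGroup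
  have hRW : R ⊓ Wc M = Q := (hQ.eq_of_le (le_inf hQR hQ.le) inf_le_right
    (hR.isPGroup.to_le inf_le_left)).symm
  set K := M ⊓ normalizer (Q : Set G) with hK
  have hRK : R ≤ K := by
    refine le_inf hR.le fun r hr => ?_
    rw [mem_normalizer_iff_cj, ← hRW, CIT.cj, map_inf_eq _ _ _ (MulAut.conj r).injective]
    congr 1
    · exact mem_normalizer_iff_cj.1 (le_normalizer hr)
    · exact mem_normalizer_iff_cj.1 (Wc_normalized M (hR.le hr))
  obtain ⟨T', hT', hT'Q⟩ := h.exists_syl_normalizing hT hQ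
  have hTK : T' ≤ K := le_inf hT'.1 hT'Q
  have hKQ : Q ≤ K := le_inf (hQ.le.trans (Wc_le M)) le_normalizer
  obtain ⟨S, hS⟩ := (hR.of_le hRK inf_le_left).exists_sylow
  set N0 := Cfsg.pPrimeCore p ↥K with hN0
  have hN0c : (Nat.card N0).Coprime p := Core.coprime_card_pPrimeCore p ↥K
  set x0 := h.exists_ne_base.choose with hx0
  have hx0' : x0 ≠ base M := h.exists_ne_base.choose_spec
  by_cases hodd : Odd (Nat.card N0)
  · -- `Z(J R)` is normalised by a Sylow 2-subgroup of `M`
    set π := QuotientGroup.mk' N0 with hπ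
    have hsurj : Function.Surjective π := QuotientGroup.mk'_surjective N0
    haveI := h.isSolvable_M
    haveI : Group.IsSolvable K := Group.isSolvable_of_isSolvable_injective
      (f := Subgroup.inclusion (inf_le_left : K ≤ M)) (Subgroup.inclusion_injective _)
    haveI : Group.IsSolvable (↥K ⧸ N0) := Group.isSolvable_of_surjective hsurj
    have hnq : Transfer.NoQuad p (↥K ⧸ N0) := ((h.hI.subgroup K).quotient hodd).noQuad hp2
    have hnorm := Transfer.centerThompson_normal hp2
      (Core.centralizer_pCore_le_of_pPrimeCore_eq_bot (Core.pPrimeCore_quotient_pPrimeCore p ↥K))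
      (S.mapSurjective hsurj) (Transfer.stableAt_of_noQuad hnq _)
    have hdisj : Disjoint (S : Subgroup ↥K) π.ker := by
      rw [QuotientGroup.ker_mk']
      obtain ⟨k, hk⟩ := S.2.exists_card_eq
      exact disjoint_iff.2 (inf_eq_bot_of_coprime (hk ▸ (hN0c.pow_right k).symm))
    set Zk := Cfsg.centerThompsonOf p (S : Subgroup ↥K) with hZk
    have hmap : Zk.map π = Cfsg.centerThompsonOf p ((S.mapSurjective hsurj : Sylow p (↥K ⧸ N0)) :
        Subgroup (↥K ⧸ N0)) := Transfer.centerThompsonOf_map π _ hdisj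
    haveI hYn : (Zk ⊔ N0).Normal := by
      have e : Zk ⊔ N0 = (Zk.map π).comap π := by rw [comap_map_eq, QuotientGroup.ker_mk']
      rw [e, hmap]
      exact hnorm.comap π
    set Z := Cfsg.centerThompsonOf p R with hZ
    have hZmap : Zk.map K.subtype = Z := by
      rw [hZ, ← hS]
      exact Transfer.centerThompsonOf_map K.subtype _ (by rw [ker_subtype]; exact disjoint_bot_right)
    set Y := (Zk ⊔ N0).map K.subtype with hY
    have hYK : K ≤ normalizer (Y : Set G) := by
      refine le_trans (le_of_eq ?_) (le_normalizer_map _)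
      rw [normalizer_eq_top_iff.2 hYn, ← MonoidHom.range_eq_map, range_subtype]
    have hRp : IsPGroup p R := hR.isPGroup
    have hZp : IsPGroup p Z := hRp.to_le (Transfer.centerThompsonOf_le R)
    obtain ⟨zc, hzc⟩ := hZp.exists_card_eq
    have hcard : Nat.card Y = Nat.card Z * Nat.card N0 := by
      rw [hY, card_map_of_injective (subtype_injective _), Core.card_sup_of_disjoint _ _
        le_normalizer_of_normal, ← hZmap, card_map_of_injective (subtype_injective _)]
      exact disjoint_iff.1 ((hdisj.mono_left (Transfer.centerThompsonOf_le _)).mono_right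
        (QuotientGroup.ker_mk' N0).ge)
    have hYodd : Odd (Nat.card Y) := by
      rw [hcard, hzc]; exact ((hp.out.odd_of_ne_two hp2).pow).mul hodd
    have hYM : Y ≤ M := (map_subtype_le _).trans inf_le_left
    -- the product with `W` is normal in `M`
    have hYW : Z ≤ Wc M := by
      have hYn' : Y ≤ normalizer (Wc M : Set G) := hYM.trans (Wc_normalized M)
      have h1 : Odd (Nat.card ↥(Y ⊔ Wc M)) :=
        (hYodd.mul (odd_Wc M)).of_dvd_nat (Core.card_sup_dvd Y (Wc M) hYn')
      have h2 : M ≤ normalizer ((Y ⊔ Wc M : Subgroup G) : Set G) := by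
        intro m hm
        obtain ⟨w, hw, hwm⟩ := hQ.frattini (Wc_normalized M hm)
        have hk : w * m ∈ K := ⟨M.mul_mem (Wc_le M hw) hm, hwm⟩
        have h3 : w * m ∈ normalizer ((Y ⊔ Wc M : Subgroup G) : Set G) := by
          rw [mem_normalizer_iff_cj, CIT.cj, Subgroup.map_sup]
          exact congrArg₂ (· ⊔ ·) (mem_normalizer_iff_cj.1 (hYK hk))
            (mem_normalizer_iff_cj.1 (Wc_normalized M (M.mul_mem (Wc_le M hw) hm)))
        rw [show m = w⁻¹ * (w * m) by group]
        exact mul_mem (le_normalizer (mem_sup_right (inv_mem hw))) h3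
      refine le_trans ?_ (le_sup_left.trans (le_Wc (sup_le hYM (Wc_le M)) h2 h1))
      rw [← hZmap, hY]
      exact map_mono le_sup_left
    have hZQ : Z ≤ Q := hRW ▸ le_inf (Transfer.centerThompsonOf_le R) hYW
    have hZ1 : Z ≠ ⊥ := Transfer.centerThompsonOf_ne_bot hRp fun e => hQ1 (le_bot_iff.1 (e ▸ hQR))
    have hZs : SylP p Z Y := by
      refine ⟨hZmap ▸ map_mono le_sup_left, ?_⟩
      rw [hcard, Nat.factorization_mul Nat.card_pos.ne' Nat.card_pos.ne', Finsupp.add_apply,
        Nat.factorization_eq_zero_of_not_dvd (fun e => hp.out.one_lt.ne'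
          (Nat.eq_one_of_dvd_coprimes hN0c e dvd_rfl)), add_zero, hzc,
        hp.out.factorization_pow, Finsupp.single_eq_same]
    obtain ⟨k2, hk2⟩ := hT'.2.1.exists_card_eq
    obtain ⟨P1, hP1, hP1T⟩ := exists_invariant_sylP (p := p) (hTK.trans hYK)
      (by rw [hk2]; exact hYodd.coprime_two_left.pow_left k2) hYodd
    obtain ⟨y, hy, hye⟩ := hP1.exists_conj hZs
    have hT'' : IsSyl (cj y T') M := by
      have h' := hT'.cj y
      rwa [mem_normalizer_iff_cj.1 (le_normalizer (hYM hy))] at h'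
    have hNZ : normalizer (Z : Set G) ≤ M :=
      h.normalizer_le hT hQ hgood (hZQ.trans hQ.le) hZp hZ1 (h.hyp_invSub hT hT'')
        ((h.invSub_le hT'').trans (by rw [← hye, normalizer_cj]; exact cj_mono hP1T))
    have hRt := hR.top_of_normalizer_le
      ((Transfer.normalizer_le_normalizer_centerThompson R).trans hNZ)
    obtain ⟨S', hS'⟩ := hRt.exists_sylow_top
    -- fusion of `p`-elements inside `M`
    have hfus : ∀ x : G, x ∈ M → (∃ k, orderOf x = p ^ k) → ∀ g : G, g * x * g⁻¹ ∈ M →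
        ∃ m ∈ M, m * x * m⁻¹ = g * x * g⁻¹ := by
      intro x hx hxo g hgx
      obtain ⟨k, hk⟩ := hxo
      have hpg : ∀ c : G, IsPGroup p (Subgroup.zpowers (c * x * c⁻¹)) := fun c =>
        IsPGroup.of_card (n := k) (by rw [Nat.card_zpowers, orderOf_conj, hk])
      obtain ⟨a, ha, haR⟩ := hR.exists_conj_ge (Q := Subgroup.zpowers (1 * x * 1⁻¹))
        (zpowers_le.2 (by simpa using hx)) (hpg 1)
      obtain ⟨b, hb, hbR⟩ := hR.exists_conj_ge (Q := Subgroup.zpowers (g * x * g⁻¹))
        (zpowers_le.2 hgx) (hpg g)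
      have hax : a * x * a⁻¹ ∈ R := haR (conj_mem_cj.2 (by simp [mem_zpowers]))
      have hbx : b * (g * x * g⁻¹) * b⁻¹ ∈ R := hbR (conj_mem_cj.2 (mem_zpowers _))
      obtain ⟨n, hn, hne⟩ := Transfer.zj_controls_fusion hp2 (h.hI.noQuad hp2) S' {a * x * a⁻¹}
        (Set.singleton_subset_iff.2 (show _ ∈ (S' : Subgroup G) by rw [hS']; exact hax))
        (b * g * a⁻¹) (by
          rintro _ ⟨_, rfl, rfl⟩
          show _ ∈ (S' : Subgroup G)
          rw [hS']
          show b * g * a⁻¹ * (a * x * a⁻¹) * (b * g * a⁻¹)⁻¹ ∈ R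
          convert hbx using 1
          group)
      rw [hS'] at hn
      have he := hne _ rfl
      refine ⟨b⁻¹ * n * a, M.mul_mem (M.mul_mem (M.inv_mem hb) (hNZ hn)) ha, ?_⟩
      calc b⁻¹ * n * a * x * (b⁻¹ * n * a)⁻¹ = b⁻¹ * (n * (a * x * a⁻¹) * n⁻¹) * b := by group
        _ = g * x * g⁻¹ := by rw [he]; group
    obtain ⟨u, R1, hu, hua, hR1, -, huR⟩ :=
      h.exists_invariant_swapper (p := p) hp2 hx0' bot_le IsPGroup.of_bot
    refine h.not_sylP_DD_le_W hT hdvd hx0' hR1 fun s hs => ?_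
    have hodd1 : Odd (Nat.card R1) := by
      obtain ⟨k, hk⟩ := hR1.isPGroup.exists_card_eq
      rw [hk]; exact (hp.out.odd_of_ne_two hp2).pow
    obtain ⟨c, hc, v, hv, huc, huv, e, -⟩ := exists_centralized_mul_inverted hodd1 hu huR hs
    have hord : ∀ d ∈ R1, ∃ k, orderOf d = p ^ k := fun d hd => by
      obtain ⟨k, hk⟩ := IsPGroup.iff_orderOf.1 hR1.isPGroup ⟨d, hd⟩
      exact ⟨k, by rw [← hk, Subgroup.orderOf_mk]⟩
    rw [e]
    refine mul_mem ?_ (inv_mem ?_)
    · obtain ⟨y, hy⟩ := TwoGroups.SE.exists_fixed (H := M) h.se hu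
      have hcy := h.mem_Wp_of_centralized hu hy huc.symm (odd_orderOf_of_mem hodd1 hc)
      rw [mem_Wp_iff] at hcy
      obtain ⟨m, hm, hme⟩ := hfus c (hR1.le hc).1 (hord c hc) (y.out⁻¹) (by
        rw [inv_inv]; exact Wc_le M hcy)
      rw [inv_inv] at hme
      rw [← hme] at hcy
      have := conj_mem_Wc (M.inv_mem hm) hcy
      rwa [show m⁻¹ * (m * c * m⁻¹) * m⁻¹⁻¹ = c by group] at this
    · obtain ⟨m, hm, hme⟩ := hfus v (hR1.le hv).1 (hord v hv) u (by
        rw [huv]; exact M.inv_mem (hR1.le hv).1)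
      rw [huv] at hme
      exact h.mem_W_of_real (hR1.le hv).1 hm (odd_orderOf_of_mem hodd1 hv) hme
  · -- an involution of `O_{p'}(K)` centralises `Q`
    haveI : Fact (Nat.Prime 2) := ⟨Nat.prime_two⟩
    obtain ⟨t0, ht0⟩ := exists_prime_orderOf_dvd_card' (G := ↥N0) 2
      (even_iff_two_dvd.1 (Nat.not_odd_iff_even.1 hodd))
    set t : G := ((t0 : ↥K) : G) with htdef
    have htK : t ∈ K := (t0 : ↥K).2
    have ht : orderOf t = 2 := by rw [htdef, orderOf_coe, orderOf_coe, ht0]
    haveI : (Q.subgroupOf K).Normal := normal_subgroupOf_of_le_normalizer inf_le_right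
    have htc : ∀ y ∈ Q, t * y = y * t := by
      intro y hy
      obtain ⟨k, hk⟩ := hQ.isPGroup.exists_card_eq
      have hd : N0 ⊓ Q.subgroupOf K = ⊥ := inf_eq_bot_of_coprime (by
        rw [Nat.card_congr (subgroupOfEquivOfLe hKQ).toEquiv, hk]
        exact hN0c.pow_right k)
      have e := commute_of_normal_of_disjoint N0 (Q.subgroupOf K) inferInstance inferInstance
        (disjoint_iff.2 hd) (t0 : ↥K) ⟨y, hKQ hy⟩ t0.2 (mem_subgroupOf.2 hy)
      exact congrArg Subtype.val e.eq
    -- every involution of `M` centralises a Sylow subgroup of `W`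
    have hall : ∀ s ∈ M, orderOf s = 2 → ∃ w ∈ Wc M, ∀ y ∈ cj w Q, s * y = y * s := by
      intro s hs h2
      obtain ⟨c, hc, hce⟩ := h.conj_M htK.1 ht hs h2
      obtain ⟨w, hw, hwc⟩ := hQ.frattini (Wc_normalized M hc)
      refine ⟨w⁻¹, inv_mem hw, fun y hy => ?_⟩
      rw [mem_cj, inv_inv] at hy
      have h1 := htc _ ((mem_normalizer_iff''.1 hwc _).1 hy)
      rw [← hce]
      calc c * t * c⁻¹ * y = c * (t * ((w * c)⁻¹ * (w * y * w⁻¹) * (w * c))) * c⁻¹ := by group
        _ = y * (c * t * c⁻¹) := by rw [h1]; group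
    set A' := invSub T' with hA'
    have hA'Q : ∀ a ∈ A', ∀ y ∈ Q, a * y = y * a := by
      intro a ha y hy
      by_cases ha1 : a = 1
      · rw [ha1, one_mul, mul_one]
      have hao := (h.invSub_elem hT').orderOf_eq ha ha1
      have haM : a ∈ M := hT'.1 (h.invSub_le hT' ha)
      obtain ⟨w, hw, hwQ⟩ := hall a haM hao
      have hAn : Subgroup.zpowers a ≤ normalizer (Wc M : Set G) := zpowers_le.2 (Wc_normalized M haM)
      have hs : SylP p (cj w Q) (Wc M) := hQ.cj_of_mem (le_normalizer hw)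
      obtain ⟨c, hc, hce⟩ := hs.exists_centralizing_conj hQ hAn
        (by rw [Nat.card_zpowers, hao]; exact (odd_Wc M).coprime_two_left) (odd_Wc M)
        (zpowers_le.2 (mem_normalizer_iff.2 fun y => by
          constructor <;> intro hy
          · rwa [hwQ y hy, mul_inv_cancel_right]
          · have e := hwQ _ hy
            have : y = a * y * a⁻¹ := by
              calc y = a⁻¹ * (a * y * a⁻¹) * a := by group
                _ = a⁻¹ * (a * (a * y * a⁻¹)) := by rw [e]; group
                _ = _ := by group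
            rwa [this]))
        (zpowers_le.2 (hT'Q (h.invSub_le hT' ha)))
      rw [← hce, mem_cj] at hy
      have e := hwQ _ hy
      have hca : a * c = c * a := mem_centralizer_iff.1 hc.2 a (mem_zpowers a)
      calc a * y = a * c * (c⁻¹ * y * c) * c⁻¹ := by group
        _ = c * (a * (c⁻¹ * y * c)) * c⁻¹ := by rw [hca]; group
        _ = y * (c * a) * c⁻¹ := by rw [e]; group
        _ = y * a := by rw [← hca]; group
    have hC : ∀ z ∈ Wc M, orderOf z = p →
        centralizer ({z} : Set G) ≤ M ∧ ∃ t ∈ M, orderOf t = 2 ∧ t * z = z * t := by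
      intro z hz hzo
      obtain ⟨w, hw, hwz⟩ := hQ.exists_conj_ge (zpowers_le.2 hz)
        (IsPGroup.of_card (n := 1) (by rw [Nat.card_zpowers, hzo, pow_one]))
      have hzQ : w * z * w⁻¹ ∈ Q := hwz (conj_mem_cj.2 (mem_zpowers z))
      have hT'' : IsSyl (cj w⁻¹ T') M := by
        have h' := hT'.cj w⁻¹
        rwa [mem_normalizer_iff_cj.1 (le_normalizer (M.inv_mem (Wc_le M hw)))] at h'
      have hcz : ∀ b ∈ invSub (cj w⁻¹ T'), b * z = z * b := by
        intro b hb
        rw [invSub_cj, mem_cj, inv_inv] at hb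
        have e := hA'Q _ hb _ hzQ
        calc b * z = w⁻¹ * (w * b * w⁻¹ * (w * z * w⁻¹)) * w := by group
          _ = z * b := by rw [e]; group
      refine ⟨h.centralizer_le hT hQ hgood hz hzo (h.hyp_invSub hT hT'') hcz, ?_⟩
      obtain ⟨t, ht, ht2⟩ := exists_involution_of_elem (h.invSub_elem hT'')
        (by have := h.eight_le_invSub hT''; omega)
      exact ⟨t, hT''.1 (h.invSub_le hT'' ht), ht2, hcz t ht⟩
    -- order `p` elements of `W` fix only the base point
    have hU : ∀ x : G ⧸ M, x ≠ base M → ∀ z ∈ Wc M, z • x = x → orderOf z = p → False := by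
      intro x hx z hzW hzx hzo
      have hzD : z ∈ DD M x := ⟨Wc_le M hzW, hzx⟩
      obtain ⟨u, R1, hu, hua, hR1, hSR, huR⟩ := h.exists_invariant_swapper hp2 hx
        (zpowers_le.2 hzD) (IsPGroup.of_card (n := 1) (by rw [Nat.card_zpowers, hzo, pow_one]))
      have hzR : z ∈ R1 := hSR (mem_zpowers z)
      have hno : ∀ x' : G ⧸ M, x' ≠ base M → ∀ w : G, w ∈ Wc M → w ∈ Wp M x' →
          (∃ k, orderOf w = p ^ k) → w = 1 := by
        intro x' hx' w hw hw' ⟨k, hk⟩
        by_contra hw1
        rcases Nat.eq_zero_or_pos k with rfl | hk0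
        · exact hw1 (orderOf_eq_one_iff.1 (by rw [hk, pow_zero]))
        refine hx' (h.eq_base_of_centralizer_le hC (pow_mem hw (p ^ (k - 1)))
          ?_ (pow_mem hw' (p ^ (k - 1))))
        rw [orderOf_pow_of_dvd (pow_ne_zero _ hp.out.ne_zero) (hk ▸ pow_dvd_pow p (Nat.sub_le k 1)), hk,
          Nat.pow_div (Nat.sub_le k 1) hp.out.pos, show k - (k - 1) = 1 by omega, pow_one]
      have hord : ∀ R' : Subgroup G, IsPGroup p R' → ∀ d ∈ R', ∃ k, orderOf d = p ^ k :=
        fun R' hR' d hd => by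
          obtain ⟨k, hk⟩ := IsPGroup.iff_orderOf.1 hR' ⟨d, hd⟩
          exact ⟨k, by rw [← hk, Subgroup.orderOf_mk]⟩
      -- `p`-subgroups of two point stabilisers are abelian
      have hab : ∀ x' : G ⧸ M, x' ≠ base M → ∀ R' : Subgroup G, R' ≤ DD M x' → IsPGroup p R' →
          ∀ c ∈ R', ∀ d ∈ R', c * d = d * c := by
        intro x' hx' R' hR' hp' c hc d hd
        have e := hno x' hx' _ (h.comm_mem_W hp2 (hR'.trans DD_le) hp' hc hd)
          (h.comm_mem_Wp hp2 hx' hR' hp' hc hd)
          (hord R' hp' _ (R'.mul_mem (R'.mul_mem (R'.mul_mem hc hd) (R'.inv_mem hc)) (R'.inv_mem hd)))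
        rw [mul_inv_eq_one, mul_inv_eq_iff_eq_mul] at e
        exact e
      set z' := u * z * u⁻¹ with hz'
      have hz'R : z' ∈ R1 := (mem_normalizer_iff.1 huR z).1 hzR
      have hz'D := hR1.le hz'R
      have hz'W : z' ∈ Wp M x := swap_Wp hua hzW
      have hz'o : orderOf z' = p := (orderOf_conj u z).trans hzo
      have hzne : z ≠ 1 := fun e => hp.out.one_lt.ne (by rw [← hzo, e, orderOf_one])
      have hz'ne : z' ≠ 1 := fun e => hzne (conj_eq_one_iff.1 e)
      have hcomm : z * z' = z' * z := hab x hx R1 hR1.le hR1.isPGroup z hzR z' hz'R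
      -- the product is centralised by `u`
      have hku : z * z' * u = u * (z * z') := by
        have e1 : u * z = z' * u := by rw [hz']; group
        have e2 : u * z' = z * u := by
          calc u * z' = u * u * z * u⁻¹ := by rw [hz']; group
            _ = z * u := by rw [involution_sq hu, one_mul, involution_inv hu]
        calc z * z' * u = z' * (z * u) := by rw [hcomm, mul_assoc]
          _ = z' * (u * z') := by rw [e2]
          _ = u * (z * z') := by rw [← mul_assoc z' u, ← e1, mul_assoc]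
      have hk1 : z * z' ≠ 1 := fun e => by
        have hzz : z⁻¹ = z' := inv_eq_of_mul_eq_one_right e
        exact hzne (hno x hx z hzW (by rw [← inv_inv z, hzz]; exact inv_mem hz'W) ⟨1, by rw [hzo, pow_one]⟩)
      have hko : orderOf (z * z') = p := orderOf_eq_prime
        (by rw [(show Commute z z' from hcomm).mul_pow, ← hzo, pow_orderOf_eq_one, one_mul, hzo, ← hz'o,
          pow_orderOf_eq_one]) hk1
      obtain ⟨y, hy⟩ := TwoGroups.SE.exists_fixed (H := M) h.se hu
      have hya : y ≠ base M := fun e => hx (by rw [← hua, ← e, hy])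
      have hyx : y ≠ x := fun e => hx (by
        rw [← smul_back hu hua, ← e, hy])
      have hky := h.mem_Wp_of_centralized hu hy hku
        (odd_orderOf_of_mem (h.odd_DD hx) ((DD M x).mul_mem (hR1.le hzR) hz'D))
      have hzy : z • y = y := by
        rw [fix_iff_out]
        rw [mem_Wp_iff] at hky
        refine (hC _ hky ((conj_out _).trans hko)).1 (mem_cent.2 ?_)
        calc y.out⁻¹ * z * y.out * (y.out⁻¹ * (z * z') * y.out)
            = y.out⁻¹ * (z * (z * z')) * y.out := by group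
          _ = y.out⁻¹ * ((z * z') * z) * y.out := by rw [mul_assoc z z' z, ← hcomm]
          _ = _ := by group
      have hz'y : z' • y = y := by
        have := mul_smul z z' y
        rw [Wp_le_stab hky] at this
        calc z' • y = z⁻¹ • (z • (z' • y)) := (inv_smul_smul z _).symm
          _ = z⁻¹ • y := by rw [← this]
          _ = y := by conv_lhs => rw [← hzy, inv_smul_smul]
      set S0 := Subgroup.zpowers z ⊔ Subgroup.zpowers z' with hS0
      have hS0R : S0 ≤ R1 := sup_le (zpowers_le.2 hzR) (zpowers_le.2 hz'R)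
      have hfixS : ∀ q : G ⧸ M, z • q = q → z' • q = q → ∀ s ∈ S0, s • q = q := fun q h1 h2 s hs =>
        (sup_le (zpowers_le.2 h1) (zpowers_le.2 h2) : S0 ≤ MulAction.stabilizer G q) hs
      refine hyx (h.subsingleton_fix (S := S0)
        ((h.odd_DD hx).of_dvd_nat (card_dvd_of_le (hS0R.trans hR1.le))) (fun c hle => ?_)
        (fun s hs => smul_base_eq_iff.2 (hR1.le (hS0R hs)).1) (fun x' hx' hfix' => ?_) hya hx
        (hfixS y hzy hz'y) (hfixS x hzx hz'D.2))
      · by_cases hca : c = base M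
        · subst hca
          rw [Wp_base] at hle
          exact hz'ne (hno x hx z' (hle (mem_sup_right (mem_zpowers z'))) hz'W ⟨1, by rw [hz'o, pow_one]⟩)
        · exact hzne (hno c hca z hzW (hle (mem_sup_left (mem_zpowers z))) ⟨1, by rw [hzo, pow_one]⟩)
      · have hS' : S0 ≤ DD M x' := fun s hs => ⟨(hR1.le (hS0R hs)).1, hfix' s hs⟩
        obtain ⟨u', R', hu', hua', hR', hSR', huR'⟩ :=
          h.exists_invariant_swapper hp2 hx' hS' (hR1.isPGroup.to_le hS0R)
        refine ⟨u', ?_, hu', hua'⟩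
        have hz'W' : z' ∉ Wc M := fun e => hz'ne (hno x hx z' e hz'W ⟨1, by rw [hz'o, pow_one]⟩)
        have hzW' : z ∉ Wp M x' := fun e => hzne (hno x' hx' z hzW e ⟨1, by rw [hzo, pow_one]⟩)
        have hzp : z ^ p = 1 := hzo ▸ pow_orderOf_eq_one z
        have hz'p : z' ^ p = 1 := hz'o ▸ pow_orderOf_eq_one z'
        have hzR' : z ∈ R' := hSR' (mem_sup_left (mem_zpowers z))
        have hz'R' : z' ∈ R' := hSR' (mem_sup_right (mem_zpowers z'))
        have hcm := hab x' hx' R' hR'.le hR'.isPGroup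
        have hmem : ∀ s ∈ R', s ^ p = 1 → s ∈ S0 := by
          intro s hs hsp
          obtain ⟨j, hj⟩ := h.mod_W_unique hp2 (hR'.le.trans DD_le) hR'.isPGroup hz'R' hz'W'
            (by rw [hz'p]; exact one_mem _) hs (by rw [hsp]; exact one_mem _)
          set s1 := (z' ^ j)⁻¹ * s with hs1
          have hs1R : s1 ∈ R' := R'.mul_mem (R'.inv_mem (zpow_mem hz'R' j)) hs
          have hs1p : s1 ^ p = 1 := by
            rw [hs1, (show Commute (z' ^ j)⁻¹ s from hcm _ (R'.inv_mem (zpow_mem hz'R' j)) _ hs).mul_pow,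
              hsp, mul_one, inv_pow, ← zpow_natCast (z' ^ j), zpow_comm, zpow_natCast, hz'p, one_zpow,
              inv_one]
          obtain ⟨i, hi⟩ := h.mod_Wp_unique hp2 hx' hR'.le hR'.isPGroup hzR' hzW'
            (by rw [hzp]; exact one_mem _) hs1R (by rw [hs1p]; exact one_mem _)
          have e := hno x' hx' _ (mul_mem (inv_mem (zpow_mem hzW i)) hj) hi
            (hord R' hR'.isPGroup _ (R'.mul_mem (R'.inv_mem (zpow_mem hzR' i)) hs1R))
          rw [inv_mul_eq_one] at e
          rw [show s = z' ^ j * s1 by rw [hs1]; group, ← e]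
          exact mul_mem (mem_sup_right (zpow_mem (mem_zpowers z') j))
            (mem_sup_left (zpow_mem (mem_zpowers z) i))
        have hS0p : ∀ s ∈ S0, s ^ p = 1 := by
          let P0 : Subgroup G :=
            { carrier := {s | s ∈ R' ∧ s ^ p = 1}
              one_mem' := ⟨R'.one_mem, one_pow _⟩
              mul_mem' := fun {a b} ha hb => ⟨R'.mul_mem ha.1 hb.1, by
                rw [(show Commute a b from hcm a ha.1 b hb.1).mul_pow, ha.2, hb.2, one_mul]⟩
              inv_mem' := fun {a} ha => ⟨R'.inv_mem ha.1, by rw [inv_pow, ha.2, inv_one]⟩ }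
          intro s hs
          exact ((sup_le (zpowers_le.2 ⟨hzR', hzp⟩) (zpowers_le.2 ⟨hz'R', hz'p⟩) : S0 ≤ P0) hs).2
        refine mem_normalizer_iff.2 fun s => ⟨fun hs => ?_, fun hs => ?_⟩
        · refine hmem _ ((mem_normalizer_iff.1 huR' s).1 (hSR' hs)) ?_
          rw [conj_pow, hS0p s hs]; group
        · have h1 := hS0p _ hs
          rw [conj_pow, conj_eq_one_iff] at h1
          exact hmem s ((mem_normalizer_iff.1 huR' s).2 (hSR' hs)) h1
    -- an element of order `p` of a two point stabiliser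
    obtain ⟨R2, hR2⟩ := exists_sylP (p := p) (DD M x0)
    obtain ⟨h0, hh0, hh0o⟩ := exists_orderOf_eq hR2.isPGroup fun e =>
      h.not_sylP_DD_le_W hT hdvd hx0' hR2 (e ▸ bot_le)
    have hh0D := hR2.le hh0
    have hout : ∀ c : G ⧸ M, ¬ Subgroup.zpowers h0 ≤ Wp M c := by
      intro c hle
      have hc := hle (mem_zpowers h0)
      by_cases hca : c = base M
      · subst hca
        rw [Wp_base] at hc
        exact hU x0 hx0' h0 hc hh0D.2 hh0o
      · obtain ⟨v, hv, hva, -⟩ := h.exists_swapper (Ne.symm hca)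
        refine hU c hca (v * h0 * v⁻¹) (swap_Wp' hv hva hc) ?_ ((orderOf_conj v h0).trans hh0o)
        rw [involution_inv hv, mul_smul, mul_smul, smul_back hv hva, smul_base_eq_iff.2 hh0D.1, hva]
    have hh0p : h0 ^ p = 1 := hh0o ▸ pow_orderOf_eq_one h0
    have hfix2 : ∀ x' : G ⧸ M, x' ≠ base M → h0 • x' = x' → x' = x0 := by
      intro x' hx' hfix'
      refine h.subsingleton_fix (S := Subgroup.zpowers h0)
        ((h.odd_DD hx0').of_dvd_nat (card_dvd_of_le (zpowers_le.2 hh0D))) hout
        (fun s hs => smul_base_eq_iff.2 ((zpowers_le.2 hh0D.1) hs)) (fun x'' hx'' hfix'' => ?_) hx' hx0'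
        (fun s hs => (zpowers_le.2 hfix' : _ ≤ MulAction.stabilizer G x') hs)
        (fun s hs => (zpowers_le.2 hh0D.2 : _ ≤ MulAction.stabilizer G x0) hs)
      obtain ⟨u', R', hu', hua', hR', hSR', huR'⟩ := h.exists_invariant_swapper hp2 hx''
        (zpowers_le.2 (⟨hh0D.1, hfix'' h0 (mem_zpowers h0)⟩ : h0 ∈ DD M x''))
        (IsPGroup.of_card (n := 1) (by rw [Nat.card_zpowers, hh0o, pow_one]))
      refine ⟨u', ?_, hu', hua'⟩
      have hh0R := hSR' (mem_zpowers h0)
      have hi : u' * h0 * u'⁻¹ ∈ Subgroup.zpowers h0 := by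
        have hi' := (mem_normalizer_iff.1 huR' h0).1 hh0R
        obtain ⟨j, hj⟩ := h.mod_W_unique hp2 (hR'.le.trans DD_le) hR'.isPGroup hh0R
          (fun e => hU x0 hx0' h0 e hh0D.2 hh0o) (by rw [hh0p]; exact one_mem _) hi'
          (by rw [conj_pow, hh0p, mul_one, mul_inv_cancel]; exact one_mem _)
        set w := (h0 ^ j)⁻¹ * (u' * h0 * u'⁻¹) with hw
        have hwR : w ∈ R' := R'.mul_mem (R'.inv_mem (zpow_mem hh0R j)) hi'
        have hw1 : w = 1 := by
          by_contra hne
          obtain ⟨k, hk⟩ := IsPGroup.iff_orderOf.1 hR'.isPGroup ⟨w, hwR⟩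
          rw [Subgroup.orderOf_mk] at hk
          rcases Nat.eq_zero_or_pos k with rfl | hk0
          · exact hne (orderOf_eq_one_iff.1 (by rw [hk, pow_zero]))
          refine hU x'' hx'' (w ^ p ^ (k - 1)) (pow_mem hj _) ?_ ?_
          · exact pow_mem (MulAction.mem_stabilizer_iff.2 (hR'.le hwR).2 :
              w ∈ MulAction.stabilizer G x'') _
          · rw [orderOf_pow_of_dvd (pow_ne_zero _ hp.out.ne_zero)
              (hk ▸ pow_dvd_pow p (Nat.sub_le k 1)), hk, Nat.pow_div (Nat.sub_le k 1) hp.out.pos,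
              show k - (k - 1) = 1 by omega, pow_one]
        rw [hw, inv_mul_eq_one] at hw1
        exact hw1 ▸ zpow_mem (mem_zpowers h0) j
      rw [mem_normalizer_iff_cj, CIT.cj, MonoidHom.map_zpowers]
      exact eq_of_le_of_card_ge (zpowers_le.2 hi) (by
        show Nat.card (Subgroup.zpowers h0) ≤ Nat.card (Subgroup.zpowers (u' * h0 * u'⁻¹))
        rw [Nat.card_zpowers, Nat.card_zpowers, orderOf_conj])
    -- a central element of a Sylow subgroup of `M` through `h0`
    obtain ⟨R3, hR3, hR3h⟩ := exists_sylP_ge (zpowers_le.2 hh0D.1)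
      (IsPGroup.of_card (n := 1) (by rw [Nat.card_zpowers, hh0o, pow_one]) : IsPGroup p (Subgroup.zpowers h0))
    obtain ⟨m, hm, hmQ⟩ := hR3.exists_conj_ge (hQ.le.trans (Wc_le M)) hQ.isPGroup
    haveI : ((Wc M).subgroupOf R3).Normal :=
      normal_subgroupOf_of_le_normalizer (hR3.le.trans (Wc_normalized M))
    have hQ3 : (Wc M).subgroupOf R3 ≠ ⊥ := fun e => hQ1 (by
      refine (eq_bot_iff).2 fun y hy => mem_bot.2 ?_
      have h1 : (⟨m * y * m⁻¹, hmQ (conj_mem_cj.2 hy)⟩ : ↥R3) ∈ (Wc M).subgroupOf R3 :=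
        mem_subgroupOf.2 (conj_mem_Wc hm (hQ.le hy))
      rw [e, mem_bot] at h1
      exact conj_eq_one_iff.1 (congrArg Subtype.val h1))
    have hne := CfsgLib.PGroups.inf_center_ne_bot (p := p) hR3.isPGroup hQ3
    obtain ⟨z0, hz0, hz0o⟩ := exists_orderOf_eq (hR3.isPGroup.to_subgroup _) hne
    have hz0' : orderOf (z0 : G) = p := by rw [orderOf_coe, hz0o]
    have hz0W : (z0 : G) ∈ Wc M := mem_subgroupOf.1 hz0.1
    have hc : h0 * z0 = z0 * h0 :=
      congrArg Subtype.val (Subgroup.mem_center_iff.1 hz0.2 ⟨h0, hR3h (mem_zpowers h0)⟩)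
    refine hU x0 hx0' _ hz0W (hfix2 _ (fun e => hx0' ?_) ?_) hz0'
    · have hb := smul_base_eq_iff.2 (M.inv_mem (Wc_le M hz0W))
      rw [← e, inv_smul_smul] at hb
      rw [hb, e]
    · rw [← mul_smul, hc, mul_smul, hh0D.2]

end Ctx

end CfsgLib.InvCent
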