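import Cfsg.Agent.Lib.InvCentTwoNilp.BadPull
import Cfsg.Agent.Lib.InvCentTwoNilp.GoodFree
import Cfsg.Agent.Lib.Components.Component
import Cfsg.Agent.Lib.Components.FStar
import Cfsg.Agent.Lib.Components.Char
import Cfsg.Agent.S1312
import Mathlib.RingTheory.ZMod.UnitsCyclic

/-!
# Bad Sylow subgroups of `W` are cyclic (S3214)

Owner: helper5.
-/

set_option autoImplicit false
set_option linter.unusedSectionVars false

namespace CfsgLib.InvCent

open Subgroup CfsgLib.CIT
open CfsgLib.Signalizer (involution_sq involution_inv involution_ne_one orderOf_eq_two_of orderOf_conj)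
open CfsgLib.TwoGroups.SE (smul_mk_eq_iff)

universe u

variable {G : Type u} [Group G] [Finite G] [IsSimpleGroup G] {M T : Subgroup G}

/-- `O_s(M)` in `G`. -/
noncomputable def Os (M : Subgroup G) (s : ℕ) : Subgroup G := (Cfsg.pCore s ↥M).map M.subtype

theorem Os_le (M : Subgroup G) (s : ℕ) : Os M s ≤ M := map_subtype_le _

theorem Os_normalized (M : Subgroup G) (s : ℕ) : M ≤ normalizer (Os M s : Set G) := by
  refine le_trans (le_of_eq ?_) (le_normalizer_map _)
  rw [normalizer_eq_top_iff.2 (inferInstance : (Cfsg.pCore s ↥M).Normal), ← MonoidHom.range_eq_map,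
    range_subtype]

theorem isPGroup_Os (M : Subgroup G) (s : ℕ) : IsPGroup s (Os M s) :=
  (Core.isPGroup_pCore s ↥M).map _

theorem Os_le_W (M : Subgroup G) {s : ℕ} [hs : Fact s.Prime] (hs2 : s ≠ 2) : Os M s ≤ Wc M :=
  le_Wc (Os_le M s) (Os_normalized M s) (by
    obtain ⟨k, hk⟩ := (isPGroup_Os M s).exists_card_eq
    rw [hk]; exact (hs.out.odd_of_ne_two hs2).pow)

theorem gFitting_cj (g : G) (M : Subgroup G) :
    (Cfsg.generalizedFittingSubgroup ↥(cj g M)).map (cj g M).subtype =
      cj g ((Cfsg.generalizedFittingSubgroup ↥M).map M.subtype) := by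
  let e : ↥M ≃* ↥(cj g M) := M.equivMapOfInjective (MulAut.conj g).toMonoidHom (MulAut.conj g).injective
  show _ = Subgroup.map (MulAut.conj g).toMonoidHom _
  rw [← Components.gFitting_map_equiv e, map_map, map_map]
  rfl

theorem centerThompsonOf_cj (p : ℕ) (g : G) (R : Subgroup G) :
    cj g (Cfsg.centerThompsonOf p R) = Cfsg.centerThompsonOf p (cj g R) :=
  Transfer.centerThompsonOf_map (MulAut.conj g).toMonoidHom R
    (by rw [(MonoidHom.ker_eq_bot_iff _).2 (MulAut.conj g).injective]; exact disjoint_bot_right)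

theorem mem_normalizer_map_char {W : Subgroup G} (X : Subgroup ↥W) [X.Characteristic] {g : G}
    (hg : g ∈ normalizer (W : Set G)) : g ∈ normalizer (X.map W.subtype : Set G) := by
  rw [mem_normalizer_iff_cj]
  have h1 := Subgroup.characteristic_iff_map_eq.1 (inferInstance : X.Characteristic)
    (W.normalizerMonoidHom ⟨g, hg⟩)
  show Subgroup.map (MulAut.conj g).toMonoidHom (X.map W.subtype) = _
  conv_rhs => rw [← h1]
  rw [map_map, map_map]
  rfl

namespace Ctx

variable (h : Ctx M) (hT : IsSyl T M) {p : ℕ} [hp : Fact p.Prime] {P : Subgroup G}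
  (hP : SylP p P (Wc M))
include h hT

/-- The Fitting subgroup of `M` is a `p`-group and a noncyclic bad Sylow subgroup is impossible. -/
theorem exists_fitting_prime (hP : SylP p P (Wc M)) (hTP : T ≤ normalizer (P : Set G))
    (hbad : ¬ normalizer (P : Set G) ≤ M) (hnc : ¬ IsCyclic P) {y : G ⧸ M}
    (hy : y ∈ Orb M (normalizer (P : Set G))) (hya : y ≠ base M) {u : G}
    (huL : u ∈ normalizer (P : Set G)) (hu : orderOf u = 2) (hua : u • base M = y) :
    ∃ r : ℕ, r.Prime ∧ r ≠ 2 ∧ Os M r ≠ ⊥ ∧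
      centralizer (Cfsg.pCore r ↥M : Set ↥M) ≤ Cfsg.pCore r ↥M ∧ Os M r ≤ cj u M := by
  classical
  haveI := h.isSolvable_M
  have hp2 := p_ne_two hP hnc
  -- images of normal odd subgroups
  have hsw : ∀ (s : ℕ) (X : Subgroup G), s.Prime → IsPGroup s X → X ≤ Wc M →
      M ≤ normalizer (X : Set G) → (cj u X ≤ P) ∨
        (cj u X ≤ Wp M y ∧ P ≤ normalizer ((cj u X : Subgroup G) : Set G) ∧
          (Nat.card (cj u X : Subgroup G)).Coprime p) := by
    intro s X hs hXs hXW hXn
    by_cases hsp : s = p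
    · subst hsp
      left
      have h1 : X ≤ P := by
        have hn : P ≤ normalizer (X : Set G) := (hP.le.trans (Wc_le M)).trans hXn
        rw [hP.eq_of_le le_sup_left (sup_le hP.le hXW) (hP.isPGroup.to_sup_of_normal_right' hXs hn)]
        exact le_sup_right
      exact (cj_mono h1).trans (mem_normalizer_iff_cj.1 huL).le
    · right
      refine ⟨fun x hx => ?_, ?_, ?_⟩
      · obtain ⟨x', hx', rfl⟩ := hx
        exact swap_Wp hua (hXW hx')
      · rw [normalizer_cj]
        intro π hπ
        rw [← mem_normalizer_iff_cj.1 huL] at hπ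
        exact cj_mono ((hP.le.trans (Wc_le M)).trans hXn) hπ
      · haveI := Fact.mk hs
        obtain ⟨k, hk⟩ := hXs.exists_card_eq
        rw [card_cj, hk]
        exact ((Nat.coprime_primes hs hp.out).2 hsp).pow_left k
  have huy := smul_back hu hua
  -- the involutions of `M` do not all centralise `W`
  have hnall : ¬ ∀ t ∈ M, orderOf t = 2 → ∀ w ∈ Wc M, t * w = w * t := by
    intro hall
    have hF := h.full_of_le hT hP hTP hbad (ne_bot_of_not_cyclic hP hnc)
    obtain ⟨t, htL, htM, ht⟩ := hF.exists_involution h hT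
    have hcent : ∀ s ∈ normalizer (P : Set G), orderOf s = 2 → ∀ x ∈ P, s * x = x * s := fun s hs hs2 =>
      hF.involution_centralizes h hT le_rfl htL ht (fun x hx => hall t htM ht x (hP.le hx)) hs hs2
    haveI : Group.IsSolvable ↥(Wc M) := Cfsg.Agent.S0205.result (odd_Wc M)
    obtain ⟨⟨s, hs⟩, hsne⟩ : ∃ s : Nat.Primes, Cfsg.pCore (s : ℕ) ↥(Wc M) ≠ ⊥ := by
      by_contra hno
      push Not at hno
      have hbot : Cfsg.fittingSubgroup ↥(Wc M) = ⊥ := by
        rw [Core.fittingSubgroup_eq_iSup_pCore]; exact iSup_eq_bot.2 hno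
      have h1 := Components.centralizer_fitting_le_of_isSolvable (G := ↥(Wc M))
      rw [hbot] at h1
      refine h.Wne (le_bot_iff.1 fun x hx => mem_bot.2 ?_)
      have h2 := h1 (x := ⟨x, hx⟩) (mem_centralizer_iff.2 fun q hq => by
        rw [mem_bot.1 hq, one_mul, mul_one])
      exact congrArg Subtype.val (mem_bot.1 h2)
    haveI := Fact.mk hs
    set X := (Cfsg.pCore s ↥(Wc M)).map (Wc M).subtype with hX
    have hXW : X ≤ Wc M := map_subtype_le _
    have hXn : M ≤ normalizer (X : Set G) := fun m hm =>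
      mem_normalizer_map_char _ (Wc_normalized M hm)
    have hX1 : X ≠ ⊥ := fun e => hsne ((map_eq_bot_iff_of_injective _ (subtype_injective _)).1 e)
    have hle : cj u X ≤ Wc M := by
      rcases hsw s X hs ((Core.isPGroup_pCore s _).map _) hXW hXn with h1 | ⟨h1, h2, h3⟩
      · exact h1.trans hP.le
      · exact h.pull_W hT hP hTP hbad hnc hy hya hcent h1 h2 h3
    -- an involution fixing `y`
    set t' := u * t * u⁻¹ with ht'
    have ht'y : t' • y = y := by
      rw [ht', involution_inv hu, mul_smul, mul_smul, huy, smul_base_eq_iff.2 htM, hua]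
    have ht'X : t' ∈ normalizer (X : Set G) := by
      refine (Subgroup.centralizer_le_normalizer _) (mem_centralizer_iff.2 fun x hx => ?_)
      have hux : u * x * u⁻¹ ∈ Wc M := hle (conj_mem_cj.2 hx)
      have e := hall t htM ht _ hux
      rw [ht']
      have e2 := involution_sq hu
      calc x * (u * t * u⁻¹) = u⁻¹ * (u * x * u⁻¹ * t) * u * (u * u)⁻¹ * (u * u) := by
            rw [e2, inv_one, mul_one, mul_one, involution_inv hu]
            calc x * (u * t * u) = (u * u) * x * u * t * u := by rw [e2]; group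
              _ = u * (u * x * u * t) * u := by group
        _ = u⁻¹ * (t * (u * x * u⁻¹)) * u := by rw [← e, e2]; group
        _ = u * t * u⁻¹ * x := by
            rw [involution_inv hu]
            calc u * (t * (u * x * u)) * u = u * t * u * x * (u * u) := by group
              _ = u * t * u * x := by rw [e2, mul_one]
    rw [h.normalizer_eq hX1 (hXW.trans (Wc_le M)) hXn] at ht'X
    exact hya (TwoGroups.SE.fixed_unique h.se ((orderOf_conj u t).trans ht) ht'y
      (smul_base_eq_iff.2 ht'X))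
  -- `O_2(M) = 1`
  have hO2 : Os M 2 = ⊥ := by
    by_contra hne
    haveI : Fact (Nat.Prime 2) := ⟨Nat.prime_two⟩
    obtain ⟨t, ht, ht2⟩ := exists_orderOf_eq (isPGroup_Os M 2) hne
    refine hnall fun s hs hs2 w hw => ?_
    obtain ⟨c, hc, hce⟩ := h.conj_M (Os_le M 2 ht) ht2 hs hs2
    have hcomm : ∀ w ∈ Wc M, t * w = w * t := by
      intro w hw
      obtain ⟨t', ht', rfl⟩ := ht
      obtain ⟨w', hw', rfl⟩ := hw
      obtain ⟨k, hk⟩ := (Core.isPGroup_pCore 2 ↥M).exists_card_eq
      have hd : Cfsg.pCore 2 ↥M ⊓ Cfsg.oddCore ↥M = ⊥ := inf_eq_bot_of_coprime (by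
        rw [hk]; exact ((ZStar.odd_card_oddCore ↥M).coprime_two_left).pow_left k)
      exact congrArg Subtype.val
        (commute_of_normal_of_disjoint _ _ inferInstance inferInstance (disjoint_iff.2 hd) t' w' ht' hw').eq
    have e := hcomm _ (conj_mem_Wc (M.inv_mem hc) hw)
    rw [← hce]
    calc c * t * c⁻¹ * w = c * (t * (c⁻¹ * w * c⁻¹⁻¹)) * c⁻¹ := by group
      _ = w * (c * t * c⁻¹) := by rw [e]; group
  set F := (Cfsg.generalizedFittingSubgroup ↥M).map M.subtype with hFdef
  have hgF : Cfsg.generalizedFittingSubgroup ↥M = Cfsg.fittingSubgroup ↥M :=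
    Components.gFitting_eq_fitting_iff.2 Components.layer_eq_bot_of_isSolvable
  have hFM : F ≤ cj u M := by
    rw [hFdef, hgF, Core.fittingSubgroup_eq_iSup_pCore, Subgroup.map_iSup]
    refine iSup_le fun s => ?_
    haveI := Fact.mk s.2
    by_cases hs2 : (s : ℕ) = 2
    · show Os M s ≤ _
      rw [hs2, hO2]; exact bot_le
    have hle : cj u (Os M s) ≤ M := by
      rcases hsw s (Os M s) s.2 (isPGroup_Os M s) (Os_le_W M hs2) (Os_normalized M s) with h1 | ⟨h1, h2, h3⟩
      · exact h1.trans (hP.le.trans (Wc_le M))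
      · exact h.pull hT hP hTP hbad hnc hy hya h1 h2 h3
    show Os M s ≤ _
    refine (cj_le_iff.1 hle).trans ?_
    rw [involution_inv hu]
  have hcu : IsCoatom (cj u M) := by
    refine ⟨fun e => h.se.1 ?_, fun L hL => ?_⟩
    · rw [← card_eq_iff_eq_top, ← card_cj u M, e, card_top]
    · have h1 : M < cj u L := by
        refine lt_of_le_of_ne ?_ fun e => hL.ne ?_
        · rw [← cj_cj_inv u M, involution_inv hu]
          exact cj_mono hL.le
        · rw [e, ← cj_mul, involution_sq hu, cj_one]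
      have h2 := (h.coatom).2 _ h1
      rw [← card_eq_iff_eq_top, ← card_cj u L, h2, card_top]
  have hMu : M ≠ cj u M := by
    intro e
    obtain ⟨t, ht, ht2⟩ := Signalizer.exists_involution_of_even h.se.2.1
    refine hya ?_
    rw [← hua]
    exact smul_base_eq_iff.2 (se_conj_mem h.se ht ht2 (e ▸ conj_mem_cj.2 ht))
  obtain ⟨r, hr, hrM, -⟩ := Cfsg.Agent.S1312.result h.hna M (cj u M) h.coatom hcu hMu hFM (by
    rw [gFitting_cj]
    exact (cj_mono hFM).trans (by rw [← cj_mul, involution_sq hu, cj_one]))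
  haveI := Fact.mk hr
  haveI : (Cfsg.generalizedFittingSubgroup ↥M).Normal := Components.gFitting_normal
  have hle : Cfsg.generalizedFittingSubgroup ↥M ≤ Cfsg.pCore r ↥M := Core.le_pCore hrM
  haveI : Nontrivial ↥M := M.nontrivial_iff_ne_bot.2 fun e => h.Wne (le_bot_iff.1 (e ▸ Wc_le M))
  have hne : Os M r ≠ ⊥ := fun e => Components.gFitting_ne_bot (G := ↥M) (le_bot_iff.1
    (hle.trans ((map_eq_bot_iff_of_injective _ (subtype_injective _)).1 e).le))
  refine ⟨r, hr, fun e => hne (by rw [e, hO2]), hne, ?_, ?_⟩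
  · intro x hx
    refine hle (Components.centralizer_gFitting_le (mem_centralizer_iff.2 fun q hq => ?_))
    exact mem_centralizer_iff.1 hx q (hle hq)
  · refine le_trans (map_mono ?_) hFM
    rw [hgF]
    exact Core.pCore_le_fittingSubgroup r

/-- A bad Sylow subgroup of `W` is cyclic. -/
theorem isCyclic_of_bad (hP : SylP p P (Wc M)) (hbad : ¬ normalizer (P : Set G) ≤ M) : IsCyclic P := by
  classical
  by_contra hnc
  have hP1 : P ≠ ⊥ := ne_bot_of_not_cyclic hP hnc
  obtain ⟨T', hT', hTP, hF, -⟩ := h.full_normalizer hT hP hP1 hbad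
  obtain ⟨y, hy, hya⟩ : ∃ y ∈ Orb M (normalizer (P : Set G)), y ≠ base M := by
    obtain ⟨g, hg, hgM⟩ := SetLike.not_le_iff_exists.1 hbad
    refine ⟨(g : G ⧸ M), ⟨g, hg, rfl⟩, fun e => hgM ?_⟩
    simpa [base] using QuotientGroup.eq.1 e
  obtain ⟨u, huL, hu, hua⟩ := hF.exists_swap h hT' hy hya
  obtain ⟨r, hr, hr2, hO1, hOc, hOu⟩ :=
    h.exists_fitting_prime hT' hP hTP hbad hnc hy hya huL hu hua
  haveI := Fact.mk hr
  obtain ⟨Pr, hPr, hOP⟩ := exists_sylP_ge (Os_le_W M hr2) (isPGroup_Os M r)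
  have hPr1 : Pr ≠ ⊥ := fun e => hO1 (le_bot_iff.1 (e ▸ hOP))
  by_cases hgood : normalizer (Pr : Set G) ≤ M
  · -- an element of `F(M)` centralised by a hyperplane fixes two points
    have hnd : ¬ r ∣ Nat.card (invSub T') - 1 := fun hd => h.not_good_of_dvd hT' hPr hPr1 hgood hd
    have hAn : invSub T' ≤ normalizer (Os M r : Set G) :=
      ((h.invSub_le hT').trans hT'.1).trans (Os_normalized M r)
    obtain ⟨B, hBA, hBq, hne⟩ : ∃ B ≤ invSub T', Nat.card (invSub T') ≤ 2 * Nat.card B ∧
        Os M r ⊓ centralizer (B : Set G) ≠ ⊥ := by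
      by_contra hno
      push Not at hno
      exact hO1 (le_bot_iff.1 (le_of_hyperplanes (h.invSub_elem hT') hAn
        ((odd_Wc M).of_dvd_nat (card_dvd_of_le (Os_le_W M hr2))) fun B hB hc => (hno B hB hc).le))
    obtain ⟨j, hj, hjo⟩ := exists_orderOf_eq ((isPGroup_Os M r).to_le inf_le_left) hne
    refine hya (h.good_fix hT' hPr hgood hnd (Os_le_W M hr2 hj.1) hjo
      (B := B) ⟨hBA.trans ((h.invSub_le hT').trans hT'.1), (h.invSub_elem hT').of_le hBA, hBq⟩
      (fun b hb => mem_centralizer_iff.1 hj.2 b hb) ?_)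
    have h1 := mem_cj.1 (hOu hj.1)
    rw [← smul_base_eq_iff, involution_inv hu, mul_smul, mul_smul, hua] at h1
    have := congrArg (u • ·) h1
    rwa [← mul_smul, involution_sq hu, one_smul, hua] at this
  · -- `ZJ` of a common Sylow subgroup
    have hncr : ¬ IsCyclic Pr := by
      intro hc
      have hrp : r ≠ p := by
        rintro rfl
        obtain ⟨w, -, e⟩ := hPr.exists_conj hP
        exact hnc (e ▸ isCyclic_of_surjective _
          (Pr.equivMapOfInjective (MulAut.conj w).toMonoidHom (MulAut.conj w).injective).surjective)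
      set O := Os M r with hOdef
      haveI := hc
      haveI : IsCyclic O := isCyclic_of_injective (Subgroup.inclusion hOP) (Subgroup.inclusion_injective _)
      have hPn : P ≤ normalizer (O : Set G) := (hP.le.trans (Wc_le M)).trans (Os_normalized M r)
      let f : P →* MulAut O := O.normalizerMonoidHom.comp (Subgroup.inclusion hPn)
      have hf : Function.Injective f := by
        rw [← MonoidHom.ker_eq_bot_iff]
        refine le_bot_iff.1 fun x hx => mem_bot.2 ?_
        have hxc : ((x : G)) ∈ centralizer (O : Set G) := mem_centralizer_iff.2 fun o ho => by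
          have e : f x ⟨o, ho⟩ = ⟨o, ho⟩ := by rw [MonoidHom.mem_ker.1 hx]; rfl
          have e' : (x : G) * o * (x : G)⁻¹ = o := congrArg Subtype.val e
          calc o * (x : G) = x * o * (x : G)⁻¹ * x := by rw [e']
            _ = x * o := by group
        have hxM : (x : G) ∈ M := Wc_le M (hP.le x.2)
        have hxO : (⟨(x : G), hxM⟩ : ↥M) ∈ Cfsg.pCore r ↥M := hOc (mem_centralizer_iff.2 fun q hq =>
          Subtype.ext (mem_centralizer_iff.1 hxc (q : G) ⟨q, hq, rfl⟩))
        have h1 : (x : G) ∈ P ⊓ O := ⟨x.2, ⟨_, hxO, rfl⟩⟩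
        rw [disjoint_iff.1 (IsPGroup.disjoint_of_ne p r (Ne.symm hrp) _ _ hP.isPGroup (isPGroup_Os M r)),
          mem_bot] at h1
        exact Subtype.ext h1
      obtain ⟨k, hk⟩ := (isPGroup_Os M r).exists_card_eq
      haveI : IsCyclic (ZMod (Nat.card O))ˣ := by
        rw [show Nat.card O = r ^ k from hk]
        exact ZMod.isCyclic_units_of_prime_pow r hr hr2 k
      haveI : IsCyclic (MulAut O) :=
        isCyclic_of_surjective (IsCyclic.mulAutMulEquiv O).symm (IsCyclic.mulAutMulEquiv O).symm.surjective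
      exact hnc (isCyclic_of_injective f hf)
    obtain ⟨T2, hT2, hTP2, hF2, -⟩ := h.full_normalizer hT hPr hPr1 hgood
    set L := normalizer (Pr : Set G) with hL
    obtain ⟨R, hR, hPR⟩ := exists_sylP_ge (hPr.le.trans (Wc_le M)) hPr.isPGroup
    have hRW : R ⊓ Wc M = Pr := (hPr.eq_of_le (le_inf hPR hPr.le) inf_le_right
      (hR.isPGroup.to_le inf_le_left)).symm
    have hRL : R ≤ L := fun g hg => by
      rw [hL, mem_normalizer_iff_cj, ← hRW, CIT.cj, map_inf_eq _ _ _ (MulAut.conj g).injective]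
      congr 1
      · exact mem_normalizer_iff_cj.1 (le_normalizer hg)
      · exact mem_normalizer_iff_cj.1 (Wc_normalized M (hR.le hg))
    -- `R` fixes a further point of the orbit
    obtain ⟨hn, hh, hpts, -, -⟩ := hF2.card_data h hT2
    let S : SubMulAction ↥R (G ⧸ M) :=
      { carrier := Orb M L \ {base M}
        smul_mem' := fun g z hz => by
          refine ⟨smul_mem_orb hz.1 (hRL g.2), fun e => hz.2 ?_⟩
          have e' : (g : G) • z = base M := e
          show z = base M
          rw [← inv_smul_smul (g : G) z, e', smul_base_eq_iff]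
          exact M.inv_mem (hR.le g.2) }
    have hcardS : ¬ r ∣ Nat.card S := by
      have e : Nat.card S = hn := by
        show Nat.card ↥(Orb M L \ {base M}) = hn
        rw [Nat.card_coe_set_eq, Set.ncard_diff_singleton_of_mem (mem_orb_base M L),
          ← Nat.card_coe_set_eq, hpts, Nat.add_sub_cancel]
      rw [e]
      obtain ⟨m, hm⟩ := (h.invSub_elem hT2).card_two_pow
      intro hd
      have : r ∣ 2 := by
        rcases hh with rfl | rfl <;> rw [hm] at hd
        · exact hr.dvd_of_dvd_pow hd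
        · exact hr.dvd_of_dvd_pow (hr.dvd_of_dvd_pow hd)
      exact hr2 ((Nat.prime_dvd_prime_iff_eq hr Nat.prime_two).1 this)
    obtain ⟨⟨z, hzL, hza⟩, hz⟩ := hR.isPGroup.nonempty_fixed_point_of_prime_not_dvd_card S hcardS
    have hfix : ∀ g ∈ R, g • z = z := fun g hg => congrArg Subtype.val (hz ⟨g, hg⟩)
    have hza' : z ≠ base M := hza
    obtain ⟨v, -, hv, hva⟩ := hF2.exists_swap h hT2 hzL hza'
    have hvM : cj v R ≤ M := by
      rintro _ ⟨g, hg, rfl⟩
      show v * g * v⁻¹ ∈ M
      rw [← smul_base_eq_iff, mul_smul, mul_smul, involution_inv hv, hva, hfix g hg, smul_back hv hva]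
    -- `Z(J)` of Sylow subgroups of `M` is normal in `M`
    have hzj : ∀ R' : Subgroup G, SylP r R' M →
        M ≤ normalizer (Cfsg.centerThompsonOf r R' : Set G) := by
      intro R' hR'
      haveI := h.isSolvable_M
      obtain ⟨S', hS'⟩ := hR'.exists_sylow
      have hn' := Transfer.centerThompson_normal hr2 hOc S'
        (Transfer.stableAt_of_noQuad ((h.hI.subgroup M).noQuad hr2) _)
      rw [← hS', ← Transfer.centerThompsonOf_map M.subtype _ (by rw [ker_subtype]; exact disjoint_bot_right)]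
      refine le_trans (le_of_eq ?_) (le_normalizer_map _)
      rw [normalizer_eq_top_iff.2 hn', ← MonoidHom.range_eq_map, range_subtype]
    have h1 := hzj R hR
    have h2 := hzj (cj v R) ⟨hvM, by rw [card_cj]; exact hR.card⟩
    rw [← centerThompsonOf_cj, normalizer_cj] at h2
    have hR1 : R ≠ ⊥ := fun e => hPr1 (le_bot_iff.1 (e ▸ hPR))
    rw [h.normalizer_eq (Transfer.centerThompsonOf_ne_bot hR.isPGroup hR1)
      ((Transfer.centerThompsonOf_le R).trans hR.le) h1] at h2
    obtain ⟨t, ht, ht2⟩ := Signalizer.exists_involution_of_even h.se.2.1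
    refine hza' ?_
    rw [← hva, smul_base_eq_iff]
    refine se_conj_mem h.se ht ht2 ?_
    have h3 := mem_cj.1 (h2 ht)
    rw [involution_inv hv] at h3 ⊢
    exact h3

/-- A bad Sylow subgroup is cyclic and centralised by the 2-elements normalising it. -/
theorem bad_spec (hP : SylP p P (Wc M)) (hbad : ¬ normalizer (P : Set G) ≤ M) :
    IsCyclic P ∧ ∀ g ∈ normalizer (P : Set G), ∀ k : ℕ, orderOf g = 2 ^ k →
      g ∈ centralizer (P : Set G) := by
  classical
  have hc := h.isCyclic_of_bad hT hP hbad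
  refine ⟨hc, fun g hg k hk => ?_⟩
  by_cases hP1 : P = ⊥
  · rw [hP1]; exact mem_centralizer_iff.2 fun x hx => by rw [mem_bot.1 hx, one_mul, mul_one]
  obtain ⟨T', hT', hTP, hF, -⟩ := h.full_normalizer hT hP hP1 hbad
  obtain ⟨⟨x0, hx0⟩, hgen⟩ := IsCyclic.exists_generator (α := P)
  have hgen' : P ≤ zpowers x0 := fun x hx => by
    obtain ⟨i, hi⟩ := mem_zpowers_iff.1 (hgen ⟨x, hx⟩)
    exact mem_zpowers_iff.2 ⟨i, congrArg Subtype.val hi⟩
  -- a hyperplane centralises a generator
  obtain ⟨n, hn⟩ := hP.isPGroup.exists_card_eq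
  have hn0 : n ≠ 0 := fun e => hP1 ((card_eq_one (H := P)).1 (by rw [hn, e, pow_zero]))
  let Y : Subgroup G :=
    { carrier := {x | x ∈ P ∧ x ^ p ^ (n - 1) = 1}
      one_mem' := ⟨P.one_mem, one_pow _⟩
      mul_mem' := fun {a b} ha hb => ⟨P.mul_mem ha.1 hb.1, by
        have hab : Commute a b := by
          obtain ⟨i, rfl⟩ := mem_zpowers_iff.1 (hgen' ha.1)
          obtain ⟨j, rfl⟩ := mem_zpowers_iff.1 (hgen' hb.1)
          exact (Commute.refl x0).zpow_zpow i j
        rw [hab.mul_pow, ha.2, hb.2, one_mul]⟩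
      inv_mem' := fun {a} ha => ⟨P.inv_mem ha.1, by rw [inv_pow, ha.2, inv_one]⟩ }
  have hx0o : orderOf x0 = p ^ n := by
    rw [← hn, ← Nat.card_zpowers]
    exact congrArg (fun H : Subgroup G => Nat.card H) (le_antisymm (zpowers_le.2 hx0) hgen')
  obtain ⟨B, hBA, hBq, x, ⟨hxP, hxB⟩, hxY⟩ : ∃ B ≤ invSub T',
      Nat.card (invSub T') ≤ 2 * Nat.card B ∧ ∃ x ∈ P ⊓ centralizer (B : Set G), x ∉ Y := by
    by_contra hno
    push Not at hno
    have h1 := (le_of_hyperplanes (h.invSub_elem hT') ((h.invSub_le hT').trans hTP)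
      ((odd_Wc M).of_dvd_nat (card_dvd_of_le hP.le)) (Y := Y) hno) hx0
    have h2 := orderOf_dvd_iff_pow_eq_one.2 h1.2
    rw [hx0o, Nat.pow_dvd_pow_iff_le_right hp.out.one_lt] at h2
    omega
  have hxgen : P ≤ zpowers x := by
    have hxo : orderOf x = p ^ n := by
      obtain ⟨j, hj⟩ := IsPGroup.iff_orderOf.1 hP.isPGroup ⟨x, hxP⟩
      rw [Subgroup.orderOf_mk] at hj
      have hjn : j ≤ n := (Nat.pow_dvd_pow_iff_le_right hp.out.one_lt).1
        (hj ▸ hn ▸ P.orderOf_dvd_natCard hxP)
      rcases eq_or_lt_of_le hjn with rfl | hlt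
      · exact hj
      · exact absurd ⟨hxP, orderOf_dvd_iff_pow_eq_one.1 (hj ▸ pow_dvd_pow p (by omega))⟩ hxY
    exact (eq_of_le_of_card_ge (zpowers_le.2 hxP) (by rw [Nat.card_zpowers, hxo, hn])).ge
  obtain ⟨b, hb, hb2⟩ := exists_involution_of_elem ((h.invSub_elem hT').of_le hBA) (by
    have := h.eight_le_invSub hT'; omega)
  exact hF.two_centralizes h hT' le_rfl ((h.invSub_le hT').trans hTP (hBA hb)) hb2 (fun q hq => by
    obtain ⟨i, rfl⟩ := mem_zpowers_iff.1 (hxgen hq)
    exact ((show Commute b x from mem_centralizer_iff.1 hxB b hb).zpow_right i).eq) hg hk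

end Ctx

end CfsgLib.InvCent
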