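import Cfsg.Agent.Lib.InvCentTwoNilp.Local
import Cfsg.Agent.Lib.InvCentTwoNilp.Swap
import Cfsg.Agent.Lib.Transfer.RankTwo
import Cfsg.Agent.Lib.PGroups.Huppert

/-!
# Centralisers of elements of a bad Sylow subgroup inside the conjugates of `W` (S3214)

Owner: helper5.
-/

set_option autoImplicit false
set_option linter.unusedSectionVars false

namespace CfsgLib.InvCent

open Subgroup CfsgLib.CIT
open CfsgLib.Signalizer (involution_sq involution_inv involution_ne_one orderOf_eq_two_of orderOf_conj)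

universe u

variable {G : Type u} [Group G]

/-- `v` spans a line invariant under `A`, with sign characters. -/
def Eig (A : Subgroup G) (v : G) : Prop := ∀ a ∈ A, a * v * a⁻¹ = v ∨ a * v * a⁻¹ = v⁻¹

theorem mem_normalizer_zpowers {a v : G} (h : a * v * a⁻¹ ∈ zpowers v) [Finite G] :
    a ∈ normalizer (zpowers v : Set G) := by
  rw [mem_normalizer_iff_cj, CIT.cj, MonoidHom.map_zpowers]
  refine eq_of_le_of_card_ge (zpowers_le.2 h) ?_
  show Nat.card (zpowers v) ≤ Nat.card (zpowers (a * v * a⁻¹))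
  rw [Nat.card_zpowers, Nat.card_zpowers, orderOf_conj]

variable [Finite G]

/-- An abelian invariant group of odd order is generated by eigenvectors. -/
theorem eig_generates {A : Subgroup G} (hA : Elem A) {V : Subgroup G} (hV : Odd (Nat.card V))
    (hab : ∀ x ∈ V, ∀ y ∈ V, x * y = y * x) (hn : A ≤ normalizer (V : Set G)) :
    V ≤ closure {v | v ∈ V ∧ Eig A v} := by
  classical
  haveI := Fintype.ofFinite A
  suffices H : ∀ S : Finset A, V ≤ closure {v | v ∈ V ∧ ∀ a ∈ S,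
      (a : G) * v * (a : G)⁻¹ = v ∨ (a : G) * v * (a : G)⁻¹ = v⁻¹} by
    refine (H Finset.univ).trans (closure_mono ?_)
    exact fun v hv => ⟨hv.1, fun a ha => hv.2 ⟨a, ha⟩ (Finset.mem_univ _)⟩
  intro S
  induction S using Finset.induction with
  | empty => exact fun x hx => subset_closure ⟨hx, fun a ha => absurd ha (Finset.notMem_empty a)⟩
  | insert a S haS ih =>
    refine ih.trans ((closure_le _).2 ?_)
    rintro v ⟨hv, hvS⟩
    set w := (a : G) * v * (a : G)⁻¹ with hw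
    have hwV : w ∈ V := (mem_normalizer_iff.1 (hn a.2) v).1 hv
    have haw : (a : G) * w * (a : G)⁻¹ = v := by
      rw [hw, show (a : G) * (a * v * (a : G)⁻¹) * (a : G)⁻¹ = (a * a) * v * ((a : G) * a)⁻¹ by group,
        hA a a.2]
      group
    have hwS : ∀ b ∈ S, (b : G) * w * (b : G)⁻¹ = w ∨ (b : G) * w * (b : G)⁻¹ = w⁻¹ := by
      intro b hb
      have e : (b : G) * w * (b : G)⁻¹ = a * (b * v * (b : G)⁻¹) * (a : G)⁻¹ := by
        rw [hw]
        have hc := hA.comm b.2 a.2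
        calc (b : G) * (a * v * (a : G)⁻¹) * (b : G)⁻¹ = b * a * v * (b * a : G)⁻¹ := by group
          _ = _ := by rw [hc]; group
      rcases hvS b hb with h | h <;> rw [e, h]
      · exact Or.inl rfl
      · exact Or.inr conj_inv.symm
    -- the two eigen parts of `v`
    have hmk : ∀ w' : G, w' ∈ V → (∀ b ∈ S, (b : G) * v * (b : G)⁻¹ = v ∧ (b : G) * w' * (b : G)⁻¹ = w' ∨
        (b : G) * v * (b : G)⁻¹ = v⁻¹ ∧ (b : G) * w' * (b : G)⁻¹ = w'⁻¹) →
        ∀ b ∈ S, (b : G) * (v * w') * (b : G)⁻¹ = v * w' ∨ (b : G) * (v * w') * (b : G)⁻¹ = (v * w')⁻¹ := by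
      intro w' hw' h b hb
      have e : (b : G) * (v * w') * (b : G)⁻¹ = b * v * (b : G)⁻¹ * (b * w' * (b : G)⁻¹) := by group
      rcases h b hb with ⟨h1, h2⟩ | ⟨h1, h2⟩ <;> rw [e, h1, h2]
      · exact Or.inl rfl
      · right
        rw [mul_inv_rev, hab _ (V.inv_mem hv) _ (V.inv_mem hw')]
    have hsign : ∀ b ∈ S, (b : G) * v * (b : G)⁻¹ = v ∧ (b : G) * w * (b : G)⁻¹ = w ∨
        (b : G) * v * (b : G)⁻¹ = v⁻¹ ∧ (b : G) * w * (b : G)⁻¹ = w⁻¹ := by
      intro b hb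
      have e : (b : G) * w * (b : G)⁻¹ = a * (b * v * (b : G)⁻¹) * (a : G)⁻¹ := by
        rw [hw]
        have hc := hA.comm b.2 a.2
        calc (b : G) * (a * v * (a : G)⁻¹) * (b : G)⁻¹ = b * a * v * (b * a : G)⁻¹ := by group
          _ = _ := by rw [hc]; group
      rcases hvS b hb with h | h
      · exact Or.inl ⟨h, by rw [e, h]⟩
      · exact Or.inr ⟨h, by rw [e, h, conj_inv]⟩
    have hp1 : v * w ∈ closure {v | v ∈ V ∧ ∀ b ∈ insert a S,
        (b : G) * v * (b : G)⁻¹ = v ∨ (b : G) * v * (b : G)⁻¹ = v⁻¹} := by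
      refine subset_closure ⟨V.mul_mem hv hwV, fun b hb => ?_⟩
      rcases Finset.mem_insert.1 hb with rfl | hb
      · left
        rw [show (b : G) * (v * w) * (b : G)⁻¹ = (b * v * (b : G)⁻¹) * (b * w * (b : G)⁻¹) by group, haw]
        exact hab _ hwV _ hv
      · exact hmk w hwV hsign b hb
    have hp2 : v * w⁻¹ ∈ closure {v | v ∈ V ∧ ∀ b ∈ insert a S,
        (b : G) * v * (b : G)⁻¹ = v ∨ (b : G) * v * (b : G)⁻¹ = v⁻¹} := by
      refine subset_closure ⟨V.mul_mem hv (V.inv_mem hwV), fun b hb => ?_⟩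
      rcases Finset.mem_insert.1 hb with rfl | hb
      · right
        rw [show (b : G) * (v * w⁻¹) * (b : G)⁻¹ = (b * v * (b : G)⁻¹) * (b * w * (b : G)⁻¹)⁻¹ by group,
          haw, mul_inv_rev, inv_inv]
      · refine hmk w⁻¹ (V.inv_mem hwV) (fun b hb => ?_) b hb
        rcases hsign b hb with ⟨h1, h2⟩ | ⟨h1, h2⟩
        · exact Or.inl ⟨h1, by rw [← conj_inv, h2]⟩
        · exact Or.inr ⟨h1, by rw [← conj_inv, h2]⟩
    obtain ⟨n, hn'⟩ := odd_orderOf_of_mem hV hv
    have hsq : v * v = v * w * (v * w⁻¹) := by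
      rw [hab v hv w hwV, mul_assoc w, ← mul_assoc v v, hab w hwV _
        (V.mul_mem (V.mul_mem hv hv) (V.inv_mem hwV)), inv_mul_cancel_right]
    have hpow : v = (v * v) ^ (n + 1) := by
      rw [← pow_two, ← pow_mul, show 2 * (n + 1) = 2 * n + 1 + 1 by ring, pow_succ, ← hn',
        pow_orderOf_eq_one, one_mul]
    show v ∈ Subgroup.closure _
    rw [hpow, hsq]
    exact pow_mem (mul_mem hp1 hp2) _

/-- Two eigenvectors have the same sign on a subgroup of index at most two. -/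
theorem exists_same_sign {M T A : Subgroup G} (hA : Elem A) (hAM : A ≤ M)
    (hq : Nat.card (invSub T) ≤ Nat.card A) {v w : G} (hv : Eig A v) (hw : Eig A w) :
    ∃ B, Hyp M T B ∧ B ≤ A ∧ ∀ b ∈ B,
      (b * v * b⁻¹ = v ∧ b * w * b⁻¹ = w) ∨ (b * v * b⁻¹ = v⁻¹ ∧ b * w * b⁻¹ = w⁻¹) := by
  classical
  let P : G → Prop := fun b =>
    (b * v * b⁻¹ = v ∧ b * w * b⁻¹ = w) ∨ (b * v * b⁻¹ = v⁻¹ ∧ b * w * b⁻¹ = w⁻¹)
  let Q : G → Prop := fun b =>
    (b * v * b⁻¹ = v ∧ b * w * b⁻¹ = w⁻¹) ∨ (b * v * b⁻¹ = v⁻¹ ∧ b * w * b⁻¹ = w)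
  have hor : ∀ b ∈ A, P b ∨ Q b := fun b hb => by
    rcases hv b hb with h1 | h1 <;> rcases hw b hb with h2 | h2
    exacts [Or.inl (Or.inl ⟨h1, h2⟩), Or.inr (Or.inl ⟨h1, h2⟩), Or.inr (Or.inr ⟨h1, h2⟩),
      Or.inl (Or.inr ⟨h1, h2⟩)]
  have hmul : ∀ b c x : G, b * c * x * (b * c)⁻¹ = b * (c * x * c⁻¹) * b⁻¹ := by intros; group
  have hPP : ∀ b c, P b → P c → P (b * c) := by
    intro b c hb hc
    show _ ∨ _
    rw [hmul, hmul]
    rcases hc with ⟨h1, h2⟩ | ⟨h1, h2⟩ <;> rcases hb with ⟨h3, h4⟩ | ⟨h3, h4⟩ <;>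
      simp only [h1, h2, h3, h4, ← conj_inv, inv_inv] <;> simp
  have hQQ : ∀ b c, Q b → Q c → P (b * c) := by
    intro b c hb hc
    show _ ∨ _
    rw [hmul, hmul]
    rcases hc with ⟨h1, h2⟩ | ⟨h1, h2⟩ <;> rcases hb with ⟨h3, h4⟩ | ⟨h3, h4⟩ <;>
      simp only [h1, h2, h3, h4, ← conj_inv, inv_inv] <;> simp
  let B : Subgroup G :=
    { carrier := {b | b ∈ A ∧ P b}
      one_mem' := ⟨A.one_mem, Or.inl ⟨by group, by group⟩⟩
      mul_mem' := fun {a b} ha hb => ⟨A.mul_mem ha.1 hb.1, hPP a b ha.2 hb.2⟩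
      inv_mem' := fun {a} ha => by
        rw [Set.mem_setOf_eq, inv_eq_of_mul_eq_one_right (hA a ha.1)]; exact ha }
  have hB : B ≤ A := fun b hb => hb.1
  refine ⟨B, ⟨hB.trans hAM, hA.of_le hB, hq.trans ?_⟩, hB, fun b hb => hb.2⟩
  by_cases hall : A ≤ B
  · have := card_le_of_le hall
    omega
  obtain ⟨a0, ha0, ha0B⟩ := SetLike.not_le_iff_exists.1 hall
  have hQ0 : Q a0 := (hor a0 ha0).resolve_left fun h => ha0B ⟨ha0, h⟩
  have hcov : (A : Set G) ⊆ (B : Set G) ∪ (fun b => a0 * b) '' (B : Set G) := by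
    intro b hb
    rcases hor b hb with h | h
    · exact Or.inl ⟨hb, h⟩
    · exact Or.inr ⟨a0 * b, ⟨A.mul_mem ha0 hb, hQQ _ _ hQ0 h⟩,
        by show a0 * (a0 * b) = b; rw [← mul_assoc, hA a0 ha0, one_mul]⟩
  have h1 := (Set.ncard_le_ncard hcov (Set.toFinite _)).trans (Set.ncard_union_le _ _)
  have h2 := Set.ncard_image_le (f := fun b => a0 * b) (Set.toFinite (B : Set G))
  have e1 : (A : Set G).ncard = Nat.card A := (Nat.card_coe_set_eq _).symm
  have e2 : (B : Set G).ncard = Nat.card B := (Nat.card_coe_set_eq _).symm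
  omega

namespace Ctx

variable [IsSimpleGroup G] {M T : Subgroup G} (h : Ctx M) (hT : IsSyl T M) {p : ℕ} [hp : Fact p.Prime]
  {P : Subgroup G} (hP : SylP p P (Wc M)) (hF : Full M T (normalizer (P : Set G)))
  {y : G ⧸ M} (hy : y ∈ Orb M (normalizer (P : Set G))) (hya : y ≠ base M)
include h hT hP hF

/-- `P` lies in the conjugate of `W` at every point of its orbit. -/
theorem sylP_Wp (hy : y ∈ Orb M (normalizer (P : Set G))) : SylP p P (Wp M y) := by
  have h1 : P ≤ Wc (normalizer (P : Set G)) :=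
    le_Wc le_normalizer le_rfl ((odd_Wc M).of_dvd_nat (card_dvd_of_le hP.le))
  rw [hF.core_eq_Wp h hT hy] at h1
  refine ⟨h1.trans inf_le_left, ?_⟩
  rw [Wp, card_cj]
  exact hP.card

include hy hya

/-- Elements centralised by all involutions of `N(P)`. -/
theorem cent_le_W_of_inv {r : G} (hr1 : r ≠ 1)
    (hall : ∀ s ∈ normalizer (P : Set G), orderOf s = 2 → s * r = r * s) :
    Wp M y ⊓ centralizer ({r} : Set G) ≤ Wc M := by
  obtain ⟨u, huL, hu, hua⟩ := hF.exists_swap h hT hy hya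
  obtain ⟨A', hA', hE, hc⟩ := hF.elem
  have hCtop : centralizer ({r} : Set G) ≠ ⊤ := by
    intro e
    have hrc : r ∈ Subgroup.center G := Subgroup.mem_center_iff.2 fun g => by
      exact mem_cent.1 (e ▸ mem_top g)
    rcases (inferInstance : (Subgroup.center G).Normal).eq_bot_or_eq_top with e' | e'
    · exact hr1 (mem_bot.1 (e' ▸ hrc))
    · exact h.hna ⟨⟨fun a b => (Subgroup.mem_center_iff.1 (e'.ge (mem_top b)) a)⟩⟩
  have hFC : Full M T (centralizer ({r} : Set G)) := by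
    refine ⟨hCtop, fun hle => hya ?_, A', fun a ha => ⟨mem_cent.2 ?_, (hA' ha).2⟩, hE, hc⟩
    · rw [← hua]
      exact smul_base_eq_iff.2 (hle (mem_cent.2 (hall u huL hu)))
    · by_cases ha1 : a = 1
      · rw [ha1, one_mul, mul_one]
      · exact hall a (hA' ha).1 (hE.orderOf_eq ha ha1)
  have hyC : y ∈ Orb M (centralizer ({r} : Set G)) :=
    ⟨u, mem_cent.2 (hall u huL hu), by rw [← hua, smul_base]⟩
  rw [← hFC.core_eq_Wp h hT hyC]
  exact hFC.core_le h hT

/-- Lemma C. -/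
theorem cent_le_M {r : G} (hrP : r ∈ P) (hr1 : r ≠ 1) (hrc : ∀ x ∈ P, x * r = r * x) {B : Subgroup G}
    (hB : Hyp M T B) (hBr : B ≤ normalizer (zpowers r : Set G)) :
    Wp M y ⊓ centralizer ({r} : Set G) ≤ M := by
  set L' := normalizer (zpowers r : Set G) with hL'
  have hCL : centralizer ({r} : Set G) ≤ L' := fun g hg =>
    mem_normalizer_zpowers (by
      rw [mem_cent.1 hg, mul_inv_cancel_right]; exact mem_zpowers r)
  by_cases hle : L' ≤ M
  · exact inf_le_right.trans (hCL.trans hle)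
  have hne : L' ≠ ⊤ := normalizer_ne_top (fun e => hr1 (zpowers_eq_bot.1 e))
    (h.ne_top_of_le_M (zpowers_le.2 (Wc_le M (hP.le hrP))))
  have hF' := Full.of_hyperplane h hT hne hle (le_inf hBr hB.le) hB.elem hB.card
  have hPL : P ≤ L' := fun x hx => hCL (mem_cent.2 (hrc x hx))
  have hPs : SylP p P (Wc L') := by
    have h1 : Wc L' = Wc M ⊓ L' := hF'.core_eq h hT
    exact hP.of_le (h1 ▸ le_inf hP.le hPL) (hF'.core_le h hT)
  obtain ⟨hF'', horb⟩ := hF'.frattini h hT hPs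
  rw [hF.orb_eq h hT hF'' inf_le_right] at horb
  refine le_trans (inf_le_inf_left _ hCL) ?_
  rw [← hF'.core_eq_Wp h hT (horb ▸ hy)]
  exact hF'.le_M h hT

omit hy hya hP hF in
/-- An element of `W` inverted by an involution and centralised by a hyperplane. -/
theorem centralizer_le_of_inverted {v a : G} (hv : v ∈ Wc M) (hv1 : v ≠ 1) (haM : a ∈ M)
    (ha : orderOf a = 2) (hinv : a * v * a⁻¹ = v⁻¹) {B : Subgroup G} (hB : Hyp M T B)
    (hBv : ∀ b ∈ B, b * v = v * b) : centralizer ({v} : Set G) ≤ M := by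
  set L' := normalizer (zpowers v : Set G) with hL'
  have hCL : centralizer ({v} : Set G) ≤ L' := fun g hg =>
    mem_normalizer_zpowers (by rw [mem_cent.1 hg, mul_inv_cancel_right]; exact mem_zpowers v)
  refine hCL.trans ?_
  by_contra hle
  have hne : L' ≠ ⊤ := normalizer_ne_top (fun e => hv1 (zpowers_eq_bot.1 e))
    (h.ne_top_of_le_M (zpowers_le.2 (Wc_le M hv)))
  have hBL : B ≤ L' := fun b hb => hCL (mem_cent.2 (hBv b hb))
  have hF' := Full.of_hyperplane h hT hne hle (le_inf hBL hB.le) hB.elem hB.card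
  have haL : a ∈ L' := mem_normalizer_zpowers (by rw [hinv]; exact inv_mem (mem_zpowers v))
  obtain ⟨b, hb, hb2⟩ := exists_involution_of_elem hB.elem (by have := hB.four_le h hT; omega)
  obtain ⟨c, hc, e⟩ := hF'.conj_L h hT (hBL hb) hb2 haL ha
  obtain ⟨i, hi⟩ := mem_zpowers_iff.1 ((mem_normalizer_iff''.1 hc v).1 (mem_zpowers v))
  have hbc : b * (c⁻¹ * v * c) = c⁻¹ * v * c * b := by
    rw [← hi]; exact ((show Commute b v from hBv b hb).zpow_right i).eq
  have hav : a * v * a⁻¹ = v := by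
    rw [← e]
    calc c * b * c⁻¹ * v * (c * b * c⁻¹)⁻¹ = c * (b * (c⁻¹ * v * c)) * b⁻¹ * c⁻¹ := by group
      _ = v := by rw [hbc]; group
  rw [hinv] at hav
  exact hv1 (ZStar.eq_one_of_odd_of_sq (odd_orderOf_of_mem (odd_Wc M) hv)
    (by rw [pow_two]; nth_rw 2 [← hav]; exact mul_inv_cancel v))

end Ctx

end CfsgLib.InvCent
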