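import Cfsg.Agent.Lib.InvCentTwoNilp.Basic
import Cfsg.Agent.Lib.Transfer.SLTwoFree
import Cfsg.Agent.Lib.Transfer.LinearStable
import Cfsg.Agent.Lib.LocalEvenB.CharP

/-!
# 2-nilpotent involution centralisers exclude quadratic sections (S3214)

Owner: helper5.
-/

set_option autoImplicit false

namespace CfsgLib.InvCent

open Subgroup CfsgLib.PLocal.SLTwo

/-- A quaternion group and an element of order three acting on it inside `SL(2, p)`. -/
theorem exists_quaternion_three {p : ℕ} [Fact p.Prime] (hp : p ≠ 2) :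
    ∃ (Q : Subgroup (S2 (ZMod p))) (d : S2 (ZMod p)), IsPGroup 2 Q ∧ d ^ 3 = 1 ∧
      d ∈ normalizer (Q : Set (S2 (ZMod p))) ∧ d ∉ centralizer (Q : Set (S2 (ZMod p))) ∧
      (-1 : S2 (ZMod p)) ∈ Q ∧ (-1 : S2 (ZMod p)) ≠ 1 := by
  obtain ⟨a, b, hab⟩ := ZMod.sq_add_sq p (-1)
  have h2 : (2 : ZMod p) ≠ 0 := fun h0 => hp ((Nat.prime_dvd_prime_iff_eq Fact.out Nat.prime_two).1
    ((ZMod.natCast_eq_zero_iff 2 p).1 (by simpa using h0)))
  obtain ⟨h, hh⟩ : ∃ h : ZMod p, 2 * h = 1 := ⟨2⁻¹, mul_inv_cancel₀ h2⟩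
  have hneg : (-1 : S2 (ZMod p)) ≠ 1 := fun e => h2 (by
    have e' := congrArg (fun z : S2 (ZMod p) => z.1 0 0) e
    simp at e'
    linear_combination -e')
  let i : S2 (ZMod p) := ⟨!![0, 1; -1, 0], by simp [Matrix.det_fin_two_of]⟩
  let j : S2 (ZMod p) := ⟨!![a, b; b, -a], by
    rw [Matrix.det_fin_two_of]; linear_combination (-1 : ZMod p) * hab⟩
  let d : S2 (ZMod p) := ⟨!![h * (-1 + a + b), h * (1 + b - a); h * (-1 + b - a), h * (-1 - a - b)], by
    rw [Matrix.det_fin_two_of]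
    linear_combination (-2 * h ^ 2 : ZMod p) * hab + (2 * h + 1) * hh⟩
  have i_00 : i.1 0 0 = 0 := rfl
  have i_01 : i.1 0 1 = 1 := rfl
  have i_10 : i.1 1 0 = -1 := rfl
  have i_11 : i.1 1 1 = 0 := rfl
  have j_00 : j.1 0 0 = a := rfl
  have j_01 : j.1 0 1 = b := rfl
  have j_10 : j.1 1 0 = b := rfl
  have j_11 : j.1 1 1 = -a := rfl
  have d_00 : d.1 0 0 = h * (-1 + a + b) := rfl
  have d_01 : d.1 0 1 = h * (1 + b - a) := rfl
  have d_10 : d.1 1 0 = h * (-1 + b - a) := rfl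
  have d_11 : d.1 1 1 = h * (-1 - a - b) := rfl
  have hi : i ^ 2 = -1 := by
    rw [pow_two]
    refine ext2 ?_ ?_ ?_ ?_ <;> simp [m00, m01, m10, m11, i_00, i_01, i_10, i_11]
  have hj : j ^ 2 = -1 := by
    rw [pow_two]
    refine ext2 ?_ ?_ ?_ ?_ <;> simp [m00, m01, m10, m11, j_00, j_01, j_10, j_11] <;>
      first | linear_combination hab | ring1
  have hij : i * j = -(j * i) := by
    refine ext2 ?_ ?_ ?_ ?_ <;>
      simp [m00, m01, m10, m11, i_00, i_01, i_10, i_11, j_00, j_01, j_10, j_11]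
  have hdi : d * i = i * j * d := by
    refine ext2 ?_ ?_ ?_ ?_ <;>
      simp [m00, m01, m10, m11, i_00, i_01, i_10, i_11, j_00, j_01, j_10, j_11, d_00, d_01, d_10,
        d_11] <;>
      first | ring1 | linear_combination (h : ZMod p) * hab | linear_combination (-h : ZMod p) * hab
  have hdj : d * j = i * d := by
    refine ext2 ?_ ?_ ?_ ?_ <;>
      simp [m00, m01, m10, m11, i_00, i_01, i_10, i_11, j_00, j_01, j_10, j_11, d_00, d_01, d_10,
        d_11] <;>
      first | ring1 | linear_combination (h : ZMod p) * hab | linear_combination (-h : ZMod p) * hab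
  have hd3 : d ^ 3 = 1 := by
    have hd2 : d * d = d⁻¹ := by
      refine ext2 ?_ ?_ ?_ ?_ <;>
        simp [m00, m01, m10, m11, i00, i01, i10, i11, d_00, d_01, d_10, d_11]
      · linear_combination (2 * h ^ 2 : ZMod p) * hab + (-h * (a + b + 1)) * hh
      · linear_combination (-h * (1 + b - a)) * hh
      · linear_combination (-h * (-1 + b - a)) * hh
      · linear_combination (2 * h ^ 2 : ZMod p) * hab + (h * (a + b - 1)) * hh
    rw [pow_succ, pow_two, hd2, inv_mul_cancel]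
  set Q := zpowers i ⊔ zpowers j with hQ
  have h4 : ∀ z : S2 (ZMod p), z ^ 2 = -1 → z ^ 2 ^ 2 = 1 := fun z hz => by
    rw [show (2 : ℕ) ^ 2 = 2 * 2 from rfl, pow_mul, hz, PLocal.SLTwo.neg_one_sq]
  have hji : j * i * j⁻¹ ∈ zpowers i := by
    have h3 : j * i = i ^ 3 * j := by
      rw [pow_succ, hi, mul_assoc, hij]
      simp [neg_mul, mul_neg]
    rw [h3, mul_inv_cancel_right]
    exact pow_mem (mem_zpowers i) 3
  have hN : zpowers j ≤ normalizer ((zpowers i : Subgroup _) : Set (S2 (ZMod p))) := by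
    rw [zpowers_le, mem_normalizer_iff_map_conj_eq]
    refine eq_of_le_of_card_ge ?_ (card_map_of_injective (MulAut.conj j).injective).ge
    rintro _ ⟨_, ⟨z, rfl⟩, rfl⟩
    show j * i ^ z * j⁻¹ ∈ zpowers i
    rw [← conj_zpow]
    exact zpow_mem hji z
  have hQ2 : IsPGroup 2 Q := by
    haveI : Fact (Nat.Prime 2) := ⟨Nat.prime_two⟩
    rw [hQ, sup_comm]
    exact (Transfer.isPGroup_zpowers_of_pow_eq_one (h4 j hj)).to_sup_of_normal_right'
      (Transfer.isPGroup_zpowers_of_pow_eq_one (h4 i hi)) hN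
  have hiQ : i ∈ Q := mem_sup_left (mem_zpowers i)
  have hjQ : j ∈ Q := mem_sup_right (mem_zpowers j)
  have ei : d * i * d⁻¹ = i * j := by rw [hdi, mul_inv_cancel_right]
  have ej : d * j * d⁻¹ = i := by rw [hdj, mul_inv_cancel_right]
  refine ⟨Q, d, hQ2, hd3, ?_, ?_, hi ▸ pow_mem hiQ 2, hneg⟩
  · rw [mem_normalizer_iff_map_conj_eq]
    refine eq_of_le_of_card_ge ?_ (card_map_of_injective (MulAut.conj d).injective).ge
    rw [hQ]
    refine (Subgroup.map_sup _ _ _).trans_le (sup_le ?_ ?_)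
    · rw [MonoidHom.map_zpowers, zpowers_le]
      show d * i * d⁻¹ ∈ Q
      rw [ei]
      exact mul_mem hiQ hjQ
    · rw [MonoidHom.map_zpowers, zpowers_le]
      show d * j * d⁻¹ ∈ Q
      rw [ej]
      exact hiQ
  · intro hc
    have h1 : d * j * d⁻¹ = j := by
      rw [← mem_centralizer_iff.1 hc j hjQ, mul_inv_cancel_right]
    rw [ej] at h1
    have h5 : i * j = -(i * j) := by
      conv_lhs => rw [hij]
      rw [h1]
    have h6 : (1 : S2 (ZMod p)) = -1 := by
      have h7 := congrArg (fun z => (i * j)⁻¹ * z) h5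
      simpa [mul_neg] using h7
    exact hneg h6.symm

/-- A group all of whose involution centralisers are 2-nilpotent does not involve `SL(2, p)`. -/
theorem TwoNilpCent.not_involves {G : Type*} [Group G] [Finite G] (hI : TwoNilpCent G) {p : ℕ}
    [Fact p.Prime] (hp : p ≠ 2) :
    ¬ Cfsg.Involves (Matrix.SpecialLinearGroup (Fin 2) (ZMod p)) G := by
  classical
  haveI : Fact (Nat.Prime 2) := ⟨Nat.prime_two⟩
  rintro ⟨K, R, hR, ⟨e⟩⟩
  haveI := hR
  obtain ⟨Q, d, hQ, hd3, hdn, hdc, hzQ, hz1⟩ := exists_quaternion_three (p := p) hp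
  set f : K →* S2 (ZMod p) := e.toMonoidHom.comp (QuotientGroup.mk' (R.subgroupOf K)) with hf
  have hfs : Function.Surjective f := e.surjective.comp (QuotientGroup.mk'_surjective _)
  -- the preimage of `Q` and a Sylow subgroup of it
  set H : Subgroup K := Q.comap f with hH
  obtain ⟨P⟩ : Nonempty (Sylow 2 H) := inferInstance
  set S : Subgroup K := (P : Subgroup H).map H.subtype with hS
  have hSp : IsPGroup 2 S := P.2.map _
  let g : H →* Q := f.subgroupComap Q
  have hgs : Function.Surjective g := fun q => by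
    obtain ⟨k, hk⟩ := hfs q
    exact ⟨⟨k, show f k ∈ Q by rw [hk]; exact q.2⟩, Subtype.ext hk⟩
  have hPg : (P : Subgroup H).map g = ⊤ := by
    have h1 := (P.mapSurjective hgs)
    have h2 : ((P.mapSurjective hgs : Sylow 2 Q) : Subgroup Q) = ⊤ := by
      have htop : IsPGroup 2 (⊤ : Subgroup Q) := hQ.of_equiv topEquiv.symm
      exact ((P.mapSurjective hgs).3 htop le_top).symm
    rwa [Sylow.coe_mapSurjective] at h2
  have hmapS : S.map f = Q := by
    refine le_antisymm ?_ fun q hq => ?_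
    · rintro _ ⟨_, ⟨x, -, rfl⟩, rfl⟩
      exact x.2
    · have : (⟨q, hq⟩ : Q) ∈ (P : Subgroup H).map g := by rw [hPg]; trivial
      obtain ⟨x, hx, hxq⟩ := this
      exact ⟨x, ⟨x, hx, rfl⟩, congrArg Subtype.val hxq⟩
  -- a lift of `d` normalising `S`
  obtain ⟨k0, hk0⟩ := hfs d
  have hk0H : k0 ∈ normalizer (H : Set K) := by
    rw [mem_normalizer_iff]
    intro x
    rw [hH, mem_comap, mem_comap, map_mul, map_mul, map_inv, hk0]
    exact mem_normalizer_iff.1 hdn (f x)
  obtain ⟨c, hc, hce⟩ : ∃ c ∈ H, c * k0 ∈ normalizer (S : Set K) := by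
    have hle : S.map (MulAut.conj k0).toMonoidHom ≤ H := by
      rintro _ ⟨y, hy, rfl⟩
      exact (mem_normalizer_iff.1 hk0H y).1 (map_subtype_le _ hy)
    obtain ⟨c, hc, hce⟩ := Core.exists_conj_of_card_eq P hle
      (card_map_of_injective (MulAut.conj k0).injective)
    refine ⟨c⁻¹, inv_mem hc, mem_normalizer_iff_map_conj_eq.2 ?_⟩
    show S.map (MulAut.conj (c⁻¹ * k0)).toMonoidHom = S
    apply map_injective (f := (MulAut.conj c).toMonoidHom) (MulAut.conj c).injective
    rw [map_map]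
    refine Eq.trans ?_ hce.symm
    congr 1
    ext y
    simp [mul_assoc]
  obtain ⟨s0, hs0, hs0c⟩ : ∃ s ∈ S, f s = f c := by
    have : f c ∈ S.map f := by rw [hmapS]; exact hc
    exact this
  set k1 := s0⁻¹ * (c * k0) with hk1
  have hk1n : k1 ∈ normalizer (S : Set K) := mul_mem (le_normalizer (inv_mem hs0)) hce
  have hfk1 : f k1 = d := by
    rw [hk1, map_mul, map_mul, map_inv, hs0c, hk0, inv_mul_cancel_left]
  obtain ⟨a, m, hm, hord⟩ := Nat.exists_eq_two_pow_mul_odd (orderOf_pos k1).ne'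
  set x := k1 ^ (2 ^ a) with hx
  have hxo : Odd (orderOf x) := by
    rw [hx, orderOf_pow_of_dvd (pow_ne_zero _ two_ne_zero) (hord ▸ dvd_mul_right _ m), hord,
      Nat.mul_div_cancel_left _ (pow_pos two_pos a)]
    exact hm
  have hxn : x ∈ normalizer (S : Set K) := pow_mem hk1n _
  have hfx : f x ∉ centralizer (Q : Set (S2 (ZMod p))) := by
    intro hcx
    rw [hx, map_pow, hfk1] at hcx
    refine hdc ?_
    have h1 : d ∈ zpowers (d ^ 2 ^ a) := by
      have h4 : (2 ^ a * 2 ^ a) % 3 = 1 := by rw [← mul_pow, Nat.pow_mod]; norm_num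
      refine mem_zpowers_iff.2 ⟨((2 ^ a : ℕ) : ℤ), ?_⟩
      rw [zpow_natCast, ← pow_mul, ← Nat.mod_add_div (2 ^ a * 2 ^ a) 3, h4, pow_add, pow_one,
        pow_mul, hd3, one_pow, mul_one]
    exact (zpowers_le.2 hcx) h1
  have hxS : zpowers x ≤ normalizer (S : Set K) := zpowers_le.2 hxn
  -- a fixed lift of the central involution
  obtain ⟨z0, hz0, hz0e⟩ : (-1 : S2 (ZMod p)) ∈ S.map f := by rw [hmapS]; exact hzQ
  set N := S ⊓ f.ker with hNdef
  obtain ⟨n, hn, hzn⟩ := Core.exists_centralizing_in_coset (A := zpowers x) (N := N) (k := z0)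
    (zpowers_le.2 (by
      rw [mem_normalizer_iff]
      intro y
      simp only [hNdef, mem_inf, MonoidHom.mem_ker, map_mul, map_inv, mul_inv_eq_one]
      rw [mem_normalizer_iff.1 hxn y, mul_eq_left]))
    (by
      rw [Nat.card_zpowers]
      obtain ⟨l, hl⟩ := IsPGroup.iff_card.1 (hSp.to_le (inf_le_left : N ≤ S))
      rw [hl]
      exact Nat.Coprime.pow_right l (Nat.coprime_two_right.2 hxo))
    (Or.inl (by infer_instance)) (fun b hb => by
      refine mem_inf.2 ⟨mul_mem (inv_mem hz0) ((mem_normalizer_iff.1 (hxS hb) z0).1 hz0), ?_⟩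
      rw [MonoidHom.mem_ker, map_mul, map_mul, map_mul, map_inv, map_inv, hz0e]
      simp)
  set z := z0 * n with hz
  have hzS : z ∈ S := mul_mem hz0 hn.1
  have hfz : f z = -1 := by rw [hz, map_mul, hz0e, MonoidHom.mem_ker.1 hn.2, mul_one]
  obtain ⟨l, hl⟩ := IsPGroup.iff_orderOf.1 hSp ⟨z, hzS⟩
  rw [Subgroup.orderOf_mk] at hl
  have hl0 : l ≠ 0 := fun h0 => hz1 (by
    rw [h0, pow_zero, orderOf_eq_one_iff] at hl
    rw [← hfz, hl, map_one])
  set t := z ^ 2 ^ (l - 1) with ht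
  have hto : orderOf t = 2 := by
    rw [ht, orderOf_pow_of_dvd (pow_ne_zero _ two_ne_zero)
      (by rw [hl]; exact pow_dvd_pow 2 (Nat.sub_le l 1)), hl, Nat.pow_div (Nat.sub_le l 1) two_pos,
      show l - (l - 1) = 1 by omega, pow_one]
  have htS : t ∈ S := pow_mem hzS _
  have hxt : x * t = t * x :=
    (Commute.pow_right (mem_centralizer_iff.1 hzn x (mem_zpowers x)) _ : Commute x t).eq
  have hIK := hI.subgroup K
  have hxth : x ∈ theta t := hIK.mem_theta hto hxt hxo
  have hxc : x ∈ centralizer (S : Set K) := by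
    refine LocalEvenB.mem_centralizer_of_axb (p := 2) (B := zpowers t) (Nat.coprime_two_right.2 hxo)
      hSp (hSp.to_le (zpowers_le.2 htS)) ((zpowers_le.2 htS).trans le_normalizer) hxn
      (mem_centralizer_iff.2 fun b hb => ?_) (mem_centralizer_iff.2 fun s hs => ?_)
    · obtain ⟨i, rfl⟩ := mem_zpowers_iff.1 hb
      exact ((Commute.zpow_right (show Commute x t from hxt) i)).symm.eq
    · obtain ⟨hsS, hsB⟩ := mem_inf.1 hs
      have hst : s * t = t * s := (mem_centralizer_iff.1 hsB t (mem_zpowers t)).symm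
      have h1 : s * x * s⁻¹ * x⁻¹ ∈ theta t :=
        mul_mem ((mem_normalizer_iff.1 (le_normalizer_theta t (mem_cent.2 hst)) x).1 hxth)
          (inv_mem hxth)
      have h2 : s * x * s⁻¹ * x⁻¹ ∈ S := by
        rw [show s * x * s⁻¹ * x⁻¹ = s * (x * s⁻¹ * x⁻¹) by group]
        exact mul_mem hsS ((mem_normalizer_iff.1 hxn _).1 (inv_mem hsS))
      obtain ⟨i, hi⟩ := IsPGroup.iff_orderOf.1 hSp ⟨_, h2⟩
      rw [Subgroup.orderOf_mk] at hi
      have h3 : s * x * s⁻¹ * x⁻¹ = 1 := orderOf_eq_one_iff.1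
        (Nat.eq_one_of_dvd_coprimes ((odd_orderOf_of_mem (odd_card_theta t) h1).coprime_two_left.pow_left i)
          (by rw [hi]) dvd_rfl)
      exact (mul_inv_eq_iff_eq_mul.1 (mul_inv_eq_one.1 h3))
  refine hfx (mem_centralizer_iff.2 fun q hq => ?_)
  obtain ⟨s, hs, rfl⟩ : q ∈ S.map f := by rw [hmapS]; exact hq
  rw [← map_mul, ← map_mul, mem_centralizer_iff.1 hxc s hs]

universe u

/-- No quadratic sections. -/
theorem TwoNilpCent.noQuad {G : Type u} [Group G] [Finite G] (hI : TwoNilpCent G) {p : ℕ}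
    [Fact p.Prime] (hp : p ≠ 2) : Transfer.NoQuad p G :=
  Transfer.noQuad_of_not_involves
    (fun _ _ _ V H hV hN hf hO x hx hx1 hxp hq =>
      Transfer.involves_SLTwo_of_quadratic hp V H hV hN hf hO x hx hx1 hxp hq)
    (hI.not_involves hp)

end CfsgLib.InvCent
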