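import Cfsg.Agent.Lib.InvCentTwoNilp.Common
import Cfsg.Agent.Lib.InvCentTwoNilp.NoSLTwo
import Cfsg.Agent.Lib.Transfer.ZJControl
import Cfsg.Agent.Lib.Transfer.ZJFull

/-!
# Good primes (S3214)

Owner: helper5.  A prime `p` is good when `N(Q) ≤ M` for a Sylow `p`-subgroup `Q` of `W`.
-/

set_option autoImplicit false
set_option linter.unusedSectionVars false

namespace CfsgLib.InvCent

open Subgroup CfsgLib.CIT
open CfsgLib.Signalizer (involution_sq involution_inv involution_ne_one orderOf_eq_two_of orderOf_conj)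
open CfsgLib.TwoGroups.SE (smul_mk_eq_iff)

universe u

theorem SylP.exists_sylow_top {G : Type u} [Group G] [Finite G] {p : ℕ} [Fact p.Prime] {P : Subgroup G}
    (hP : SylP p P ⊤) : ∃ S : Sylow p G, (S : Subgroup G) = P := by
  obtain ⟨S, hS⟩ := hP.isPGroup.exists_le_sylow
  exact ⟨S, (hP.eq_of_le hS le_top S.2).symm⟩

/-- A `p`-subgroup of `H` whose normaliser lies in `H`, Sylow in `H`, is Sylow. -/
theorem SylP.top_of_normalizer_le {G : Type u} [Group G] [Finite G] {p : ℕ} [Fact p.Prime]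
    {P H : Subgroup G} (hP : SylP p P H) (hn : normalizer (P : Set G) ≤ H) : SylP p P ⊤ := by
  refine sylP_of_normalizer ?_
  rw [top_inf_eq]
  exact hP.of_le le_normalizer hn

variable {G : Type u} [Group G] [Finite G] [IsSimpleGroup G] {M T : Subgroup G}

namespace Ctx

variable (h : Ctx M) (hT : IsSyl T M) {p : ℕ} [hp : Fact p.Prime] {Q : Subgroup G}
  (hQ : SylP p Q (Wc M)) (hgood : normalizer (Q : Set G) ≤ M)
include h hT

omit h hT in
theorem ne_two_of_mem {x : G} (hx : x ∈ Wc M) (ho : orderOf x = p) : p ≠ 2 := fun e => by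
  have := odd_orderOf_of_mem (odd_Wc M) hx
  rw [ho, e] at this
  exact absurd this (by decide)

include hQ hgood

/-- C1: the normaliser of a `p`-subgroup of `W` normalised by a hyperplane lies in `M`. -/
theorem normalizer_le {X : Subgroup G} (hX : X ≤ Wc M) (hXp : IsPGroup p X) (hX1 : X ≠ ⊥)
    {B : Subgroup G} (hB : Hyp M T B) (hBX : B ≤ normalizer (X : Set G)) :
    normalizer (X : Set G) ≤ M := by
  classical
  induction hn : Nat.card (Wc M) - Nat.card X using Nat.strong_induction_on generalizing X B with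
  | _ n ih =>
  by_contra hLM
  set L := normalizer (X : Set G) with hL
  have hF : Full M T L := Full.of_hyperplane h hT
    (normalizer_ne_top hX1 (h.ne_top_of_le_M (hX.trans (Wc_le M)))) hLM (le_inf hBX hB.le) hB.elem hB.card
  have hXL : X ≤ Wc L :=
    le_Wc le_normalizer le_rfl ((odd_Wc M).of_dvd_nat (card_dvd_of_le hX))
  obtain ⟨X1, hX1s, hXX1⟩ := exists_sylP_ge hXL hXp
  have hX1W : X1 ≤ Wc M := hX1s.le.trans (hF.core_le h hT)
  rcases eq_or_lt_of_le hXX1 with e | hlt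
  · subst e
    have hs : SylP p X (Wc M ⊓ L) := by rw [← hF.core_eq h hT]; exact hX1s
    have hXs := sylP_of_normalizer hs
    obtain ⟨w, hw, e⟩ := hQ.exists_conj hXs
    refine hLM ?_
    rw [hL, ← e, normalizer_cj]
    exact (cj_mono hgood).trans (mem_normalizer_iff_cj.1 (le_normalizer (Wc_le M hw))).le
  · obtain ⟨hF', -⟩ := hF.frattini h hT hX1s
    obtain ⟨A', hA', hE, hc⟩ := hF'.elem
    have hcard : Nat.card X < Nat.card X1 :=
      lt_of_le_of_ne (card_le_of_le hXX1) fun e => hlt.ne (eq_of_le_of_card_ge hXX1 e.ge)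
    have hle := card_le_of_le hX1W
    have h1 := ih (Nat.card (Wc M) - Nat.card X1) (by omega) hX1W hX1s.isPGroup
      (fun e => by rw [e] at hlt; exact not_lt_bot hlt) (B := A')
      ⟨hA'.trans inf_le_right, hE, by rw [hc]; omega⟩ (hA'.trans (inf_le_left.trans inf_le_right)) rfl
    exact hF'.notle (inf_le_right.trans h1)

/-- A good element of `W` centralised by a hyperplane has its centraliser in `M`. -/
theorem centralizer_le {z : G} (hz : z ∈ Wc M) (hzo : orderOf z = p) {B : Subgroup G} (hB : Hyp M T B)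
    (hBz : ∀ b ∈ B, b * z = z * b) : centralizer ({z} : Set G) ≤ M := by
  have hle : ∀ g : G, g * z = z * g → g ∈ normalizer (Subgroup.zpowers z : Set G) := fun g hg => by
    rw [mem_normalizer_iff_cj, CIT.cj, MonoidHom.map_zpowers]
    congr 1
    show g * z * g⁻¹ = z
    rw [hg, mul_inv_cancel_right]
  have h1 := h.normalizer_le hT hQ hgood (X := Subgroup.zpowers z) (zpowers_le.2 hz)
    (IsPGroup.of_card (n := 1) (by rw [Nat.card_zpowers, hzo, pow_one]))
    (fun e => hp.out.one_lt.ne' (by rw [← hzo, zpowers_eq_bot.1 e, orderOf_one]))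
    hB (fun b hb => hle b (hBz b hb))
  exact fun g hg => h1 (hle g (mem_cent.1 hg))

omit hgood in
/-- The Sylow subgroup of `W` is Sylow in `M` if `p` does not divide `q - 1`. -/
theorem sylP_M (hdvd : ¬ p ∣ Nat.card (invSub T) - 1) (hp2 : p ≠ 2) : SylP p Q M := by
  refine ⟨hQ.le.trans (Wc_le M), hQ.card.trans (congrArg (p ^ ·) ?_)⟩
  haveI : ((Wc M).subgroupOf (T ⊔ Wc M)).Normal :=
    normal_subgroupOf_of_le_normalizer (sup_le (T_le_norm hT) le_normalizer)
  obtain ⟨k, hk⟩ := hT.2.1.exists_card_eq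
  have h1 : Nat.card M = (T ⊔ Wc M).relIndex M * Nat.card ↥(T ⊔ Wc M) := by
    rw [← Nat.card_congr (subgroupOfEquivOfLe (sup_le hT.1 (Wc_le M))).toEquiv, mul_comm]
    exact (card_mul_index _).symm
  have h2 : Nat.card ↥(T ⊔ Wc M) = 2 ^ k * Nat.card (Wc M) := by
    rw [← hk]
    refine Core.card_sup_of_disjoint _ _ (T_le_norm hT) ?_
    exact Ctx.inf_W hT
  rw [h1, h2, h.relIndex_TW hT,
    Nat.factorization_mul (by have := h.eight_le_invSub hT; omega)
      (Nat.mul_ne_zero (pow_ne_zero _ two_ne_zero) Nat.card_pos.ne'),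
    Nat.factorization_mul (pow_ne_zero _ two_ne_zero) Nat.card_pos.ne', Finsupp.add_apply,
    Finsupp.add_apply, Nat.factorization_eq_zero_of_not_dvd hdvd,
    Nat.factorization_eq_zero_of_not_dvd (fun e => hp2 ((Nat.prime_dvd_prime_iff_eq hp.out Nat.prime_two).1
      (hp.out.dvd_of_dvd_pow e))), zero_add, zero_add]

/-- A good element, of order prime to `q - 1`, centralised by a hyperplane fixes one point only. -/
theorem good_fix (hdvd : ¬ p ∣ Nat.card (invSub T) - 1) {z : G} (hz : z ∈ Wc M) (hzo : orderOf z = p)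
    {B : Subgroup G} (hB : Hyp M T B) (hBz : ∀ b ∈ B, b * z = z * b) {x : G ⧸ M} (hzx : z • x = x) :
    x = base M := by
  classical
  have hp2 : p ≠ 2 := ne_two_of_mem hz hzo
  have hC := h.centralizer_le hT hQ hgood hz hzo hB hBz
  have hQM := h.sylP_M hT hQ hdvd hp2
  have hQt := hQM.top_of_normalizer_le hgood
  obtain ⟨S, hS⟩ := hQt.exists_sylow_top
  have hQ1 : Q ≠ ⊥ := fun e => h.se.1 (top_le_iff.1 (le_trans (by
    rw [e, normalizer_eq_top_iff.2 (inferInstance : (⊥ : Subgroup G).Normal)]) hgood))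
  -- `N(ZJ Q) ≤ M`
  obtain ⟨T', hT', hT'Q⟩ := h.exists_syl_normalizing hT hQ
  have hJ : normalizer (Cfsg.centerThompsonOf p Q : Set G) ≤ M :=
    h.normalizer_le hT hQ hgood ((Transfer.centerThompsonOf_le Q).trans hQ.le)
      (hQ.isPGroup.to_le (Transfer.centerThompsonOf_le Q))
      (Transfer.centerThompsonOf_ne_bot hQ.isPGroup hQ1) (h.hyp_invSub hT hT')
      (((h.invSub_le hT').trans hT'Q).trans (Transfer.normalizer_le_normalizer_centerThompson Q))
  obtain ⟨g, rfl⟩ := QuotientGroup.mk_surjective x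
  have hzg : g⁻¹ * z * g ∈ M := (smul_mk_eq_iff z g).1 hzx
  have hzp : ∀ k : G, IsPGroup p (Subgroup.zpowers (k * z * k⁻¹)) := fun k =>
    IsPGroup.of_card (n := 1) (by rw [Nat.card_zpowers, orderOf_conj, hzo, pow_one])
  obtain ⟨w, hw, hwQ⟩ := hQM.exists_conj_ge (Q := Subgroup.zpowers (1 * z * 1⁻¹))
    (zpowers_le.2 (by simpa using Wc_le M hz)) (hzp 1)
  obtain ⟨m, hm, hmQ⟩ := hQM.exists_conj_ge (Q := Subgroup.zpowers (g⁻¹ * z * g⁻¹⁻¹))
    (zpowers_le.2 (by rwa [inv_inv])) (hzp g⁻¹)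
  have hwz : w * z * w⁻¹ ∈ Q := hwQ (conj_mem_cj.2 (by simp [mem_zpowers]))
  have hmz : m * (g⁻¹ * z * g) * m⁻¹ ∈ Q := by
    refine hmQ (conj_mem_cj.2 ?_)
    rw [inv_inv]; exact mem_zpowers _
  obtain ⟨n, hn, hne⟩ := Transfer.zj_controls_fusion hp2 (h.hI.noQuad hp2) S {w * z * w⁻¹}
    (Set.singleton_subset_iff.2 (show _ ∈ (S : Subgroup G) by rw [hS]; exact hwz)) (m * g⁻¹ * w⁻¹) (by
      rintro _ ⟨_, rfl, rfl⟩
      show _ ∈ (S : Subgroup G)
      rw [hS]
      show m * g⁻¹ * w⁻¹ * (w * z * w⁻¹) * (m * g⁻¹ * w⁻¹)⁻¹ ∈ Q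
      convert hmz using 1
      group)
  rw [hS] at hn
  have hnM := hJ hn
  have he := hne _ rfl
  set c := g * m⁻¹ * n * w with hc
  have hcz : c * z = z * c := by
    calc c * z = g * m⁻¹ * (n * (w * z * w⁻¹) * n⁻¹) * n * w := by rw [hc]; group
      _ = g * m⁻¹ * (m * g⁻¹ * w⁻¹ * (w * z * w⁻¹) * (m * g⁻¹ * w⁻¹)⁻¹) * n * w := by rw [he]
      _ = z * c := by rw [hc]; group
  have hg : g ∈ M := by
    have : g = c * w⁻¹ * n⁻¹ * m := by rw [hc]; group
    rw [this]
    exact M.mul_mem (M.mul_mem (M.mul_mem (hC (mem_cent.2 hcz)) (M.inv_mem hw)) (M.inv_mem hnM)) hm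
  exact (QuotientGroup.eq.2 (by simpa using hg)).symm

end Ctx

end CfsgLib.InvCent
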