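import Cfsg.Agent.Lib.InvCentTwoNilp.BadGen
import Cfsg.Agent.Lib.InvCentTwoNilp.Good

/-!
# A noncyclic bad Sylow subgroup pulls the conjugates of `W` into `M` (S3214)

Owner: helper5.
-/

set_option autoImplicit false
set_option linter.unusedSectionVars false

namespace CfsgLib.InvCent

open Subgroup CfsgLib.CIT
open scoped commutatorElement
open CfsgLib.Signalizer (involution_sq involution_inv involution_ne_one orderOf_eq_two_of orderOf_conj)

universe u

variable {G : Type u} [Group G] [Finite G]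

/-- Generation by the centralisers of a noncyclic group of exponent `p`. -/
theorem le_of_pair {p : ℕ} [hp : Fact p.Prime] {X Y : Subgroup G} {v w : G} (hv : v ^ p = 1) (hv1 : v ≠ 1)
    (hw : w ^ p = 1) (hwv : w ∉ zpowers v) (hvw : v * w = w * v)
    (hvX : v ∈ normalizer (X : Set G)) (hwX : w ∈ normalizer (X : Set G))
    (hcop : (Nat.card X).Coprime p)
    (hY : ∀ r ∈ zpowers v ⊔ zpowers w, r ≠ 1 → X ⊓ centralizer ({r} : Set G) ≤ Y) : X ≤ Y := by
  set E := zpowers v ⊔ zpowers w with hE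
  have hEc : IsMulCommutative E := by
    rw [hE, zpowers_eq_closure, zpowers_eq_closure, ← Subgroup.closure_union]
    exact isMulCommutative_closure (by
      intro s hs t ht
      rcases hs with rfl | rfl <;> rcases ht with rfl | rfl
      exacts [rfl, hvw, hvw.symm, rfl])
  have hexp : ∀ e ∈ E, e ^ p = 1 := by
    let P0 : Subgroup G :=
      { carrier := {e | e ∈ E ∧ e ^ p = 1}
        one_mem' := ⟨E.one_mem, one_pow _⟩
        mul_mem' := fun {a b} ha hb => ⟨E.mul_mem ha.1 hb.1, by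
          have hc : Commute a b := congrArg Subtype.val (hEc.is_comm.comm (⟨a, ha.1⟩ : E) ⟨b, hb.1⟩)
          rw [hc.mul_pow, ha.2, hb.2, one_mul]⟩
        inv_mem' := fun {a} ha => ⟨E.inv_mem ha.1, by rw [inv_pow, ha.2, inv_one]⟩ }
    intro e he
    exact ((sup_le (zpowers_le.2 ⟨mem_sup_left (mem_zpowers v), hv⟩)
      (zpowers_le.2 ⟨mem_sup_right (mem_zpowers w), hw⟩) : E ≤ P0) he).2
  have hEp : IsPGroup p E := fun e => ⟨1, Subtype.ext (by rw [pow_one]; exact hexp e e.2)⟩
  have hnc : ¬ IsCyclic E := by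
    intro hc
    obtain ⟨g, hg⟩ := IsCyclic.exists_generator (α := E)
    have hEg : E ≤ zpowers (g : G) := fun e he => by
      obtain ⟨i, hi⟩ := mem_zpowers_iff.1 (hg ⟨e, he⟩)
      exact mem_zpowers_iff.2 ⟨i, congrArg Subtype.val hi⟩
    have hEv : E ≤ zpowers v := by
      refine hEg.trans (le_of_eq (eq_of_le_of_card_ge (hEg.trans' le_sup_left : zpowers v ≤ zpowers (g : G)) ?_).symm)
      rw [Nat.card_zpowers, Nat.card_zpowers, orderOf_eq_prime hv hv1]
      exact Nat.le_of_dvd hp.out.pos (orderOf_dvd_of_pow_eq_one (hexp g g.2))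
    exact hwv (hEv (mem_sup_right (mem_zpowers w)))
  obtain ⟨k, hk⟩ := hEp.exists_card_eq
  rw [← Cfsg.Agent.S0058.result E X hnc (sup_le (zpowers_le.2 hvX) (zpowers_le.2 hwX))
    (hk ▸ (hcop.symm.pow_left k))]
  exact iSup₂_le fun r hr => hY r hr.1 hr.2

/-- `(x y) ^ n` for a central commutator. -/
theorem mul_pow_central {x y c : G} (hyx : y * x = x * y * c) (hcx : Commute c x) (hcy : Commute c y)
    (n : ℕ) : (x * y) ^ n = x ^ n * y ^ n * c ^ n.choose 2 := by
  have hyn : ∀ n : ℕ, y ^ n * x = x * y ^ n * c ^ n := by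
    intro n
    induction n with
    | zero => simp
    | succ n ih =>
      calc y ^ (n + 1) * x = y ^ n * (y * x) := by rw [pow_succ, mul_assoc]
        _ = y ^ n * x * (y * c) := by rw [hyx]; group
        _ = x * y ^ n * (c ^ n * y) * c := by rw [ih]; group
        _ = x * y ^ (n + 1) * c ^ (n + 1) := by rw [(hcy.pow_left n).eq, pow_succ, pow_succ]; group
  induction n with
  | zero => simp
  | succ n ih =>
    have hc2 : Commute (c ^ n.choose 2) (x * y) := (hcx.mul_right hcy).pow_left _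
    calc (x * y) ^ (n + 1) = x ^ n * y ^ n * (c ^ n.choose 2 * (x * y)) := by rw [pow_succ, ih]; group
      _ = x ^ n * (y ^ n * x) * y * c ^ n.choose 2 := by rw [hc2.eq]; group
      _ = x ^ (n + 1) * y ^ n * (c ^ n * y) * c ^ n.choose 2 := by rw [hyn, pow_succ]; group
      _ = x ^ (n + 1) * y ^ (n + 1) * c ^ (n + 1).choose 2 := by
        rw [(hcy.pow_left n).eq, Nat.choose_succ_succ', Nat.choose_one_right, pow_add c n, pow_succ y n]
        group

namespace Ctx

variable [IsSimpleGroup G] {M T : Subgroup G} (h : Ctx M) (hT : IsSyl T M) {p : ℕ} [hp : Fact p.Prime]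
  {P : Subgroup G} (hP : SylP p P (Wc M)) (hTP : T ≤ normalizer (P : Set G))
  (hbad : ¬ normalizer (P : Set G) ≤ M) (hnc : ¬ IsCyclic P)
  {y : G ⧸ M} (hy : y ∈ Orb M (normalizer (P : Set G))) (hya : y ≠ base M)
include h hT hP hTP hbad hnc

omit hnc in
theorem full_of_le (hne : P ≠ ⊥) : Full M T (normalizer (P : Set G)) :=
  ⟨normalizer_ne_top hne (h.ne_top_of_le_M (hP.le.trans (Wc_le M))), hbad, invSub T,
    le_inf ((h.invSub_le hT).trans hTP) ((h.invSub_le hT).trans hT.1), h.invSub_elem hT, rfl⟩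

omit h hT hTP hbad in
theorem ne_bot_of_not_cyclic : P ≠ ⊥ := fun e => hnc (by subst e; infer_instance)

omit h hT hTP hbad in
theorem p_ne_two : p ≠ 2 := by
  obtain ⟨z, hz, ho⟩ := exists_orderOf_eq hP.isPGroup (ne_bot_of_not_cyclic hP hnc)
  exact ne_two_of_mem (hP.le hz) ho

include hy hya

/-- `p'`-subgroups of `W` at `y` normalised by `P` lie in `W` if all involutions of `N(P)` centralise `P`. -/
theorem pull_W (hall : ∀ s ∈ normalizer (P : Set G), orderOf s = 2 → ∀ x ∈ P, s * x = x * s)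
    {X : Subgroup G} (hX : X ≤ Wp M y) (hPX : P ≤ normalizer (X : Set G))
    (hcop : (Nat.card X).Coprime p) : X ≤ Wc M := by
  have hF := h.full_of_le hT hP hTP hbad (ne_bot_of_not_cyclic hP hnc)
  obtain ⟨E, hEn, hE, hEc⟩ := Transfer.exists_normal_elementary_card_sq (p_ne_two hP hnc) hP.isPGroup hnc
  obtain ⟨v, hv⟩ : ∃ v : E, v ≠ 1 := by
    by_contra hno
    push Not at hno
    haveI : Subsingleton E := ⟨fun a b => (hno a).trans (hno b).symm⟩
    rw [Nat.card_of_subsingleton (1 : E)] at hEc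
    exact absurd hEc.symm (Nat.one_lt_pow (by norm_num) hp.out.one_lt).ne'
  have hvp : ∀ e : E, ((e : P) : G) ^ p = 1 := fun e => congrArg Subtype.val (hE.2 (e : P) e.2)
  obtain ⟨w, hw⟩ : ∃ w : E, ((w : P) : G) ∉ zpowers ((v : P) : G) := by
    by_contra hno
    push Not at hno
    have hle : E.map P.subtype ≤ zpowers ((v : P) : G) := by
      rintro _ ⟨e, he, rfl⟩
      exact hno ⟨e, he⟩
    have h1 := card_le_of_le hle
    rw [card_map_of_injective (subtype_injective _), hEc, Nat.card_zpowers] at h1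
    have h2 := Nat.le_of_dvd hp.out.pos (orderOf_dvd_of_pow_eq_one (hvp v))
    have h3 : p * 2 ≤ p * p := Nat.mul_le_mul_left p hp.out.two_le
    rw [pow_two] at h1
    have := hp.out.pos
    omega
  refine le_of_pair (p := p) (hvp v) (fun e => hv (Subtype.ext (Subtype.ext e))) (hvp w) hw ?_
    (hPX (v : P).2) (hPX (w : P).2) hcop fun r hr hr1 => ?_
  · haveI := hE.1
    exact congrArg (fun e : E => ((e : P) : G)) (mul_comm' v w)
  · have hrP : r ∈ P := (sup_le (zpowers_le.2 (v : P).2) (zpowers_le.2 (w : P).2)) hr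
    exact le_trans (inf_le_inf_right _ hX)
      (h.cent_le_W_of_inv hT hP hF hy hya hr1 fun s hs h2 => hall s hs h2 r hrP)
where
  mul_comm' {H : Type u} [Group H] [IsMulCommutative H] (a b : H) : a * b = b * a :=
    IsMulCommutative.is_comm.comm a b

/-- `p'`-subgroups of `W` at `y` normalised by `P` lie in `M`. -/
theorem pull {X : Subgroup G} (hX : X ≤ Wp M y) (hPX : P ≤ normalizer (X : Set G))
    (hcop : (Nat.card X).Coprime p) : X ≤ M := by
  classical
  have hF := h.full_of_le hT hP hTP hbad (ne_bot_of_not_cyclic hP hnc)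
  have hp2 := p_ne_two hP hnc
  have hPW := hP.le
  set A := invSub T with hA
  have hAE : Elem A := h.invSub_elem hT
  have hAM : A ≤ M := (h.invSub_le hT).trans hT.1
  have hAL : A ≤ normalizer (P : Set G) := (h.invSub_le hT).trans hTP
  have hPc : ∀ x ∈ P, ∀ g ∈ normalizer (P : Set G), g * x * g⁻¹ ∈ P := fun x hx g hg =>
    (mem_normalizer_iff.1 hg x).1 hx
  -- central elements of exponent `p`
  let V : Subgroup G :=
    { carrier := {x | x ∈ P ∧ x ^ p = 1 ∧ ∀ π ∈ P, π * x = x * π}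
      one_mem' := ⟨P.one_mem, one_pow _, fun π _ => by group⟩
      mul_mem' := fun {a b} ha hb => ⟨P.mul_mem ha.1 hb.1,
        by rw [(show Commute a b from hb.2.2 a ha.1).mul_pow, ha.2.1, hb.2.1, one_mul],
        fun π hπ => by rw [← mul_assoc, ha.2.2 π hπ, mul_assoc, hb.2.2 π hπ, mul_assoc]⟩
      inv_mem' := fun {a} ha => ⟨P.inv_mem ha.1, by rw [inv_pow, ha.2.1, inv_one],
        fun π hπ => ((show Commute π a from ha.2.2 π hπ).inv_right).eq⟩ }
  have hVP : V ≤ P := fun x hx => hx.1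
  have hVn : normalizer (P : Set G) ≤ normalizer (V : Set G) := by
    have key : ∀ g ∈ normalizer (P : Set G), ∀ x ∈ V, g * x * g⁻¹ ∈ V := by
      intro g hg x hx
      refine ⟨hPc x hx.1 g hg, by rw [conj_pow, hx.2.1]; group, fun π hπ => ?_⟩
      have e := hx.2.2 (g⁻¹ * π * g) ((mem_normalizer_iff''.1 hg π).1 hπ)
      calc π * (g * x * g⁻¹) = g * (g⁻¹ * π * g * x) * g⁻¹ := by group
        _ = g * x * g⁻¹ * π := by rw [e]; group
    intro g hg
    refine mem_normalizer_iff.2 fun x => ⟨key g hg x, fun hx => ?_⟩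
    have := key g⁻¹ (inv_mem hg) _ hx
    rwa [show g⁻¹ * (g * x * g⁻¹) * g⁻¹⁻¹ = x by group] at this
  have hVodd : Odd (Nat.card V) := (odd_Wc M).of_dvd_nat (card_dvd_of_le (hVP.trans hPW))
  have hgen := eig_generates hAE hVodd (fun x hx z hz => hz.2.2 x hx.1) (hAL.trans hVn)
  have hV1 : V ≠ ⊥ := by
    haveI : Nontrivial P := (nontrivial_iff_ne_bot P).2 (ne_bot_of_not_cyclic hP hnc)
    haveI := hP.isPGroup.center_nontrivial
    obtain ⟨c, hc, hco⟩ := exists_orderOf_eq (hP.isPGroup.to_subgroup (Subgroup.center P))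
      ((nontrivial_iff_ne_bot _).1 inferInstance)
    intro e
    have : ((c : P) : G) ∈ V := ⟨c.2, congrArg Subtype.val (hco ▸ pow_orderOf_eq_one (c : P) : (c : P) ^ p = 1),
      fun π hπ => congrArg Subtype.val (Subgroup.mem_center_iff.1 hc ⟨π, hπ⟩)⟩
    rw [e, mem_bot] at this
    rw [show c = 1 from Subtype.ext this, orderOf_one] at hco
    exact hp.out.one_lt.ne hco
  obtain ⟨v1, ⟨hv1V, hv1E⟩, hv11⟩ : ∃ v ∈ {v | v ∈ V ∧ Eig A v}, v ≠ 1 := by
    by_contra hno
    push Not at hno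
    exact hV1 (le_bot_iff.1 (hgen.trans ((closure_le _).2 fun v hv => mem_bot.2 (hno v hv))))
  by_cases hbig : ∃ v2 ∈ {v | v ∈ V ∧ Eig A v}, v2 ∉ zpowers v1
  · -- `Z(P)` is not cyclic
    obtain ⟨v2, ⟨hv2V, hv2E⟩, hv2n⟩ := hbig
    obtain ⟨B, hB, hBA, hBs⟩ := exists_same_sign (M := M) (T := T) hAE hAM le_rfl hv1E hv2E
    refine le_of_pair (p := p) hv1V.2.1 hv11 hv2V.2.1 hv2n (hv2V.2.2 v1 hv1V.1)
      (hPX hv1V.1) (hPX hv2V.1) hcop fun r hr hr1 => ?_
    have hrV : r ∈ V := (sup_le (zpowers_le.2 hv1V) (zpowers_le.2 hv2V)) hr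
    have hc12 : Commute v1 v2 := hv2V.2.2 v1 hv1V.1
    refine le_trans (inf_le_inf_right _ hX) (h.cent_le_M hT hP hF hy hya hrV.1 hr1 hrV.2.2 hB fun b hb =>
      mem_normalizer_zpowers ?_)
    let R0 : Subgroup G :=
      { carrier := {r | r ∈ V ∧ ((b * v1 * b⁻¹ = v1 → b * v2 * b⁻¹ = v2 → b * r * b⁻¹ = r) ∧
          (b * v1 * b⁻¹ = v1⁻¹ → b * v2 * b⁻¹ = v2⁻¹ → b * r * b⁻¹ = r⁻¹))}
        one_mem' := ⟨V.one_mem, fun _ _ => by group, fun _ _ => by group⟩
        mul_mem' := fun {r s} hr hs => ⟨V.mul_mem hr.1 hs.1,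
          fun e1 e2 => by
            rw [show b * (r * s) * b⁻¹ = b * r * b⁻¹ * (b * s * b⁻¹) by group, hr.2.1 e1 e2, hs.2.1 e1 e2],
          fun e1 e2 => by
            rw [show b * (r * s) * b⁻¹ = b * r * b⁻¹ * (b * s * b⁻¹) by group, hr.2.2 e1 e2, hs.2.2 e1 e2,
              mul_inv_rev, (show Commute r s from hs.1.2.2 r hr.1.1).inv_inv.eq]⟩
        inv_mem' := fun {r} hr => ⟨V.inv_mem hr.1,
          fun e1 e2 => by rw [← conj_inv, hr.2.1 e1 e2], fun e1 e2 => by rw [← conj_inv, hr.2.2 e1 e2]⟩ }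
    have hr0 : r ∈ R0 := (sup_le (zpowers_le.2 (show v1 ∈ R0 from ⟨hv1V, fun e _ => e, fun e _ => e⟩))
      (zpowers_le.2 (show v2 ∈ R0 from ⟨hv2V, fun _ e => e, fun _ e => e⟩)) :
      zpowers v1 ⊔ zpowers v2 ≤ R0) hr
    rcases hBs b hb with ⟨e1, e2⟩ | ⟨e1, e2⟩
    · rw [hr0.2.1 e1 e2]; exact mem_zpowers r
    · rw [hr0.2.2 e1 e2]; exact inv_mem (mem_zpowers r)
  · -- `Z(P)` is cyclic
    push Not at hbig
    have hVz : V ≤ zpowers v1 := hgen.trans ((closure_le _).2 hbig)
    set z := v1 with hz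
    have hzp : orderOf z = p := orderOf_eq_prime hv1V.2.1 hv11
    have hLz : normalizer (P : Set G) ≤ normalizer (zpowers z : Set G) := fun g hg =>
      mem_normalizer_zpowers (hVz ((mem_normalizer_iff.1 (hVn hg) z).1 hv1V))
    -- the involutions of `N(P)` centralise `z`
    obtain ⟨B0, hB0, hB0A, hB0s⟩ := exists_same_sign (M := M) (T := T) hAE hAM le_rfl hv1E
      (show Eig A 1 from fun a _ => Or.inl (by group))
    have hzc : ∀ s ∈ normalizer (P : Set G), orderOf s = 2 → s * z = z * s := by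
      obtain ⟨b, hb, hb2⟩ : ∃ b ∈ B0, orderOf b = 2 ∧ b * z * b⁻¹ = z := by
        have h4 := hB0.four_le h hT
        -- some involution of a four group centralises `z`
        haveI := Fintype.ofFinite B0
        rw [Nat.card_eq_fintype_card] at h4
        obtain ⟨b1, b2, b3, h12, h13, h23⟩ := Fintype.two_lt_card_iff.1 (show 2 < Fintype.card B0 by omega)
        obtain ⟨c1, hc1, hc11, c2, hc2, hc21, hne⟩ : ∃ c1 ∈ B0, c1 ≠ 1 ∧ ∃ c2 ∈ B0, c2 ≠ 1 ∧ c1 ≠ c2 := by
          by_cases e1 : (b1 : G) = 1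
          · exact ⟨b2, b2.2, fun e => h12 (Subtype.ext (e1.trans e.symm)), b3, b3.2,
              fun e => h13 (Subtype.ext (e1.trans e.symm)), fun e => h23 (Subtype.ext e)⟩
          by_cases e2 : (b2 : G) = 1
          · exact ⟨b1, b1.2, e1, b3, b3.2, fun e => h23 (Subtype.ext (e2.trans e.symm)),
              fun e => h13 (Subtype.ext e)⟩
          · exact ⟨b1, b1.2, e1, b2, b2.2, e2, fun e => h12 (Subtype.ext e)⟩
        rcases hv1E c1 (hB0A hc1) with e | e
        · exact ⟨c1, hc1, hB0.elem.orderOf_eq hc1 hc11, e⟩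
        rcases hv1E c2 (hB0A hc2) with e' | e'
        · exact ⟨c2, hc2, hB0.elem.orderOf_eq hc2 hc21, e'⟩
        refine ⟨c1 * c2, mul_mem hc1 hc2, hB0.elem.orderOf_eq (mul_mem hc1 hc2) (fun e'' => hne ?_), ?_⟩
        · rw [mul_eq_one_iff_eq_inv.1 e'', inv_eq_of_mul_eq_one_right (hB0.elem _ hc2)]
        · rw [show c1 * c2 * z * (c1 * c2)⁻¹ = c1 * (c2 * z * c2⁻¹) * c1⁻¹ by group, e', ← conj_inv, e,
            inv_inv]
      intro s hs hs2
      exact hF.involution_centralizes h hT hLz (hAL (hB0A hb)) hb2.1 (fun x hx => by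
        obtain ⟨i, rfl⟩ := mem_zpowers_iff.1 hx
        exact ((show Commute b z from mul_inv_eq_iff_eq_mul.1 hb2.2).zpow_right i).eq) hs hs2 z (mem_zpowers z)
    have hcentral : ∀ c ∈ P, c ^ p = 1 → (∀ π ∈ P, π * c = c * π) → c ∈ zpowers z := fun c h1 h2 h3 =>
      hVz ⟨h1, h2, h3⟩
    -- elements of exponent `p` central modulo `z`
    let F2 : Subgroup G :=
      { carrier := {x | x ∈ P ∧ x ^ p = 1 ∧ ∀ π ∈ P, π * x * π⁻¹ * x⁻¹ ∈ zpowers z}
        one_mem' := ⟨P.one_mem, one_pow _, fun π _ => by simp⟩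
        mul_mem' := fun {a b} ha hb => by
          have hzC : ∀ c ∈ zpowers z, ∀ π ∈ P, π * c = c * π := fun c hc => by
            obtain ⟨i, rfl⟩ := mem_zpowers_iff.1 hc
            exact fun π hπ => ((show Commute π z from hv1V.2.2 π hπ).zpow_right i).eq
          refine ⟨P.mul_mem ha.1 hb.1, ?_, fun π hπ => ?_⟩
          · set c := b⁻¹ * (a⁻¹ * b * a) with hc
            have hcz : c ∈ zpowers z := by
              have h1 := hb.2.2 a⁻¹ (P.inv_mem ha.1)
              rw [inv_inv] at h1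
              have h2 := hzC _ h1 b⁻¹ (P.inv_mem hb.1)
              have : c = a⁻¹ * b * a * b⁻¹ := by
                calc c = b⁻¹ * (a⁻¹ * b * a * b⁻¹) * b := by rw [hc]; group
                  _ = a⁻¹ * b * a * b⁻¹ := by rw [h2, inv_mul_cancel_right]
              rw [this]; exact h1
            have hcp : c ^ p = 1 := by
              obtain ⟨i, hi⟩ := mem_zpowers_iff.1 hcz
              rw [← hi, ← zpow_natCast (z ^ i), zpow_comm, zpow_natCast, hv1V.2.1, one_zpow]
            have hdvd : p ∣ p.choose 2 := hp.out.dvd_choose_self two_ne_zero (lt_of_le_of_ne hp.out.two_le (Ne.symm hp2))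
            obtain ⟨k, hk⟩ := hdvd
            rw [mul_pow_central (c := c) (by rw [hc]; group) (hzC c hcz a ha.1).symm (hzC c hcz b hb.1).symm,
              ha.2.1, hb.2.1, hk, pow_mul, hcp, one_pow, one_mul, one_mul]
          · have h1 := hb.2.2 π hπ
            have h2 := hzC _ h1 a ha.1
            rw [show π * (a * b) * π⁻¹ * (a * b)⁻¹ = π * a * π⁻¹ * (π * b * π⁻¹ * b⁻¹) * a⁻¹ by group,
              show π * a * π⁻¹ * (π * b * π⁻¹ * b⁻¹) * a⁻¹ =
                π * a * π⁻¹ * a⁻¹ * (a * (π * b * π⁻¹ * b⁻¹) * a⁻¹) by group, h2, mul_inv_cancel_right]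
            exact mul_mem (ha.2.2 π hπ) h1
        inv_mem' := fun {a} ha => by
          refine ⟨P.inv_mem ha.1, by rw [inv_pow, ha.2.1, inv_one], fun π hπ => ?_⟩
          have h1 := ha.2.2 π hπ
          obtain ⟨i, hi⟩ := mem_zpowers_iff.1 h1
          have h2 : Commute a (π * a * π⁻¹ * a⁻¹) :=
            hi ▸ (show Commute a z from hv1V.2.2 a ha.1).zpow_right i
          have e : π * a⁻¹ * π⁻¹ * a⁻¹⁻¹ = (π * a * π⁻¹ * a⁻¹)⁻¹ := by
            calc π * a⁻¹ * π⁻¹ * a⁻¹⁻¹ = a⁻¹ * (π * a * π⁻¹ * a⁻¹)⁻¹ * a := by group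
              _ = _ := by rw [h2.inv_left.inv_right.eq, inv_mul_cancel_right]
          rw [e]; exact inv_mem h1 }
    obtain ⟨E, hEn, hE, hEc⟩ := Transfer.exists_normal_elementary_card_sq hp2 hP.isPGroup hnc
    haveI := hEn
    have hEF : ∀ e : P, e ∈ E → (e : G) ∈ F2 := by
      intro e he
      have hep : (e : G) ^ p = 1 := congrArg Subtype.val (hE.2 e he)
      refine ⟨e.2, hep, fun π hπ => ?_⟩
      have hc := CfsgLib.PGroups.Huppert.comm_normal_sq hP.isPGroup hEc (g := ⟨π, hπ⟩) he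
      have hc' : ⁅e, (⟨π, hπ⟩ : P)⁆ ∈ E :=
        (commutator_le_left E ⊤) (commutator_mem_commutator he (mem_top _))
      have h1 : ((⁅e, (⟨π, hπ⟩ : P)⁆ : P) : G) ∈ zpowers z :=
        hcentral _ (SetLike.coe_mem _) (congrArg Subtype.val (hE.2 _ hc')) fun q hq =>
          congrArg Subtype.val (Subgroup.mem_center_iff.1 hc ⟨q, hq⟩)
      have h2 := inv_mem h1
      convert h2 using 1
      simp [commutatorElement_def, mul_assoc]
    obtain ⟨e0, he0E, he0z⟩ : ∃ e : P, e ∈ E ∧ (e : G) ∉ zpowers z := by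
      by_contra hno
      push Not at hno
      have hle : E.map P.subtype ≤ zpowers z := by rintro _ ⟨e, he, rfl⟩; exact hno e he
      have h1 := card_le_of_le hle
      rw [card_map_of_injective (subtype_injective _), hEc, Nat.card_zpowers, hzp, pow_two] at h1
      have h3 : p * 2 ≤ p * p := Nat.mul_le_mul_left p hp.out.two_le
      have := hp.out.pos
      omega
    have hLF : normalizer (P : Set G) ≤ normalizer (F2 : Set G) := by
      have key : ∀ g ∈ normalizer (P : Set G), ∀ x ∈ F2, g * x * g⁻¹ ∈ F2 := by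
        intro g hg x hx
        refine ⟨hPc x hx.1 g hg, by rw [conj_pow, hx.2.1]; group, fun π hπ => ?_⟩
        have h1 := hx.2.2 (g⁻¹ * π * g) ((mem_normalizer_iff''.1 hg π).1 hπ)
        rw [show π * (g * x * g⁻¹) * π⁻¹ * (g * x * g⁻¹)⁻¹ =
          g * (g⁻¹ * π * g * x * (g⁻¹ * π * g)⁻¹ * x⁻¹) * g⁻¹ by group]
        exact (mem_normalizer_iff.1 (hLz hg) _).1 h1
      intro g hg
      refine mem_normalizer_iff.2 fun x => ⟨key g hg x, fun hx => ?_⟩
      have := key g⁻¹ (inv_mem hg) _ hx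
      rwa [show g⁻¹ * (g * x * g⁻¹) * g⁻¹⁻¹ = x by group] at this
    by_cases hall : ∀ a ∈ A, ∀ x ∈ F2, a * x = x * a
    · -- the involutions centralise `F2`
      obtain ⟨t, ht, ht2⟩ := exists_involution_of_elem hAE (by have := h.eight_le_invSub hT; rw [hA]; omega)
      have hinv : ∀ s ∈ normalizer (P : Set G), orderOf s = 2 → ∀ x ∈ F2, s * x = x * s := fun s hs hs2 =>
        hF.involution_centralizes h hT hLF (hAL ht) ht2 (hall t ht) hs hs2
      refine le_of_pair (p := p) hv1V.2.1 hv11 (hEF e0 he0E).2.1 he0z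
        ((hv1V.2.2 e0 e0.2).symm) (hPX hv1V.1) (hPX e0.2) hcop fun r hr hr1 => ?_
      have hrF : r ∈ F2 := (sup_le (zpowers_le.2 (show z ∈ F2 from ⟨hv1V.1, hv1V.2.1, fun π hπ => by
        rw [hv1V.2.2 π hπ, mul_inv_cancel_right, mul_inv_cancel]; exact one_mem _⟩))
        (zpowers_le.2 (hEF e0 he0E)) : zpowers z ⊔ zpowers (e0 : G) ≤ F2) hr
      exact (le_trans (inf_le_inf_right _ hX) (h.cent_le_W_of_inv hT hP hF hy hya hr1
        fun s hs h2 => hinv s hs h2 r hrF)).trans (Wc_le M)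
    · push Not at hall
      obtain ⟨a, haA, x, hx, hax⟩ := hall
      have hF2odd : Odd (Nat.card F2) := (odd_Wc M).of_dvd_nat
        (card_dvd_of_le (fun q hq => hPW hq.1))
      obtain ⟨B, hBA, hBq, x0, ⟨hx0, hx0B⟩, hx0a⟩ : ∃ B ≤ A, Nat.card A ≤ 2 * Nat.card B ∧
          ∃ x0 ∈ F2 ⊓ centralizer (B : Set G), ¬ a * x0 = x0 * a := by
        by_contra hno
        push Not at hno
        exact hax (mem_cent.1 (le_of_hyperplanes hAE (hAL.trans hLF) hF2odd (Y := centralizer ({a} : Set G))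
          (fun B hB hc q hq => mem_cent.2 (hno B hB hc q hq).symm) hx)).symm
      have hB : Hyp M T B := ⟨hBA.trans hAM, hAE.of_le hBA, hBq⟩
      set e := x0⁻¹ * (a * x0 * a⁻¹) with he
      have hao := hAE.orderOf_eq haA (fun e' => hax (by rw [e', one_mul, mul_one]))
      have heF : e ∈ F2 := F2.mul_mem (F2.inv_mem hx0) ((mem_normalizer_iff.1 (hLF (hAL haA)) x0).1 hx0)
      have he1 : e ≠ 1 := fun e' => hx0a (by
        rw [he, inv_mul_eq_one] at e'
        calc a * x0 = a * x0 * a⁻¹ * a := by group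
          _ = x0 * a := by rw [← e'])
      have heinv : a * e * a⁻¹ = e⁻¹ := by
        calc a * e * a⁻¹ = a * x0⁻¹ * a⁻¹ * (a * a * x0 * (a * a)⁻¹) := by rw [he]; group
          _ = e⁻¹ := by rw [hAE a haA, he]; group
      have heB : ∀ b ∈ B, b * e = e * b := by
        intro b hb
        have hc1 : Commute b x0 := (mem_centralizer_iff.1 hx0B b hb)
        have hc2 : Commute b a := hAE.comm (hBA hb) haA
        exact (hc1.inv_right.mul_right ((hc2.mul_right hc1).mul_right hc2.inv_right)).eq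
      have heW : e ∈ Wc M := hPW heF.1
      have hCe := h.centralizer_le_of_inverted hT heW he1 (hAM haA) hao heinv hB heB
      have hez : e ∉ zpowers z := fun hm => he1 (by
        obtain ⟨i, hi⟩ := mem_zpowers_iff.1 hm
        have haz : Commute a z := hzc a (hAL haA) hao
        have h1 : a * e * a⁻¹ = e := by rw [← hi, (haz.zpow_right i).eq, mul_inv_cancel_right]
        rw [heinv] at h1
        exact ZStar.eq_one_of_odd_of_sq (odd_orderOf_of_mem (odd_Wc M) heW)
          (by rw [pow_two]; nth_rw 2 [← h1]; exact mul_inv_cancel e))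
      refine le_of_pair (p := p) hv1V.2.1 hv11 heF.2.1 hez ((hv1V.2.2 e heF.1).symm) (hPX hv1V.1)
        (hPX heF.1) hcop fun r hr hr1 => ?_
      obtain ⟨c1, hc1, c2, hc2, rfl⟩ : ∃ c1 ∈ zpowers z, ∃ c2 ∈ zpowers e, r = c1 * c2 := by
        have hn : zpowers z ≤ normalizer (zpowers e : Set G) := zpowers_le.2 (mem_normalizer_zpowers (by
          rw [← hv1V.2.2 e heF.1, mul_inv_cancel_right]; exact mem_zpowers e))
        exact (Core.mem_sup_iff_mul hn).1 hr
      obtain ⟨i, rfl⟩ := mem_zpowers_iff.1 hc2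
      by_cases hei : e ^ i = 1
      · -- inside `⟨z⟩`
        rw [hei, mul_one] at hr1 ⊢
        refine (le_trans (inf_le_inf_right _ hX) (h.cent_le_W_of_inv hT hP hF hy hya hr1
          fun s hs h2 => ?_)).trans (Wc_le M)
        obtain ⟨j, rfl⟩ := mem_zpowers_iff.1 hc1
        exact ((show Commute s z from hzc s hs h2).zpow_right j).eq
      refine inf_le_right.trans ?_
      -- `r` is conjugate to `e ^ i` in `P`
      set f := e ^ i with hf
      have hfF : f ∈ F2 := zpow_mem heF i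
      have hfe : zpowers f = zpowers e := eq_of_le_of_card_ge (zpowers_le.2 (zpow_mem (mem_zpowers e) i)) (by
        rw [Nat.card_zpowers, Nat.card_zpowers, orderOf_eq_prime hfF.2.1 hei, orderOf_eq_prime heF.2.1 he1])
      have hfz : f ∉ zpowers z := fun hm => hez (zpowers_le.2 hm (hfe ▸ mem_zpowers e))
      obtain ⟨π, hπ, hπc⟩ : ∃ π ∈ P, π * f * π⁻¹ * f⁻¹ ≠ 1 := by
        by_contra hno
        push Not at hno
        exact hfz (hcentral f hfF.1 hfF.2.1 fun π hπ => mul_inv_eq_iff_eq_mul.1 (mul_inv_eq_one.1 (hno π hπ)))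
      have hcz := hfF.2.2 π hπ
      set c := π * f * π⁻¹ * f⁻¹ with hcdef
      have hcgen : zpowers c = zpowers z := eq_of_le_of_card_ge (zpowers_le.2 hcz) (by
        rw [Nat.card_zpowers, Nat.card_zpowers, hzp, orderOf_eq_prime (by
          obtain ⟨j, hj⟩ := mem_zpowers_iff.1 hcz
          rw [← hj, ← zpow_natCast (z ^ j), zpow_comm, zpow_natCast, hv1V.2.1, one_zpow]) hπc])
      obtain ⟨n, hn⟩ : ∃ n : ℕ, c ^ n = c1 :=
        Submonoid.mem_powers_iff _ _ |>.1 (mem_powers_iff_mem_zpowers.2 (hcgen ▸ hc1))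
      have hcπ : Commute π c := by
        obtain ⟨j, hj⟩ := mem_zpowers_iff.1 hcz
        rw [← hj]
        exact (show Commute π z from hv1V.2.2 π hπ).zpow_right j
      have hconj : ∀ n : ℕ, π ^ n * f * (π ^ n)⁻¹ = c ^ n * f := by
        intro n
        induction n with
        | zero => simp
        | succ n ih =>
          calc π ^ (n + 1) * f * (π ^ (n + 1))⁻¹ = π * (π ^ n * f * (π ^ n)⁻¹) * π⁻¹ := by
                rw [pow_succ']; group
            _ = π * c ^ n * π⁻¹ * (π * f * π⁻¹) := by rw [ih]; group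
            _ = c ^ n * c * f := by rw [(hcπ.pow_right n).eq, mul_inv_cancel_right, hcdef]; group
            _ = c ^ (n + 1) * f := by rw [pow_succ]
      intro g hg
      have hπn : π ^ n ∈ M := pow_mem (Wc_le M (hPW hπ)) n
      have hg' : g * (π ^ n * f * (π ^ n)⁻¹) = π ^ n * f * (π ^ n)⁻¹ * g := by
        rw [hconj, hn]; exact mem_cent.1 hg
      have hgf : Commute ((π ^ n)⁻¹ * g * π ^ n) f := by
        show _ = _
        calc (π ^ n)⁻¹ * g * π ^ n * f = (π ^ n)⁻¹ * (g * (π ^ n * f * (π ^ n)⁻¹)) * π ^ n := by group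
          _ = f * ((π ^ n)⁻¹ * g * π ^ n) := by rw [hg']; group
      obtain ⟨k, hk⟩ := mem_zpowers_iff.1 (hfe ▸ mem_zpowers e : e ∈ zpowers f)
      have hgM := hCe (mem_cent.2 (hk ▸ (hgf.zpow_right k).eq))
      have := M.mul_mem (M.mul_mem hπn hgM) (M.inv_mem hπn)
      rwa [show π ^ n * ((π ^ n)⁻¹ * g * π ^ n) * (π ^ n)⁻¹ = g by group] at this

end Ctx

end CfsgLib.InvCent
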