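import Cfsg.Agent.Lib.InvCentTwoNilp.Facts

/-!
# The induction: `PStmt` from the nonexistence of a minimal configuration (S3214)

In a group that is not simple a proper normal subgroup `N` contains all involutions and, by induction, is a CIT group
with an embedded pair; `W` centralises `M ∩ N`, so fixes every point and is trivial.  In a simple group the subgroup
`M` is taken maximal, so it is the normaliser of its odd core.
-/

set_option autoImplicit false
set_option linter.unusedSectionVars false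
set_option linter.style.haveILetI false

namespace CfsgLib.InvCent

open Subgroup CfsgLib.CIT
open CfsgLib.Signalizer (involution_sq involution_inv involution_ne_one orderOf_eq_two_of orderOf_conj)
open CfsgLib.TwoGroups.SE (smul_mk_eq_iff)

universe u

variable {G : Type u} [Group G] [Finite G]

/-- A normal subgroup with an involution does not lie in a strongly embedded subgroup. -/
theorem normal_not_le {M K : Subgroup G} [K.Normal] (hse : Cfsg.IsStronglyEmbedded M) {t : G}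
    (htK : t ∈ K) (ht : orderOf t = 2) : ¬ K ≤ M := fun hle => hse.1 (eq_top_iff.2 fun g _ =>
  se_conj_mem hse (hle htK) ht (hle (Subgroup.Normal.conj_mem inferInstance t htK g)))

/-- The odd core of a strongly embedded subgroup contains `θ` of each of its involutions. -/
theorem theta_le_of_norm {M L : Subgroup G} (hse : Cfsg.IsStronglyEmbedded M)
    (hθ : ∀ t ∈ M, orderOf t = 2 → theta t ≤ Wc M) (hML : M ≤ L) (hL : L ≤ normalizer (Wc M : Set G))
    {t : G} (ht : t ∈ L) (ht2 : orderOf t = 2) : theta t ≤ Wc M := by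
  haveI : Fact (Nat.Prime 2) := ⟨Nat.prime_two⟩
  obtain ⟨T, hT, -⟩ := exists_isSyl (bot_le : (⊥ : Subgroup G) ≤ M) IsPGroup.of_bot
  have hTL : IsSyl T L :=
    ⟨hT.1.trans hML, hT.2.1, fun Q h1 _ h2 => (se_sylow hse hT).2.2 Q h1 le_top h2⟩
  obtain ⟨T', hT', htT'⟩ := exists_isSyl (zpowers_le.2 ht)
    (IsPGroup.of_card (p := 2) (n := 1) (by rw [Nat.card_zpowers, ht2, pow_one]))
  obtain ⟨l, hl, hle⟩ := hT'.exists_conj hTL
  have h1 : l * t * l⁻¹ ∈ M := hT.1 (hle ▸ conj_mem_cj.2 (htT' (mem_zpowers t)))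
  intro x hx
  exact (mem_normalizer_iff.1 (hL hl) x).2
    (hθ _ h1 ((orderOf_conj l t).trans ht2) (mem_theta_conj hx))

/-- The inductive step for a group that is not simple. -/
theorem oddCore_eq_bot_of_normal (ih : ∀ (H : Type u) [Group H] [Finite H], Nat.card H < Nat.card G → PStmt H)
    (hO : Cfsg.oddCore G = ⊥) (hI : TwoNilpCent G) {M : Subgroup G} (hse : Cfsg.IsStronglyEmbedded M)
    {A : Subgroup G} (hAM : A ≤ M) (hA : Elem A) (h8 : 8 ≤ Nat.card A)
    (hθ : ∀ t ∈ M, orderOf t = 2 → theta t ≤ Wc M)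
    {N : Subgroup G} [N.Normal] (hN1 : N ≠ ⊥) (hN2 : N ≠ ⊤) : Wc M = ⊥ := by
  classical
  obtain ⟨t0, ht0N, ht0⟩ : ∃ t ∈ N, orderOf t = 2 := Signalizer.exists_involution_of_even
    (Nat.not_odd_iff_even.1 fun ho => hN1 (le_bot_iff.1 ((ZStar.le_oddCore inferInstance ho).trans_eq hO)))
  have hall : ∀ a : G, orderOf a = 2 → a ∈ N := fun a ha => by
    obtain ⟨c, hc⟩ := isConj_iff.1 (TwoGroups.SE.isConj_involutions hse ht0 ha)
    exact hc ▸ Subgroup.Normal.conj_mem inferInstance t0 ht0N c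
  have hAN : A ≤ N := fun a ha => by
    by_cases h1 : a = 1
    · exact h1 ▸ one_mem N
    · exact hall a (hA.orderOf_eq ha h1)
  obtain ⟨a0, ha0, ha0o⟩ := exists_involution_of_elem hA (by omega)
  set MN := M.subgroupOf N with hMN
  have hseN : Cfsg.IsStronglyEmbedded MN :=
    se_inf hse (normal_not_le hse ht0N ht0) (hAN ha0) (hAM ha0) ha0o
  have hON : Cfsg.oddCore ↥N = ⊥ := by
    refine (map_eq_bot_iff_of_injective _ (subtype_injective N)).1 (le_bot_iff.1 ?_)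
    exact (Core.map_subtype_pPrimeCore_le (p := 2) N).trans_eq hO
  have hIN := hI.subgroup N
  set A' := A.subgroupOf N with hA'
  have hA'E : Elem A' := fun x hx => Subtype.ext (hA _ hx)
  have hA'c : 8 ≤ Nat.card A' := by rwa [hA', Nat.card_congr (subgroupOfEquivOfLe hAN).toEquiv]
  have hA'M : A' ≤ MN := fun x hx => mem_subgroupOf.2 (hAM hx)
  -- the part of `W` inside `N`
  set V := (Wc M ⊓ N).subgroupOf N with hV
  have hVle : V ≤ MN := fun x hx => mem_subgroupOf.2 (Wc_le M hx.1)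
  have hVodd : Odd (Nat.card V) := by
    rw [hV, Nat.card_congr (subgroupOfEquivOfLe inf_le_right).toEquiv]
    exact (odd_Wc M).of_dvd_nat (card_dvd_of_le inf_le_left)
  have hVn : MN ≤ normalizer (V : Set ↥N) := fun x hx => by
    refine mem_normalizer_iff.2 fun y => ?_
    have hxn := mem_normalizer_iff.1 (Wc_normalized M (mem_subgroupOf.1 hx)) (y : G)
    simp only [hV, mem_subgroupOf, mem_inf, Subgroup.coe_mul, Subgroup.coe_inv]
    exact ⟨fun hy => ⟨hxn.1 hy.1, mul_mem (mul_mem x.2 y.2) (inv_mem x.2)⟩,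
      fun hy => ⟨hxn.2 hy.1, y.2⟩⟩
  have hθN : ∀ t ∈ MN, orderOf t = 2 → theta t ≤ Wc MN := by
    intro t ht ht2
    refine le_trans (fun x hx => ?_) (le_Wc hVle hVn hVodd)
    exact mem_subgroupOf.2 ⟨hθ _ (mem_subgroupOf.1 ht) (by rw [orderOf_coe, ht2]) (hI.mem_theta
      (by rw [orderOf_coe, ht2]) (congrArg Subtype.val (mem_cent.1 (theta_le t hx)))
      (by rw [orderOf_coe]; exact odd_orderOf_of_mem (odd_card_theta t) hx)), x.2⟩
  have hlt : Nat.card ↥N < Nat.card G :=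
    lt_of_le_of_ne (card_le_card_group N) fun e => hN2 (eq_top_of_card_eq N e)
  have hMO : Cfsg.oddCore ↥MN = ⊥ := ih ↥N hlt hON hIN MN hseN ⟨A', hA'M, hA'E, hA'c⟩ hθN
  have hWMN : Wc MN = ⊥ := by rw [Wc, hMO, Subgroup.map_bot]
  have hC : CIT ↥N := hIN.cit fun t ht => by
    obtain ⟨a, ha, ha2⟩ := exists_involution_of_elem hA'E (by omega)
    obtain ⟨c, hc⟩ := isConj_iff.1 (TwoGroups.SE.isConj_involutions hseN ha2 ht)
    have h1 := hθN a (hA'M ha) ha2
    rw [hWMN, le_bot_iff] at h1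
    rw [← hc, theta_map_conj, h1, Subgroup.map_bot]
  obtain ⟨H, -, e, hi, -, -⟩ := exists_embedded hC hseN hMO hA'M hA'E hA'c
  -- `W` centralises `M ∩ N`
  have hWN : ∀ x ∈ Wc M, x ∈ N → x = 1 := fun x hxW hxN => by
    have h1 : (⟨x, hxN⟩ : ↥N) ∈ Wc MN := le_Wc hVle hVn hVodd (mem_subgroupOf.2 ⟨hxW, hxN⟩)
    rw [hWMN, mem_bot] at h1
    exact congrArg Subtype.val h1
  have hcomm : ∀ w ∈ Wc M, ∀ n ∈ N, n ∈ M → w * n = n * w := fun w hw n hnN hnM => by
    have h1 : w * n * w⁻¹ * n⁻¹ = 1 := by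
      refine hWN _ ?_ (mul_mem (Subgroup.Normal.conj_mem inferInstance n hnN w) (inv_mem hnN))
      rw [show w * n * w⁻¹ * n⁻¹ = w * (n * w⁻¹ * n⁻¹) by group]
      exact mul_mem hw (conj_mem_Wc hnM (inv_mem hw))
    exact mul_inv_eq_iff_eq_mul.1 (mul_inv_eq_one.1 h1)
  -- hence fixes every point of the orbit of `N`
  have hkey : ∀ w ∈ Wc M, ∀ n ∈ N, n⁻¹ * w * n ∈ M := by
    intro w hw n hn
    have hwM := Wc_le M hw
    by_cases hnM : n ∈ M
    · exact mul_mem (mul_mem (inv_mem hnM) hwM) hnM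
    have hxy : ((1 : ↥N) : ↥N ⧸ MN) ≠ ((⟨n, hn⟩ : ↥N) : ↥N ⧸ MN) := fun h' =>
      hnM (by simpa [hMN, mem_subgroupOf] using QuotientGroup.eq.1 h')
    haveI : Nontrivial (e.two ((1 : ↥N) : ↥N ⧸ MN) ((⟨n, hn⟩ : ↥N) : ↥N ⧸ MN)) :=
      Finite.one_lt_card_iff_nontrivial.1 (by rw [e.card_two hxy]; omega)
    obtain ⟨⟨d, hd⟩, hd1⟩ := exists_ne (1 : e.two ((1 : ↥N) : ↥N ⧸ MN) ((⟨n, hn⟩ : ↥N) : ↥N ⧸ MN))
    obtain ⟨hdx, hdy⟩ := e.mem_two.1 hd
    have hdM : (d : G) ∈ M := by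
      simpa [hMN, mem_subgroupOf] using (smul_mk_eq_iff d 1).1 hdx
    have hdn : n⁻¹ * (d : G) * n ∈ M := by
      simpa [hMN, mem_subgroupOf] using (smul_mk_eq_iff d (⟨n, hn⟩ : ↥N)).1 hdy
    have hn' : w * n * w⁻¹ ∈ N := Subgroup.Normal.conj_mem inferInstance n hn w
    have hdz : d • ((⟨_, hn'⟩ : ↥N) : ↥N ⧸ MN) = ((⟨_, hn'⟩ : ↥N) : ↥N ⧸ MN) := by
      rw [smul_mk_eq_iff, hMN, mem_subgroupOf]
      show (w * n * w⁻¹)⁻¹ * (d : G) * (w * n * w⁻¹) ∈ M
      rw [show (w * n * w⁻¹)⁻¹ * (d : G) * (w * n * w⁻¹) =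
        w * (n⁻¹ * (w⁻¹ * ((d : G) * w)) * n) * w⁻¹ by group,
        ← hcomm w hw _ d.2 hdM, inv_mul_cancel_left]
      exact mul_mem (mul_mem hwM hdn) (inv_mem hwM)
    rcases e.fix_two hi (fun h0 => hd1 (Subtype.ext h0)) hxy hdx hdy hdz with h' | h'
    · exfalso
      have h2 : w * n * w⁻¹ ∈ M := by
        simpa [hMN, mem_subgroupOf] using inv_mem (QuotientGroup.eq.1 h')
      apply hnM
      rw [show n = w⁻¹ * (w * n * w⁻¹) * w by group]
      exact mul_mem (mul_mem (inv_mem hwM) h2) hwM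
    · have h2 : (w * n * w⁻¹)⁻¹ * n ∈ M := mem_subgroupOf.1 (QuotientGroup.eq.1 h')
      have h3 : n⁻¹ * w * n * w⁻¹ ∈ M := by
        convert inv_mem h2 using 1
        group
      rw [show n⁻¹ * w * n = n⁻¹ * w * n * w⁻¹ * w by group]
      exact mul_mem h3 hwM
  -- `G = N M`
  have hNM : ∀ g : G, ∃ n ∈ N, n⁻¹ * g ∈ M := fun g => by
    obtain ⟨c, hc⟩ := isConj_iff.1 (TwoGroups.SE.isConj_involutions hseN
      (a := (⟨a0, hAN ha0⟩ : ↥N)) (b := (⟨g * a0 * g⁻¹, hall _ ((orderOf_conj g a0).trans ha0o)⟩ : ↥N))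
      (by rw [Subgroup.orderOf_mk, ha0o]) (by rw [Subgroup.orderOf_mk, orderOf_conj, ha0o]))
    have hc' : (c : G) * a0 * (c : G)⁻¹ = g * a0 * g⁻¹ := congrArg Subtype.val hc
    refine ⟨c, c.2, Signalizer.stronglyEmbedded_centralizer hse (hAM ha0) ha0o (mem_cent.2 ?_)⟩
    calc (c : G)⁻¹ * g * a0 = (c : G)⁻¹ * (g * a0 * g⁻¹) * g := by group
      _ = a0 * ((c : G)⁻¹ * g) := by rw [← hc']; group
  refine eq_bot_iff.2 fun w hw => ?_
  have hw' : w ∈ M.normalCore := fun g => by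
    obtain ⟨n, hn, hm⟩ := hNM g⁻¹
    have h2 := mul_mem (mul_mem (inv_mem hm) (hkey w hw n hn)) hm
    rwa [show (n⁻¹ * g⁻¹)⁻¹ * (n⁻¹ * w * n) * (n⁻¹ * g⁻¹) = g * w * g⁻¹ by group] at h2
  have hodd : Odd (Nat.card M.normalCore) := by
    rw [← Nat.not_even_iff_odd]
    intro he
    obtain ⟨t, htc, ht⟩ := Signalizer.exists_involution_of_even he
    exact normal_not_le hse htc ht M.normalCore_le
  exact hO ▸ ZStar.le_oddCore inferInstance hodd hw'

/-- The statement proved by induction, from the nonexistence of a minimal configuration. -/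
theorem pStmt (hno : NoCtx.{u}) : ∀ (G : Type u) [Group G] [Finite G], PStmt G := by
  suffices key : ∀ n : ℕ, ∀ (G : Type u) [Group G] [Finite G], Nat.card G = n → PStmt G from
    fun G _ _ => key _ G rfl
  intro n
  induction n using Nat.strong_induction_on with
  | _ n ih =>
  intro G _ _ hn
  have ih' : ∀ (H : Type u) [Group H] [Finite H], Nat.card H < Nat.card G → PStmt H :=
    fun H _ _ hlt => ih _ (hn ▸ hlt) H rfl
  intro hO hI M hse hE hθ
  obtain ⟨A, hAM, hA, h8⟩ := hE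
  refine (map_eq_bot_iff_of_injective _ (subtype_injective M)).1 (show Wc M = ⊥ from ?_)
  haveI : Nontrivial G := by
    by_contra hn'
    rw [not_nontrivial_iff_subsingleton] at hn'
    exact hse.1 (Subsingleton.elim _ _)
  by_cases hsimple : IsSimpleGroup G
  swap
  · obtain ⟨N, hN, hN1, hN2⟩ : ∃ N : Subgroup G, N.Normal ∧ N ≠ ⊥ ∧ N ≠ ⊤ := by
      by_contra hno'
      push Not at hno'
      exact hsimple ⟨fun N hN => or_iff_not_imp_left.2 fun h1 => hno' N hN h1⟩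
    exact oddCore_eq_bot_of_normal ih' hO hI hse hAM hA h8 hθ hN1 hN2
  by_contra hW
  classical
  have hna : ¬ IsMulCommutative G := fun hc => by
    obtain ⟨a, ha, ha2⟩ := exists_involution_of_elem hA (by omega)
    refine hse.1 (eq_top_iff.2 fun g _ => se_conj_mem hse (hAM ha) ha2 ?_)
    rw [hc.is_comm.comm g a, mul_inv_cancel_right]
    exact hAM ha
  -- a maximal such subgroup
  set S : Set (Subgroup G) := {L | Cfsg.IsStronglyEmbedded L ∧ (∃ A ≤ L, Elem A ∧ 8 ≤ Nat.card A) ∧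
    (∀ t ∈ L, orderOf t = 2 → theta t ≤ Wc L) ∧ Wc L ≠ ⊥} with hS
  obtain ⟨L, ⟨hLse, hLE, hLθ, hLW⟩, hmax⟩ := Set.exists_max_image S (fun L : Subgroup G => Nat.card L)
    (Set.toFinite _) ⟨M, hse, ⟨A, hAM, hA, h8⟩, hθ, hW⟩
  refine hno G L ⟨hI, hna, hLse, hLθ, hLE, hLW, ?_, ih'⟩
  set NL := normalizer (Wc L : Set G) with hNL
  have hle : L ≤ NL := Wc_normalized L
  have hne : NL ≠ ⊤ := fun e => by
    rcases (normalizer_eq_top_iff.1 e).eq_bot_or_eq_top with h | h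
    · exact hLW h
    · exact hLse.1 (top_le_iff.1 (h ▸ Wc_le L))
  have hW' : Wc L ≤ Wc NL := le_Wc ((Wc_le L).trans hle) le_rfl (odd_Wc L)
  obtain ⟨B, hB, hBE, hB8⟩ := hLE
  have h1 : Nat.card NL ≤ Nat.card L := hmax NL ⟨se_overgroup hLse hle hne, ⟨B, hB.trans hle, hBE, hB8⟩,
    fun t ht ht2 => (theta_le_of_norm hLse hLθ hle le_rfl ht ht2).trans hW',
    fun e => hLW (le_bot_iff.1 (hW'.trans_eq e))⟩
  exact (eq_of_le_of_card_ge hle h1).symm

end CfsgLib.InvCent
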