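import Cfsg.Agent.Lib.CIT.Simple
import Cfsg.Agent.Lib.CIT.AlmostSimple
import Cfsg.Agent.Lib.CIT.CoreFree
import Cfsg.Agent.Lib.CIT.Local
import Cfsg.Agent.Lib.Core.MinNormal
import Cfsg.Agent.Lib.Core.Cores
import Cfsg.Agent.Lib.TwoGroups.RankTwoMaxClass

/-!
# CIT groups with an odd subgroup transitive on involutions (S3214)

Owner: helper5.  Without odd normal subgroups and with an elementary subgroup of order eight, such a
group has a normal Sylow 2-subgroup whose involutions commute.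
-/

set_option autoImplicit false

namespace CfsgLib.InvCent.CITOdd

open Subgroup MulAction CfsgLib.CIT
open CfsgLib.Signalizer (involution_sq involution_inv involution_ne_one orderOf_eq_two_of orderOf_conj)

/-- A group with a cyclic subgroup of index two has no elementary abelian subgroup of order eight. -/
theorem card_le_four_of_cyclic_index_two {P : Type*} [Group P] [Finite P] {a : P}
    (ha : 2 * orderOf a = Nat.card P) {E : Subgroup P} (hE : ∀ x ∈ E, x * x = 1) :
    Nat.card E ≤ 4 := by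
  classical
  set A := zpowers a with hA
  have hidx : A.index = 2 := by
    have h := A.card_mul_index
    rw [hA, Nat.card_zpowers, ← ha, mul_comm 2] at h
    exact Nat.eq_of_mul_eq_mul_left (orderOf_pos a) h
  haveI : Fintype A := Fintype.ofFinite _
  have h2 : Nat.card (E ⊓ A : Subgroup P) ≤ 2 := by
    haveI : Fintype ↥(E ⊓ A) := Fintype.ofFinite _
    rw [Nat.card_eq_fintype_card]
    have h1 := IsCyclic.card_pow_eq_one_le (α := A) (n := 2) two_pos
    refine le_trans ?_ h1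
    rw [← Finset.card_univ]
    refine Finset.card_le_card_of_injOn (fun x => (⟨x, x.2.2⟩ : A)) (fun x _ => ?_) ?_
    · simp only [Finset.coe_filter, Finset.mem_univ, true_and, Set.mem_setOf_eq]
      exact Subtype.ext (by rw [pow_two]; exact hE _ x.2.1)
    · intro x _ y _ e
      exact Subtype.ext (congrArg Subtype.val e :)
  have h3 : A.relIndex E ≤ 2 := by
    have h := relIndex_le_of_le_right (H := A) (le_top : E ≤ ⊤)
      (by rw [relIndex_top_right, hidx]; norm_num)
    rwa [relIndex_top_right, hidx] at h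
  have h4 := (A.subgroupOf E).card_mul_index
  rw [← inf_subgroupOf_right, Nat.card_congr (subgroupOfEquivOfLe (inf_le_right : A ⊓ E ≤ E)).toEquiv,
    inf_subgroupOf_right, inf_comm] at h4
  change _ * A.relIndex E = _ at h4
  rw [← h4]
  calc _ ≤ 2 * 2 := Nat.mul_le_mul h2 h3
    _ = 4 := rfl

/-- A self-centralising four-group excludes elementary subgroups of order eight. -/
theorem card_le_four_of_selfcent_four {P : Type*} [Group P] [Finite P] (hP : IsPGroup 2 P)
    {W : Subgroup P} (hW : ∀ x ∈ W, ∀ y ∈ W, x * y = y * x) (hW2 : ∀ x ∈ W, x * x = 1)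
    (hW4 : Nat.card W = 4) (hCW : centralizer (W : Set P) ≤ W)
    {E : Subgroup P} (hE : ∀ x ∈ E, x * x = 1) : Nat.card E ≤ 4 := by
  classical
  haveI : Fact (Nat.Prime 2) := ⟨Nat.prime_two⟩
  haveI : Nontrivial P := by
    obtain ⟨x, y, hxy⟩ : ∃ x y : W, x ≠ y := by
      haveI : Nontrivial W := Finite.one_lt_card_iff_nontrivial.1 (by omega)
      exact exists_pair_ne W
    exact ⟨x, y, fun e => hxy (Subtype.ext e)⟩
  haveI := hP.center_nontrivial
  obtain ⟨n, hn⟩ := (hP.to_subgroup (center P)).exists_card_eq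
  have hc1 : 1 < Nat.card (center P) := Finite.one_lt_card
  obtain ⟨z0, hz0⟩ := exists_prime_orderOf_dvd_card' 2 (show 2 ∣ Nat.card (center P) by
    rw [hn] at hc1 ⊢
    exact dvd_pow_self 2 fun h0 => by rw [h0] at hc1; simp at hc1)
  set z : P := (z0 : P) with hzdef
  have hzo : orderOf z = 2 := by rw [hzdef, orderOf_coe, hz0]
  have hzW : z ∈ W := hCW (mem_centralizer_iff.2 fun w _ => mem_center_iff.1 z0.2 w)
  obtain ⟨v, hvW, hv1, hvz⟩ : ∃ v ∈ W, v ≠ 1 ∧ v ≠ z := by
    by_contra hno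
    push Not at hno
    have hle : (W : Set P).ncard ≤ 2 := by
      refine (Set.ncard_le_ncard (t := {1, z}) (fun w hw => ?_) (Set.toFinite _)).trans
        ((Set.ncard_insert_le _ _).trans (by simp))
      by_cases h1 : w = 1
      · exact Or.inl h1
      · exact Or.inr (hno w hw h1)
    rw [← Nat.card_coe_set_eq] at hle
    change Nat.card W ≤ 2 at hle
    omega
  have hcent : centralizer ({v} : Set P) = W := by
    refine le_antisymm (fun s hs => hCW ?_) fun s hs =>
      mem_centralizer_singleton_iff.2 (hW s hs v hvW)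
    set K := W ⊓ centralizer ({s} : Set P) with hK
    have hsub : ({1, v, z} : Set P) ⊆ K := by
      rintro x (rfl | rfl | rfl)
      · exact one_mem K
      · exact ⟨hvW, mem_centralizer_singleton_iff.2 (mem_centralizer_singleton_iff.1 hs).symm⟩
      · exact ⟨hzW, mem_centralizer_singleton_iff.2 (mem_center_iff.1 z0.2 s).symm⟩
    have h3 : 3 ≤ Nat.card K := by
      have hz1 : z ≠ 1 := involution_ne_one hzo
      have := Set.ncard_le_ncard hsub (Set.toFinite _)
      rw [Set.ncard_eq_three.2 ⟨1, v, z, hv1.symm, hz1.symm, hvz, rfl⟩, ← Nat.card_coe_set_eq] at this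
      exact this
    have hd : Nat.card K ∣ 4 := hW4 ▸ card_dvd_of_le inf_le_left
    have hK4 : Nat.card K = 4 := by
      have := Nat.le_of_dvd (by norm_num) hd
      interval_cases h : Nat.card K <;> omega
    have hKW : K = W := eq_of_le_of_card_ge inf_le_left (by rw [hK4, hW4])
    refine mem_centralizer_iff.2 fun w hw => ?_
    have h1 : w ∈ K := hKW.ge hw
    exact mem_centralizer_singleton_iff.1 h1.2
  rcases CfsgLib.TwoGroups.RankTwoTypes.isDihOrQD_of_centralizer_four hP z0.2 hzo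
    (orderOf_eq_two_of hv1 (hW2 v hvW)) hvz.symm (by rw [hcent, hW4]) with ⟨m, hm, ⟨e⟩⟩ | hQ
  · refine card_le_four_of_cyclic_index_two (a := e.symm (DihedralGroup.r 1)) ?_ hE
    rw [e.symm.orderOf_eq, DihedralGroup.orderOf_r_one, Nat.card_congr e.toEquiv,
      DihedralGroup.nat_card]
  · obtain ⟨m, -, hcard, x, y, hx, -, -⟩ := hQ
    exact card_le_four_of_cyclic_index_two (a := x) (by rw [hx, hcard, pow_succ']) hE

universe u
variable {X : Type u} [Group X] [Finite X]

theorem comm_eq_one (hC : CIT X) {D : Subgroup X} (hD : Odd (Nat.card D)) {d a : X} (hd : d ∈ D)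
    (ha : orderOf a = 2) (h : d * a = a * d) : d = 1 :=
  eq_one_of_odd_of_pGroup (hC a ha) (mem_centralizer_singleton_iff.2 h)
    (hD.of_dvd_nat (D.orderOf_dvd_natCard hd))

/-- The TI case is impossible in a simple group. -/
theorem ti_false [IsSimpleGroup X] (hna : ¬ IsMulCommutative X) (hC : CIT X) (hTI : TISylow X)
    {D : Subgroup X} (hD : Odd (Nat.card D))
    (htr : ∀ a b : X, orderOf a = 2 → orderOf b = 2 → ∃ d ∈ D, d * a * d⁻¹ = b)
    {E : Subgroup X} (hE : ∀ x ∈ E, x * x = 1) (hE8 : 8 ≤ Nat.card E) : False := by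
  classical
  haveI : Fact (Nat.Prime 2) := ⟨Nat.prime_two⟩
  obtain ⟨T, hT, hET⟩ := exists_isSyl (le_top : E ≤ ⊤)
    (fun x => ⟨1, Subtype.ext (by simpa [pow_two] using hE x x.2)⟩)
  have hne : E ≠ ⊥ := fun h => by rw [h, card_bot] at hE8; omega
  obtain ⟨z, hzE, hz1⟩ := E.bot_or_exists_ne_one.resolve_left hne
  have hz : orderOf z = 2 := orderOf_eq_two_of hz1 (hE z hzE)
  have hb : Branching (⊤ : Subgroup X) := by
    intro U hU hn
    have hUn : U.Normal := normalizer_eq_top_iff.1 (top_le_iff.1 hn)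
    obtain ⟨V, hV, hzV⟩ := exists_isSyl (le_top : zpowers z ≤ ⊤)
      (IsPGroup.of_card (n := 1) (by rw [Nat.card_zpowers, hz, pow_one]))
    have h0 := simple_noCore hna U hUn hU.2.1
    rw [hU.unique hn hV, h0] at hzV
    exact involution_ne_one hz (mem_bot.1 (hzV (mem_zpowers z)))
  have hM := hTI.embedded hC hb hT
  set M := normalizer (T : Set X) with hMdef
  set o : X ⧸ M := ((1 : X) : X ⧸ M) with ho
  have hfix : ∀ g : X, g ∈ M ↔ g • o = o := fun g => by
    rw [← mem_stabilizer_iff, ho, stabilizer_quotient]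
  have hzM : z ∈ M := le_normalizer (hET hzE)
  have huniq : ∀ {t : X} {x y : X ⧸ M}, orderOf t = 2 → t • x = x → t • y = y → x = y :=
    fun {t x y} ht hx hy => by_contra fun hne => involution_ne_one ht
      (hM.inH_ti (hM.inH_of_involution ht hx) (hM.inH_of_involution ht hy) hne)
  -- the stabiliser in `D` is regular on the involutions of `M`
  set Da := D ⊓ M with hDa
  have hcard : Nat.card Da = hM.invCount := by
    refine Nat.card_congr (Equiv.ofBijective
      (fun d : Da => (⟨(d : X) * z * (d : X)⁻¹, (orderOf_conj (d : X) z).trans hz,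
        mul_mem (mul_mem d.2.2 hzM) (inv_mem d.2.2)⟩ : {t : X // orderOf t = 2 ∧ t ∈ M})) ⟨?_, ?_⟩)
    · intro d e he
      have h : (d : X) * z * (d : X)⁻¹ = e * z * (e : X)⁻¹ := congrArg Subtype.val he
      have hc : ((e : X)⁻¹ * d) * z = z * ((e : X)⁻¹ * d) := by
        calc ((e : X)⁻¹ * d) * z = (e : X)⁻¹ * ((d : X) * z * (d : X)⁻¹) * d := by group
          _ = z * ((e : X)⁻¹ * d) := by rw [h]; group
      exact Subtype.ext (inv_mul_eq_one.1 (comm_eq_one hC hD (mul_mem (inv_mem e.2.1) d.2.1) hz hc)).symm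
    · rintro ⟨t, ht, htM⟩
      obtain ⟨d, hd, hdt⟩ := htr z t hz ht
      refine ⟨⟨d, hd, (hfix d).2 ?_⟩, Subtype.ext hdt⟩
      have h1 : t • (d • o) = d • o := by
        rw [← hdt, mul_smul, mul_smul, inv_smul_smul, (hfix z).1 hzM]
      exact huniq ht h1 ((hfix t).1 htM)
  have hi : 7 ≤ hM.invCount := by
    have hle : Nat.card {x : E // x ≠ 1} ≤ hM.invCount :=
      Nat.card_le_card_of_injective (fun x => (⟨(x.1 : X), orderOf_eq_two_of
        (fun e => x.2 (Subtype.ext e)) (hE _ x.1.2), le_normalizer (hET x.1.2)⟩ :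
        {t : X // orderOf t = 2 ∧ t ∈ M})) fun x y e => Subtype.ext (Subtype.ext (congrArg Subtype.val e :))
    haveI : Fintype E := Fintype.ofFinite _
    rw [Nat.card_eq_fintype_card (α := {x : E // x ≠ 1}), Fintype.card_subtype_compl,
      Fintype.card_subtype_eq, ← Nat.card_eq_fintype_card] at hle
    omega
  have hMne : M ≠ ⊤ := hM.se.1
  obtain ⟨g, hg⟩ := SetLike.exists_of_lt (lt_top_iff_ne_top.2 hMne)
  have hgo : g • o ≠ o := fun e => hg.2 ((hfix g).2 e)
  -- the stabiliser fixes a second point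
  obtain ⟨k, hk, hky⟩ := Core.exists_fixed_point (A := Da) (K := T) (x := g • o)
    (inf_le_right.trans le_rfl) (by
      obtain ⟨n, hn⟩ := IsPGroup.iff_card.1 hT.2.1
      rw [hn]
      exact Nat.Coprime.pow_right n (Nat.coprime_two_right.2
        (hD.of_dvd_nat (card_dvd_of_le inf_le_left))))
    (Or.inr (by haveI := hT.2.1.isNilpotent; infer_instance))
    (fun d hd => by
      obtain ⟨c, hc, hce⟩ := hM.exists_ker (by omega) (x := o) hgo
        (fun e => hgo (smul_left_cancel d (e.trans ((hfix d).1 hd.2).symm)))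
      exact ⟨c, hM.inH_one.1 hc, hce.symm⟩)
  set y := k • (g • o) with hy
  have hyo : o ≠ y := fun e => hgo (smul_left_cancel k (e.symm.trans
    ((hfix k).1 (le_normalizer hk)).symm))
  have hDy : Da = hM.two o y := by
    refine eq_of_le_of_card_ge (fun d hd => hM.mem_two.2 ⟨(hfix d).1 hd.2, hky d hd⟩) ?_
    rw [hcard, hM.card_two hyo]
  -- an element of `D` moving `o` to `y` interchanges them
  obtain ⟨t, ht, hty⟩ : ∃ t : X, orderOf t = 2 ∧ t • y = y := by
    obtain ⟨g', hg'⟩ := exists_smul_eq X o y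
    exact ⟨g' * z * g'⁻¹, (orderOf_conj g' z).trans hz, by
      rw [← hg', mul_smul, mul_smul, inv_smul_smul, (hfix z).1 hzM]⟩
  obtain ⟨d, hd, hdt⟩ := htr z t hz ht
  have hdo : d • o = y := by
    refine huniq ht ?_ hty
    rw [← hdt, mul_smul, mul_smul, inv_smul_smul, (hfix z).1 hzM]
  obtain ⟨e, he, he1⟩ : ∃ e ∈ Da, e ≠ 1 := by
    refine Da.bot_or_exists_ne_one.resolve_left fun h => ?_
    rw [h, card_bot] at hcard
    omega
  have hey : e • y = y := hky e he
  have hconj : d⁻¹ * e * d ∈ Da := by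
    refine mem_inf.2 ⟨D.mul_mem (D.mul_mem (D.inv_mem hd) (mem_inf.1 he).1) hd, (hfix _).2 ?_⟩
    rw [mul_smul, mul_smul, hdo, hey, ← hdo, inv_smul_smul]
  have hedy : e • (d • y) = d • y := by
    have h := hky _ hconj
    rw [mul_smul, mul_smul, inv_smul_eq_iff] at h
    exact h
  rcases hM.fix_two (by omega) he1 hyo ((hfix e).1 he.2) hey hedy with h | h
  · have hd2 : d * d ∈ M := (hfix _).2 (by rw [mul_smul, hdo, h])
    have hdM : d ∈ M := by
      obtain ⟨j, hj⟩ := hD.of_dvd_nat (D.orderOf_dvd_natCard hd)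
      have : d = (d * d) ^ (j + 1) := by
        rw [← pow_two, ← pow_mul, show 2 * (j + 1) = orderOf d + 1 by omega, pow_succ,
          pow_orderOf_eq_one, one_mul]
      rw [this]
      exact pow_mem hd2 _
    exact hyo (((hfix d).1 hdM).symm.trans hdo)
  · exact hyo (smul_left_cancel d (hdo.trans h.symm))

/-- The index of an involution centraliser is the order of a transitive odd subgroup. -/
theorem index_centralizer (hC : CIT X) {D : Subgroup X} (hD : Odd (Nat.card D))
    (htr : ∀ a b : X, orderOf a = 2 → orderOf b = 2 → ∃ d ∈ D, d * a * d⁻¹ = b) {a : X}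
    (ha : orderOf a = 2) : (centralizer ({a} : Set X)).index = Nat.card D := by
  rw [index]
  refine (Nat.card_congr (Equiv.ofBijective
    (fun d : D => ((d : X) : X ⧸ centralizer ({a} : Set X))) ⟨?_, ?_⟩)).symm
  · intro d e he
    have h : (d : X)⁻¹ * e ∈ centralizer ({a} : Set X) := QuotientGroup.eq.1 he
    exact Subtype.ext (inv_mul_eq_one.1 (comm_eq_one hC hD (mul_mem (inv_mem d.2) e.2) ha
      (mem_centralizer_singleton_iff.1 h)))
  · intro q
    obtain ⟨g, rfl⟩ := QuotientGroup.mk_surjective q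
    obtain ⟨d, hd, hde⟩ := htr a (g * a * g⁻¹) ha ((orderOf_conj g a).trans ha)
    refine ⟨⟨d, hd⟩, QuotientGroup.eq.2 (mem_centralizer_singleton_iff.2 ?_)⟩
    calc d⁻¹ * g * a = d⁻¹ * (g * a * g⁻¹) * g := by group
      _ = a * (d⁻¹ * g) := by rw [← hde]; group

/-- No simple group with these properties. -/
theorem simple_false [IsSimpleGroup X] (hna : ¬ IsMulCommutative X) (hC : CIT X)
    {D : Subgroup X} (hD : Odd (Nat.card D))
    (htr : ∀ a b : X, orderOf a = 2 → orderOf b = 2 → ∃ d ∈ D, d * a * d⁻¹ = b)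
    {E : Subgroup X} (hE : ∀ x ∈ E, x * x = 1) (hE8 : 8 ≤ Nat.card E) : False := by
  classical
  haveI : Fact (Nat.Prime 2) := ⟨Nat.prime_two⟩
  by_cases hTI : TISylow X
  · exact ti_false hna hC hTI hD htr hE hE8
  have hL := localTI hC
  obtain ⟨T, W, A, q, h⟩ := exists_pair hC (simple_noCore hna) hL hTI
  have hq4 := h.q_le_four hC hL
  have hq1 := h.left.one_lt
  obtain ⟨j, hj⟩ := (h.left.syl.2.1.to_le (inf_le_left.trans h.le_T.2 : A ⊓ W ≤ T)).exists_card_eq
  rw [h.card_inter] at hj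
  obtain rfl | rfl : q = 2 ∨ q = 4 := by
    have : q ≠ 3 := fun e => by
      rcases Nat.eq_zero_or_pos j with rfl | hpos
      · norm_num at hj; omega
      · have : 2 ∣ q := hj ▸ dvd_pow_self 2 hpos.ne'
        omega
    omega
  · have hWel := h.right.maxA.2.1
    have hW4 : Nat.card W = 4 := h.right.card_A
    have hWp : IsPGroup 2 W := IsPGroup.of_card (n := 2) (by rw [hW4]; norm_num)
    obtain ⟨S, hS, hWS⟩ := exists_isSyl (le_top : W ≤ ⊤) hWp
    obtain ⟨S', hS', hES'⟩ := exists_isSyl (le_top : E ≤ ⊤)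
      (fun x => ⟨1, Subtype.ext (by simpa [pow_two] using hE x x.2)⟩)
    obtain ⟨g, -, hg⟩ := hS'.exists_conj hS
    have hgE : cj g E ≤ S := hg ▸ cj_mono hES'
    have h4 := card_le_four_of_selfcent_four (P := S) hS.2.1 (W := W.subgroupOf S)
      (fun x hx y hy => Subtype.ext (comm_of_elementary hWel hx hy))
      (fun x hx => Subtype.ext (sq_of_elementary hWel hx))
      (by rw [Nat.card_congr (subgroupOfEquivOfLe hWS).toEquiv, hW4])
      (fun x hx => h.centralizer_left hC (mem_centralizer_iff.2 fun w hw =>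
        congrArg Subtype.val (mem_centralizer_iff.1 hx ⟨w, hWS hw⟩ hw)))
      (E := (cj g E).subgroupOf S) (fun x hx => by
        refine Subtype.ext ?_
        have hh : g⁻¹ * (x : X) * g * (g⁻¹ * x * g) = 1 := hE _ (mem_cj.1 hx)
        calc (x : X) * x = g * (g⁻¹ * x * g * (g⁻¹ * x * g)) * g⁻¹ := by group
          _ = 1 := by rw [hh]; group)
    rw [Nat.card_congr (subgroupOfEquivOfLe hgE).toEquiv, card_cj] at h4
    omega
  · have hF : CfsgLib.CIT.Four X T W A := ⟨hC, hL, h, h.sylow_of_simple hna hC hL⟩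
    have hG : Nat.card X = 20160 := by rw [hF.card_eq, hF.plane.1]
    obtain ⟨a, haE, ha1⟩ := E.bot_or_exists_ne_one.resolve_left
      (fun h' => by rw [h', card_bot] at hE8; omega)
    have ha : orderOf a = 2 := orderOf_eq_two_of ha1 (hE a haE)
    have hidx := index_centralizer hC hD htr ha
    obtain ⟨k, hk⟩ := IsPGroup.iff_card.1 (hC a ha)
    have h315 : Nat.card D = 315 := by
      have hm := (centralizer ({a} : Set X)).card_mul_index
      rw [hk, hidx, hG] at hm
      have hcop : (Nat.card D).Coprime 64 := by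
        rw [show (64 : ℕ) = 2 ^ 6 by norm_num]
        exact Nat.Coprime.pow_right 6 (Nat.coprime_two_right.2 hD)
      have h1 : Nat.card D ∣ 315 :=
        hcop.dvd_of_dvd_mul_left (show Nat.card D ∣ 64 * 315 from ⟨2 ^ k, by rw [mul_comm (Nat.card D)]; omega⟩)
      have hcop2 : (315 : ℕ).Coprime (2 ^ k) := Nat.Coprime.pow_right k (by norm_num)
      exact Nat.dvd_antisymm h1 (hcop2.dvd_of_dvd_mul_left ⟨64, by omega⟩)
    set N := normalizer (W : Set X) with hNdef
    have hN : Nat.card N = 960 := by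
      rw [hNdef, h.left.card_X, h.core_left, h.right.card_A]
      norm_num
    have hNi : N.index = 21 := by
      have := N.card_mul_index
      rw [hN, hG] at this
      omega
    have h15 : Nat.card (D ⊓ N : Subgroup X) = 15 := by
      have h1 := (N.subgroupOf D).card_mul_index
      rw [← inf_subgroupOf_left, Nat.card_congr (subgroupOfEquivOfLe (inf_le_left : D ⊓ N ≤ D)).toEquiv,
        inf_subgroupOf_left, h315] at h1
      have h2 : N.relIndex D ≤ 21 := by
        have h := relIndex_le_of_le_right (H := N) (le_top : D ≤ ⊤)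
          (by rw [relIndex_top_right, hNi]; norm_num)
        rwa [relIndex_top_right, hNi] at h
      change _ * N.relIndex D = 315 at h1
      have hd : Nat.card (D ⊓ N : Subgroup X) ∣ 15 := by
        have e1 := card_dvd_of_le (inf_le_left : D ⊓ N ≤ D)
        have e2 := card_dvd_of_le (inf_le_right : D ⊓ N ≤ N)
        rw [h315] at e1
        rw [hN] at e2
        have := Nat.dvd_gcd e1 e2
        norm_num at this
        exact this
      have h3 := Nat.le_of_dvd (by norm_num) hd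
      have h4 := Nat.mul_le_mul_left (Nat.card (D ⊓ N : Subgroup X)) h2
      omega
    exact hF.no_fifteen inf_le_right h15

theorem pCore_ne_bot (hC : CIT X) (hO : Cfsg.oddCore X = ⊥) {D : Subgroup X} (hD : Odd (Nat.card D))
    (htr : ∀ a b : X, orderOf a = 2 → orderOf b = 2 → ∃ d ∈ D, d * a * d⁻¹ = b)
    {E : Subgroup X} (hE : ∀ x ∈ E, x * x = 1) (hE8 : 8 ≤ Nat.card E) : Cfsg.pCore 2 X ≠ ⊥ := by
  classical
  haveI : Fact (Nat.Prime 2) := ⟨Nat.prime_two⟩
  intro hcore
  obtain ⟨a, haE, ha1⟩ := E.bot_or_exists_ne_one.resolve_left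
    (fun h' => by rw [h', card_bot] at hE8; omega)
  have ha : orderOf a = 2 := orderOf_eq_two_of ha1 (hE a haE)
  haveI : Nontrivial X := ⟨a, 1, ha1⟩
  have h2 : 2 ∣ Nat.card X := ha ▸ orderOf_dvd_natCard a
  have hns : ¬ Group.IsSolvable X := by
    intro hs
    obtain ⟨p, hp, hne⟩ := Core.exists_pCore_ne_bot (G := X)
    rcases eq_or_ne p 2 with rfl | hp2
    · exact hne hcore
    · haveI := Fact.mk hp
      refine hne (eq_bot_iff.2 (hO ▸ Core.le_pPrimeCore ?_))
      obtain ⟨n, hn⟩ := IsPGroup.iff_card.1 (Core.isPGroup_pCore p X)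
      rw [hn]
      exact Nat.Coprime.pow_left n ((Nat.coprime_primes hp Nat.prime_two).2 hp2)
  obtain ⟨L, hLn, hLs, hLna, hL2, -⟩ := exists_simple_normal hC h2 hns hcore
  haveI := hLn
  haveI := hLs
  obtain ⟨u, huL, hu, hsplit⟩ := exists_split hC hLna hL2
  have hinv : ∀ t : X, orderOf t = 2 → t ∈ L := fun t ht => by
    obtain ⟨d, -, hd⟩ := htr u t hu ht
    rw [← hd]
    exact hLn.conj_mem u huL d
  have hDL : D ≤ L := by
    intro d hd
    have h2p : IsPGroup 2 (X ⧸ L) := by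
      intro q
      obtain ⟨g, rfl⟩ := QuotientGroup.mk_surjective q
      obtain ⟨l, c, hl, hc, rfl⟩ := hsplit g
      obtain ⟨k, hk⟩ := hC u hu ⟨c, mem_centralizer_singleton_iff.2 hc⟩
      refine ⟨k, ?_⟩
      have hk' : c ^ 2 ^ k = 1 := congrArg Subtype.val hk
      rw [QuotientGroup.mk_mul, (QuotientGroup.eq_one_iff l).2 hl, one_mul, ← QuotientGroup.mk_pow,
        hk', QuotientGroup.mk_one]
    rw [← QuotientGroup.eq_one_iff]
    exact CfsgLib.Transfer.eq_one_of_coprime_of_isPGroup h2p (Nat.coprime_two_right.2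
      ((hD.of_dvd_nat (D.orderOf_dvd_natCard hd)).of_dvd_nat (orderOf_map_dvd (QuotientGroup.mk' L) d)))
  have hEL : E ≤ L := fun x hx => by
    by_cases hx1 : x = 1
    · exact hx1 ▸ one_mem L
    · exact hinv x (orderOf_eq_two_of hx1 (hE x hx))
  refine simple_false (X := L) hLna (hC.subgroup L) (D := D.subgroupOf L)
    (by rw [Nat.card_congr (subgroupOfEquivOfLe hDL).toEquiv]; exact hD) ?_
    (E := E.subgroupOf L) (fun x hx => Subtype.ext (hE _ hx))
    (by rw [Nat.card_congr (subgroupOfEquivOfLe hEL).toEquiv]; exact hE8)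
  intro x y hx hy
  obtain ⟨d, hd, hdxy⟩ := htr (x : X) (y : X) (by rw [Subgroup.orderOf_coe]; exact hx)
    (by rw [Subgroup.orderOf_coe]; exact hy)
  exact ⟨⟨d, hDL hd⟩, hd, Subtype.ext hdxy⟩

/-- All involutions lie in the centre of `O₂(X)`, and `O₂(X)` is the Sylow 2-subgroup. -/
theorem structure_theorem (hC : CIT X) (hO : Cfsg.oddCore X = ⊥) {D : Subgroup X}
    (hD : Odd (Nat.card D))
    (htr : ∀ a b : X, orderOf a = 2 → orderOf b = 2 → ∃ d ∈ D, d * a * d⁻¹ = b)
    {E : Subgroup X} (hE : ∀ x ∈ E, x * x = 1) (hE8 : 8 ≤ Nat.card E) :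
    (∀ t : X, orderOf t = 2 → t ∈ Cfsg.pCore 2 X ∧ ∀ c ∈ Cfsg.pCore 2 X, c * t = t * c) ∧
      ∀ g : X, (∃ k, orderOf g = 2 ^ k) → g ∈ Cfsg.pCore 2 X := by
  classical
  haveI : Fact (Nat.Prime 2) := ⟨Nat.prime_two⟩
  set Q := Cfsg.pCore 2 X with hQ
  have hne := pCore_ne_bot hC hO hD htr hE hE8
  haveI : Nontrivial Q := (nontrivial_iff_ne_bot Q).2 hne
  have hQp : IsPGroup 2 Q := Core.isPGroup_pCore 2 X
  haveI := hQp.center_nontrivial
  obtain ⟨n, hn⟩ := (hQp.to_subgroup (center Q)).exists_card_eq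
  have hc1 : 1 < Nat.card (center Q) := Finite.one_lt_card
  obtain ⟨u0, hu0⟩ := exists_prime_orderOf_dvd_card' 2 (show 2 ∣ Nat.card (center Q) by
    rw [hn] at hc1 ⊢
    exact dvd_pow_self 2 fun h0 => by rw [h0] at hc1; simp at hc1)
  set u : X := ((u0 : Q) : X) with hudef
  have hu : orderOf u = 2 := by rw [hudef, orderOf_coe, orderOf_coe, hu0]
  have hcu : ∀ c ∈ Q, c * u = u * c := fun c hc =>
    congrArg Subtype.val (mem_center_iff.1 u0.2 ⟨c, hc⟩)
  have hinv : ∀ t : X, orderOf t = 2 → t ∈ Q ∧ ∀ c ∈ Q, c * t = t * c := by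
    intro t ht
    obtain ⟨d, -, hd⟩ := htr u t hu ht
    haveI : Q.Normal := inferInstance
    refine ⟨hd ▸ Subgroup.Normal.conj_mem inferInstance u (u0 : Q).2 d, fun c hc => ?_⟩
    have h := hcu (d⁻¹ * c * d) (by
      simpa using Subgroup.Normal.conj_mem (inferInstance : Q.Normal) c hc d⁻¹)
    rw [← hd]
    calc c * (d * u * d⁻¹) = d * (d⁻¹ * c * d * u) * d⁻¹ := by group
      _ = d * u * d⁻¹ * c := by rw [h]; group
  refine ⟨hinv, fun g hg => ?_⟩
  by_contra hgQ
  -- an involution of the quotient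
  obtain ⟨k, hk⟩ := hg
  set π := QuotientGroup.mk' Q with hπ
  obtain ⟨j, -, hj⟩ := (Nat.dvd_prime_pow Nat.prime_two).1 (hk ▸ orderOf_map_dvd π g)
  have hj0 : j ≠ 0 := fun h => hgQ (by
    rw [h, pow_zero, orderOf_eq_one_iff] at hj
    exact (QuotientGroup.eq_one_iff g).1 hj)
  set s := π g ^ 2 ^ (j - 1) with hs
  have hso : orderOf s = 2 := by
    rw [hs, orderOf_pow_of_dvd (pow_ne_zero _ two_ne_zero)
      (by rw [hj]; exact pow_dvd_pow 2 (Nat.sub_le j 1)), hj, Nat.pow_div (Nat.sub_le j 1) two_pos,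
      show j - (j - 1) = 1 by omega, pow_one]
  have hsc : s ∉ Cfsg.pCore 2 (X ⧸ Q) := by
    rw [Core.pCore_quotient_pCore 2 X, mem_bot]
    exact involution_ne_one hso
  obtain ⟨h0, hh01, hh0o, hh0i⟩ := CfsgLib.LocalEvenB.exists_odd_inverted (involution_sq hso) hsc
  obtain ⟨r, hr, hrd⟩ := Nat.exists_prime_and_dvd (fun e => hh01 (orderOf_eq_one_iff.1 e))
  haveI := Fact.mk hr
  set h1 := h0 ^ (orderOf h0 / r) with hh1
  have hh1o : orderOf h1 = r := orderOf_pow_orderOf_div (orderOf_pos _).ne' hrd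
  have hh1i : s * h1 * s⁻¹ = h1⁻¹ := by rw [hh1, ← conj_pow, hh0i, inv_pow]
  have hr2 : r ≠ 2 := fun e => hh0o.not_two_dvd_nat (e ▸ hrd)
  -- the preimage of `⟨h1⟩` and its Sylow subgroup
  set K := (zpowers h1).comap π with hK
  have hQK : Q ≤ K := fun x hx => by
    rw [hK, mem_comap, hπ, QuotientGroup.mk'_apply, (QuotientGroup.eq_one_iff x).2 hx]
    exact one_mem _
  obtain ⟨R⟩ : Nonempty (Sylow r K) := inferInstance
  set R' := (R : Subgroup K).map K.subtype with hR'
  obtain ⟨x0, hx0⟩ := QuotientGroup.mk'_surjective Q (s)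
  have hsK : x0 ∈ normalizer (K : Set X) := by
    rw [mem_normalizer_iff]
    intro y
    rw [hK, mem_comap, mem_comap, map_mul, map_mul, map_inv, hx0]
    constructor
    · intro hy
      obtain ⟨i, hi⟩ := mem_zpowers_iff.1 hy
      rw [← hi, ← conj_zpow, hh1i]
      exact zpow_mem (inv_mem (mem_zpowers h1)) i
    · intro hy
      obtain ⟨i, hi⟩ := mem_zpowers_iff.1 hy
      have e : π y = s⁻¹ * h1 ^ i * s := by rw [hi]; group
      rw [e, show s⁻¹ * h1 ^ i * s = s⁻¹ * h1 ^ i * s⁻¹⁻¹ by rw [inv_inv], ← conj_zpow,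
        involution_inv hso, hh1i]
      exact zpow_mem (inv_mem (mem_zpowers h1)) i
  obtain ⟨q, hq, hqR⟩ : ∃ q ∈ K, q * x0 ∈ normalizer (R' : Set X) := by
    have hcard : Nat.card (R'.map (MulAut.conj x0).toMonoidHom) =
        Nat.card ((R : Subgroup K).map K.subtype) :=
      card_map_of_injective (MulAut.conj x0).injective
    have hle : R'.map (MulAut.conj x0).toMonoidHom ≤ K := by
      rintro _ ⟨y, hy, rfl⟩
      exact (mem_normalizer_iff.1 hsK y).1 (map_subtype_le _ hy)
    obtain ⟨c, hc, hce⟩ := Core.exists_conj_of_card_eq R hle hcard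
    refine ⟨c⁻¹, inv_mem hc, mem_normalizer_iff_map_conj_eq.2 ?_⟩
    show R'.map (MulAut.conj (c⁻¹ * x0)).toMonoidHom = R'
    apply map_injective (f := (MulAut.conj c).toMonoidHom) (MulAut.conj c).injective
    rw [map_map]
    refine Eq.trans ?_ hce.symm
    congr 1
    ext y
    simp [mul_assoc]
  have hR'p : IsPGroup r R' := R.2.map _
  have hdis : ∀ y ∈ R', y ∈ Q → y = 1 := fun y hy hyQ => by
    obtain ⟨i, hi⟩ := IsPGroup.iff_orderOf.1 hR'p ⟨y, hy⟩
    obtain ⟨l, hl⟩ := IsPGroup.iff_orderOf.1 hQp ⟨y, hyQ⟩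
    rw [Subgroup.orderOf_mk] at hi hl
    refine orderOf_eq_one_iff.1 (Nat.eq_one_of_dvd_coprimes
      ((Nat.coprime_primes hr Nat.prime_two).2 hr2 |>.pow i l) ?_ ?_)
    · rw [hi]
    · rw [hl]
  -- `R'` is not trivial
  obtain ⟨y, hyR, hy1⟩ : ∃ y ∈ R', y ≠ 1 := by
    refine R'.bot_or_exists_ne_one.resolve_left fun hb => ?_
    obtain ⟨y0, hy0⟩ := QuotientGroup.mk'_surjective Q h1
    have hd : r ∣ Nat.card K :=
      hh1o ▸ (hy0 ▸ orderOf_map_dvd π y0).trans (K.orderOf_dvd_natCard (by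
        rw [hK, mem_comap, hy0]; exact mem_zpowers h1))
    have hR1 := R.dvd_card_of_dvd_card hd
    rw [hR', map_eq_bot_iff_of_injective _ (subtype_injective K)] at hb
    rw [hb, card_bot] at hR1
    exact hr.ne_one (Nat.dvd_one.1 hR1)
  have hπy : π y ≠ 1 := fun e => hy1 (hdis y hyR ((QuotientGroup.eq_one_iff y).1 e))
  obtain ⟨iy, hiy⟩ : ∃ i : ℤ, h1 ^ i = π y := mem_zpowers_iff.1 (mem_comap.1 (show y ∈ K from map_subtype_le _ hyR))
  obtain ⟨iq, hiq⟩ : ∃ i : ℤ, h1 ^ i = π q := mem_zpowers_iff.1 hq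
  have hinvy : π (q * x0) * π y * (π (q * x0))⁻¹ = (π y)⁻¹ := by
    rw [map_mul, ← hπ] at *
    rw [hx0, ← hiy, ← hiq]
    calc h1 ^ iq * s * h1 ^ iy * (h1 ^ iq * s)⁻¹
        = h1 ^ iq * (s * h1 ^ iy * s⁻¹) * (h1 ^ iq)⁻¹ := by group
      _ = (h1 ^ iy)⁻¹ := by
        rw [← conj_zpow, hh1i, inv_zpow]
        group
  set g1 := q * x0 with hg1
  have hodd : ∀ z : X ⧸ Q, z * π y * z⁻¹ = (π y)⁻¹ → ∀ m : ℕ,
      z ^ (2 * m + 1) * π y * (z ^ (2 * m + 1))⁻¹ = (π y)⁻¹ := by
    intro z hz m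
    induction m with
    | zero => simpa using hz
    | succ m ih =>
      have hz2 : z * (π y)⁻¹ * z⁻¹ = π y := by
        rw [← conj_inv, hz, inv_inv]
      calc z ^ (2 * (m + 1) + 1) * π y * (z ^ (2 * (m + 1) + 1))⁻¹
          = z * (z * (z ^ (2 * m + 1) * π y * (z ^ (2 * m + 1))⁻¹) * z⁻¹) * z⁻¹ := by
            rw [show 2 * (m + 1) + 1 = 2 * m + 1 + 1 + 1 by ring, pow_succ' z (2 * m + 1 + 1),
              pow_succ' z (2 * m + 1)]
            group
        _ = (π y)⁻¹ := by rw [ih, hz2, hz]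
  obtain ⟨e2, m, hm, hord⟩ := Nat.exists_eq_two_pow_mul_odd (orderOf_pos g1).ne'
  set g2 := g1 ^ m with hg2def
  have hg2o : orderOf g2 = 2 ^ e2 := by
    rw [hg2def, orderOf_pow_of_dvd (Odd.pos hm).ne' (hord ▸ dvd_mul_left m _), hord,
      Nat.mul_div_cancel _ (Odd.pos hm)]
  have hg2R : g2 ∈ normalizer (R' : Set X) := pow_mem hqR m
  have hg2i : π g2 * π y * (π g2)⁻¹ = (π y)⁻¹ := by
    obtain ⟨m', rfl⟩ := hm
    rw [hg2def, map_pow]
    exact hodd _ hinvy m'
  have hyo : Odd (orderOf y) := by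
    obtain ⟨i, hi⟩ := IsPGroup.iff_orderOf.1 hR'p ⟨y, hyR⟩
    rw [Subgroup.orderOf_mk] at hi
    rw [hi]
    exact (hr.odd_of_ne_two hr2).pow
  have hg2inv : g2 * y * g2⁻¹ = y⁻¹ := by
    rw [← mul_eq_one_iff_eq_inv]
    refine hdis _ (mul_mem ((mem_normalizer_iff.1 hg2R y).1 hyR) hyR) ((QuotientGroup.eq_one_iff _).1 ?_)
    show π (g2 * y * g2⁻¹ * y) = 1
    rw [map_mul, map_mul, map_mul, map_inv, hg2i, inv_mul_cancel]
  have hg22 : (g2 * g2) * y = y * (g2 * g2) := by
    have h2 : g2 * y⁻¹ * g2⁻¹ = y := by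
      rw [← conj_inv, hg2inv, inv_inv]
    calc g2 * g2 * y = g2 * (g2 * y * g2⁻¹) * g2 := by group
      _ = (g2 * y⁻¹ * g2⁻¹) * (g2 * g2) := by rw [hg2inv]; group
      _ = y * (g2 * g2) := by rw [h2]
  obtain ⟨e3, -, he3⟩ := (Nat.dvd_prime_pow Nat.prime_two).1
    (hg2o ▸ (pow_two g2 ▸ orderOf_pow_dvd 2 : orderOf (g2 * g2) ∣ orderOf g2))
  have hg2sq : g2 * g2 = 1 := hC.eq_one hyo hy1 he3 hg22.symm
  have hg21 : g2 ≠ 1 := fun e => by
    rw [e, map_one, one_mul, inv_one, mul_one, ← mul_eq_one_iff_eq_inv] at hg2i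
    obtain ⟨i, hi⟩ := hyo.of_dvd_nat (orderOf_map_dvd π y)
    refine hπy ?_
    have : π y = (π y * π y) ^ (i + 1) := by
      rw [← pow_two, ← pow_mul, show 2 * (i + 1) = orderOf (π y) + 1 by omega, pow_succ,
        pow_orderOf_eq_one, one_mul]
    rw [this, hg2i, one_pow]
  have hg2Q := (hinv g2 (orderOf_eq_two_of hg21 hg2sq)).1
  rw [show π g2 = 1 from (QuotientGroup.eq_one_iff g2).2 hg2Q, one_mul, inv_one, mul_one] at hg2i
  obtain ⟨i, hi⟩ := hyo.of_dvd_nat (orderOf_map_dvd π y)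
  refine hπy ?_
  have : π y = (π y * π y) ^ (i + 1) := by
    rw [← pow_two, ← pow_mul, show 2 * (i + 1) = orderOf (π y) + 1 by omega, pow_succ,
      pow_orderOf_eq_one, one_mul]
  rw [this, mul_eq_one_iff_eq_inv.2 hg2i, one_pow]

end CfsgLib.InvCent.CITOdd
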