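import Cfsg.Agent.Lib.InvCentTwoNilp.Basic
import Cfsg.Agent.Lib.InvCentTwoNilp.CITOdd
import Cfsg.Agent.Lib.CIT.StrongEmb
import Cfsg.Agent.Lib.CIT.FrobeniusSystemMain

/-!
# CIT groups with a strongly embedded subgroup without odd core (S3214)

Owner: helper5.  With an elementary subgroup of order eight this is an embedded pair; without odd normal
subgroups the group is simple and the kernel has order `q` or `q²`.
-/

set_option autoImplicit false
set_option linter.unusedSectionVars false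

namespace CfsgLib.InvCent

open Subgroup CfsgLib.CIT
open CfsgLib.Signalizer (involution_sq involution_inv involution_ne_one orderOf_eq_two_of orderOf_conj)

universe u

variable {X : Type u} [Group X] [Finite X]

/-- With trivial `θ` the group is CIT. -/
theorem TwoNilpCent.cit (hI : TwoNilpCent X) (h : ∀ t : X, orderOf t = 2 → theta t = ⊥) : CIT X := by
  intro t ht
  haveI : Fact (Nat.Prime 2) := ⟨Nat.prime_two⟩
  obtain ⟨P⟩ : Nonempty (Sylow 2 ↥(centralizer ({t} : Set X))) := inferInstance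
  rintro ⟨g, hg⟩
  obtain ⟨u, hu, s, hs, rfl⟩ := hI.exists_mul ht ⟨P, rfl⟩ (mem_cent.1 hg)
  rw [h t ht, mem_bot] at hu
  obtain ⟨k, hk⟩ := orderOf_two_pow_of_mem (P.2.map _) hs
  exact ⟨k, Subtype.ext (by
    show (u * s) ^ 2 ^ k = 1
    rw [hu, one_mul, ← hk, pow_orderOf_eq_one])⟩

section

variable {M : Subgroup X}

/-- The embedded pair. -/
theorem exists_embedded (hC : CIT X) (hse : Cfsg.IsStronglyEmbedded M) (hO : Cfsg.oddCore ↥M = ⊥)
    {E : Subgroup X} (hEM : E ≤ M) (hE : ∀ x ∈ E, x * x = 1) (h8 : 8 ≤ Nat.card E) :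
    ∃ H : Subgroup X, IsPGroup 2 H ∧ ∃ h : Embedded M H, 2 ≤ h.invCount ∧
      (∃ s t : X, s ∈ M ∧ t ∈ M ∧ orderOf s = 2 ∧ orderOf t = 2 ∧ s ≠ t ∧ s * t = t * s) ∧
      ∀ g ∈ M, ∀ k : ℕ, orderOf g = 2 ^ k → g ∈ H := by
  classical
  haveI : Fact (Nat.Prime 2) := ⟨Nat.prime_two⟩
  obtain ⟨g, hg⟩ : ∃ g : X, g ∉ M := by
    by_contra hno
    push Not at hno
    exact hse.1 (eq_top_iff.2 fun g _ => hno g)
  have hxy : ((1 : X) : X ⧸ M) ≠ (g : X ⧸ M) := fun e => hg (by simpa using QuotientGroup.eq.1 e)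
  have hCM : CIT ↥M := hC.subgroup M
  have hD : Odd (Nat.card ((M ⊓ cj g M).subgroupOf M)) := by
    rw [Nat.card_congr (subgroupOfEquivOfLe inf_le_left).toEquiv]
    exact hse.2.2 g hg
  obtain ⟨hinv, h2⟩ := CITOdd.structure_theorem hCM hO hD (fun a b ha hb => by
      obtain ⟨d, hdx, hdy, hd⟩ := TwoGroups.SE.exists_conj_fixing hse hxy
        (s := (a : X)) (t := (b : X)) (by rw [orderOf_coe, ha])
        ((TwoGroups.SE.smul_mk_eq_iff _ 1).2 (by simpa using a.2)) (by rw [orderOf_coe, hb])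
        ((TwoGroups.SE.smul_mk_eq_iff _ 1).2 (by simpa using b.2))
      have hdM : d ∈ M := by simpa using (TwoGroups.SE.smul_mk_eq_iff d 1).1 hdx
      exact ⟨⟨d, hdM⟩, ⟨hdM, mem_cj.2 ((TwoGroups.SE.smul_mk_eq_iff d g).1 hdy)⟩, Subtype.ext hd⟩)
    (E := E.subgroupOf M) (fun x hx => Subtype.ext (hE _ hx))
    (by rw [Nat.card_congr (subgroupOfEquivOfLe hEM).toEquiv]; exact h8)
  have hin : ∀ x ∈ M, (∃ k, orderOf x = 2 ^ k) → x ∈ core M := by
    rintro x hx ⟨k, hk⟩
    exact ⟨⟨x, hx⟩, h2 _ ⟨k, by rw [Subgroup.orderOf_mk, hk]⟩, rfl⟩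
  have hinvol : ∀ t ∈ M, orderOf t = 2 → t ∈ core M := fun t ht h0 =>
    hin t ht ⟨1, by rw [h0, pow_one]⟩
  have hEmb : Embedded M (core M) := by
    refine ⟨hse, core_le M, core_normalized M, hinvol, fun x hx hx1 c hc => ?_, fun y hy x hx hxy => ?_⟩
    · obtain ⟨k, hk⟩ := orderOf_two_pow_of_mem (isPGroup_core M) hx
      obtain ⟨m, hm⟩ := exists_involution_pow hk hx1
      have hcM : c ∈ M := Signalizer.stronglyEmbedded_centralizer hse (pow_mem (core_le M hx) m) hm
        (mem_centralizer_singleton_iff.2 ((Commute.pow_right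
          (mem_centralizer_singleton_iff.1 hc : Commute c x) m).eq))
      obtain ⟨j, hj⟩ := orderOf_two_pow_of_mem (hC.centralizer_pGroup hk hx1) hc
      exact hin c hcM ⟨j, hj⟩
    · by_contra hx1
      obtain ⟨k, hk⟩ := orderOf_two_pow_of_mem (isPGroup_core M) hx
      obtain ⟨m, hm⟩ := exists_involution_pow hk hx1
      have h1 : y⁻¹ * x ^ m * y⁻¹⁻¹ ∈ M := by
        have e : y⁻¹ * x ^ m * y⁻¹⁻¹ = (y⁻¹ * x * y) ^ m := by
          rw [inv_inv]
          simpa using (conj_pow (i := m) (a := y⁻¹) (b := x)).symm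
        rw [e]
        exact pow_mem (core_le M hxy) m
      have h3 := ((Signalizer.stronglyEmbedded_iff_conj M).1 hse).2.2 _ (pow_mem (core_le M hx) m) hm
        y⁻¹ h1
      exact hy (by simpa using inv_mem h3)
  -- three commuting involutions
  obtain ⟨s, hs, hs1⟩ := (bot_or_exists_ne_one E).resolve_left fun e => by
    rw [e, card_bot] at h8; omega
  obtain ⟨t, ht, ht1, hts⟩ : ∃ t ∈ E, t ≠ 1 ∧ t ≠ s := by
    by_contra hno
    push Not at hno
    have hle : Nat.card (E : Set X) ≤ Nat.card ({1, s} : Set X) := by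
      refine Nat.card_mono (Set.toFinite _) fun x hx => ?_
      by_cases h : x = 1
      · exact Or.inl h
      · exact Or.inr (hno x hx h)
    rw [Nat.card_coe_set_eq ({1, s} : Set X), Set.ncard_pair (Ne.symm hs1)] at hle
    exact absurd (h8.trans hle) (by norm_num)
  have hso := orderOf_eq_two_of hs1 (hE s hs)
  have hto := orderOf_eq_two_of ht1 (hE t ht)
  refine ⟨core M, isPGroup_core M, hEmb, ?_, ⟨s, t, hEM hs, hEM ht, hso, hto, Ne.symm hts, ?_⟩,
    fun x hx k hk => hin x hx ⟨k, hk⟩⟩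
  · haveI : Nontrivial {a : X // orderOf a = 2 ∧ a ∈ M} :=
      ⟨⟨⟨s, hso, hEM hs⟩, ⟨t, hto, hEM ht⟩, fun e => hts (congrArg Subtype.val e).symm⟩⟩
    exact Finite.one_lt_card
  · calc s * t = (s * t)⁻¹ := (inv_eq_of_mul_eq_one_right (hE _ (mul_mem hs ht))).symm
      _ = t * s := by
        rw [mul_inv_rev, inv_eq_of_mul_eq_one_right (hE _ hs), inv_eq_of_mul_eq_one_right (hE _ ht)]

variable {H : Subgroup X} (h : Embedded M H)
include h

/-- Every element of a two-point stabiliser is a product of two involutions. -/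
theorem exists_two_involutions {x y : X ⧸ M} (hxy : x ≠ y) {d : X} (hd : d ∈ h.two x y) :
    ∃ u v : X, orderOf u = 2 ∧ orderOf v = 2 ∧ u • x = y ∧ u * v = d := by
  classical
  obtain ⟨u, hu, hux, huy⟩ := h.exists_swap hxy
  let f : {i : X // orderOf i = 2 ∧ i • x = y} → h.two x y := fun i => ⟨u * i.1, h.mem_two.2
    ⟨by rw [mul_smul, i.2.2, huy], by
      have : i.1 • y = x := by
        calc i.1 • y = i.1 • i.1 • x := by rw [i.2.2]
          _ = x := by rw [← mul_smul, involution_sq i.2.1, one_smul]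
      rw [mul_smul, this, hux]⟩⟩
  have hf : Function.Bijective f := by
    refine (Nat.bijective_iff_injective_and_card f).2 ⟨fun i j e => ?_, ?_⟩
    · exact Subtype.ext (mul_left_cancel (congrArg Subtype.val e))
    · rw [TwoGroups.SE.card_swapping h.se x y hxy, h.card_two hxy]
      rfl
  obtain ⟨i, hi⟩ := hf.2 ⟨d, hd⟩
  exact ⟨u, i.1, hu, i.2.1, hux, congrArg Subtype.val hi⟩

/-- A normal subgroup containing an involution is everything. -/
theorem eq_top_of_involution_mem (hC : CIT X) (hP : IsPGroup 2 H) (hi : 2 ≤ h.invCount) {N : Subgroup X}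
    [N.Normal] {t : X} (htN : t ∈ N) (ht : orderOf t = 2) : N = ⊤ := by
  classical
  have hall : ∀ a : X, orderOf a = 2 → a ∈ N := fun a ha => by
    obtain ⟨c, hc⟩ := isConj_iff.1 (TwoGroups.SE.isConj_involutions h.se ht ha)
    exact hc ▸ Subgroup.Normal.conj_mem inferInstance t htN c
  obtain ⟨g, hg⟩ : ∃ g : X, g ∉ M := by
    by_contra hno
    push Not at hno
    exact h.se.1 (eq_top_iff.2 fun g _ => hno g)
  set o : X ⧸ M := ((1 : X) : X ⧸ M) with ho
  have hxy : o ≠ (g : X ⧸ M) := fun e => hg (by simpa using QuotientGroup.eq.1 e)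
  have hD : ∀ d ∈ h.two o (g : X ⧸ M), d ∈ N := fun d hd => by
    obtain ⟨u, v, hu, hv, -, rfl⟩ := exists_two_involutions h hxy hd
    exact mul_mem (hall u hu) (hall v hv)
  haveI : Nontrivial (h.two o (g : X ⧸ M)) :=
    Finite.one_lt_card_iff_nontrivial.1 (by rw [h.card_two hxy]; omega)
  obtain ⟨⟨d, hd⟩, hd1⟩ := exists_ne (1 : h.two o (g : X ⧸ M))
  have hd1' : d ≠ 1 := fun e => hd1 (Subtype.ext e)
  have hdM : d ∈ M := by
    simpa using (TwoGroups.SE.smul_mk_eq_iff d 1).1 (h.mem_two.1 hd).1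
  have hHN : H ≤ N := by
    let f : H → H := fun x => ⟨(x : X)⁻¹ * (d * x * d⁻¹),
      mul_mem (inv_mem x.2) ((mem_normalizer_iff.1 (h.norm hdM) _).1 x.2)⟩
    have hf : Function.Injective f := by
      intro x y e
      have e' : (x : X)⁻¹ * (d * x * d⁻¹) = (y : X)⁻¹ * (d * y * d⁻¹) := congrArg Subtype.val e
      have hc : d * ((y : X) * (x : X)⁻¹) = (y : X) * (x : X)⁻¹ * d := by
        rw [← mul_inv_eq_iff_eq_mul]
        calc d * ((y : X) * (x : X)⁻¹) * d⁻¹
            = (y : X) * ((y : X)⁻¹ * (d * y * d⁻¹)) * ((x : X) * ((x : X)⁻¹ * (d * x * d⁻¹)))⁻¹ := by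
              group
          _ = (y : X) * (x : X)⁻¹ := by rw [← e']; group
      exact (Subtype.ext (mul_inv_eq_one.1 (hC.eq_one_of_mem
        (h.odd_of_two hxy (h.mem_two.1 hd).1 (h.mem_two.1 hd).2) hd1' hP
        (mul_mem y.2 (inv_mem x.2)) hc))).symm
    intro z hz
    obtain ⟨x, hx⟩ := (Finite.injective_iff_surjective.1 hf) ⟨z, hz⟩
    rw [show z = (x : X)⁻¹ * (d * x * d⁻¹) from (congrArg Subtype.val hx).symm,
      show (x : X)⁻¹ * (d * x * d⁻¹) = (x : X)⁻¹ * d * x⁻¹⁻¹ * d⁻¹ by group]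
    exact mul_mem (Subgroup.Normal.conj_mem inferInstance d (hD d hd) _) (inv_mem (hD d hd))
  have hstab : ∀ a : X, a • o = o → a ∈ N := fun a ha => by
    obtain ⟨e, he, he'⟩ := h.decompose hxy ha
    have h1 : e⁻¹ * a ∈ N := hHN (h.inH_one.1 he')
    rw [show a = e * (e⁻¹ * a) by group]
    exact mul_mem (hD e he) h1
  refine eq_top_iff.2 fun a _ => ?_
  by_cases ha : a • o = o
  · exact hstab a ha
  · obtain ⟨u, hu, hux, huy⟩ := h.exists_swap (Ne.symm ha)
    rw [show a = u * (u * a) by rw [← mul_assoc, involution_sq hu, one_mul]]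
    exact mul_mem (hall u hu) (hstab _ (by rw [mul_smul, huy]))

/-- Without odd normal subgroups the group is simple. -/
theorem simple_of_embedded (hC : CIT X) (hP : IsPGroup 2 H) (hi : 2 ≤ h.invCount)
    (hO : Cfsg.oddCore X = ⊥) : IsSimpleGroup X := by
  haveI : Nontrivial X := by
    by_contra hn
    rw [not_nontrivial_iff_subsingleton] at hn
    exact h.se.1 (Subsingleton.elim _ _)
  refine ⟨fun N hN => ?_⟩
  by_cases hodd : Odd (Nat.card N)
  · exact Or.inl (le_bot_iff.1 ((ZStar.le_oddCore hN hodd).trans_eq hO))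
  · obtain ⟨t, htN, ht⟩ := Signalizer.exists_involution_of_even (Nat.not_odd_iff_even.1 hodd)
    haveI := hN
    exact Or.inr (eq_top_of_involution_mem h hC hP hi htN ht)

/-- The kernel has order `q` or `q²`. -/
theorem card_kernel [IsSimpleGroup X] (hP : IsPGroup 2 H) (hi : 2 ≤ h.invCount)
    (hcomm : ∃ s t : X, s ∈ M ∧ t ∈ M ∧ orderOf s = 2 ∧ orderOf t = 2 ∧ s ≠ t ∧ s * t = t * s) :
    Nat.card H = h.invCount + 1 ∨ Nat.card H = (h.invCount + 1) ^ 2 := by
  classical
  haveI : Fintype (X ⧸ M) := Fintype.ofFinite _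
  haveI : Fact (Nat.Prime 2) := ⟨Nat.prime_two⟩
  have hfaith := CfsgLib.CIT.FrobSystem.simple_faithful (M := M) h.se.1
  have hZ := h.isZassenhaus hi hcomm hfaith
  obtain ⟨g, hg⟩ : ∃ g : X, g ∉ M := by
    by_contra hno
    push Not at hno
    exact h.se.1 (eq_top_iff.2 fun g _ => hno g)
  set o : X ⧸ M := ((1 : X) : X ⧸ M) with ho
  have hgo : o ≠ (g : X ⧸ M) := fun e => hg (by simpa using (QuotientGroup.eq.1 e))
  have hd : Nat.card ↥(MulAction.stabilizer X o ⊓ MulAction.stabilizer X (g : X ⧸ M) : Subgroup X) =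
      h.invCount := h.card_two hgo
  have hKa : h.ker o ≤ MulAction.stabilizer X o := fun a ha =>
    MulAction.mem_stabilizer_iff.2 (h.fix_of_inH (h.mem_ker.1 ha))
  have hKc : Nat.card (h.ker o) + 1 = Fintype.card (X ⧸ M) := by
    rw [h.card_ker, ← Nat.card_eq_fintype_card, h.card_points hi]
  have hKfix : ∀ u ∈ h.ker o, u ≠ 1 → ∀ c : X ⧸ M, u • c = c → c = o := fun u hu hu1 c hc => by
    by_contra hne
    exact hu1 (h.semireg (h.mem_ker.1 hu) hc (Ne.symm hne))
  have hKP : IsPGroup 2 (h.ker o) := isPGroup_cj hP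
  have hodd : Odd (Nat.card ↥(MulAction.stabilizer X o ⊓ MulAction.stabilizer X (g : X ⧸ M) : Subgroup X)) := by
    rw [← Nat.not_even_iff_odd]
    intro he
    obtain ⟨d, hdm, hdo⟩ := Signalizer.exists_involution_of_even he
    have := h.odd_of_two hgo (h.mem_two.1 hdm).1 (h.mem_two.1 hdm).2
    rw [hdo] at this
    exact absurd this (by decide)
  by_cases hab : ∀ x ∈ h.ker o, ∀ y ∈ h.ker o, x * y = y * x
  swap
  · push Not at hab
    obtain ⟨x, hx, y, hy, hxy⟩ := hab
    obtain ⟨m, K⟩ := CfsgLib.PGroups.SuzukiZass.exists_kern_of_two hZ hgo hKa hKc hKfix hKP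
      ⟨⟨x, hx⟩, ⟨y, hy⟩, fun e => hxy (congrArg Subtype.val e)⟩
    have h2 := K.card_two_stab
    rw [hd] at h2
    exact Or.inr (by rw [← h.card_ker o, K.card_sq, h2])
  left
  obtain ⟨-, hge⟩ := CfsgLib.Perm.zass_abelian_kernel_simple _ X (X ⧸ M) hZ o (g : X ⧸ M) hgo rfl hodd
    (h.ker o) hKa hKc hKfix hab
  rw [← hKc, h.card_ker, hd] at hge
  rw [hd] at hodd
  -- both numbers are powers of two, and `H` is at least as large
  obtain ⟨t, ht, htM⟩ := (Nat.card_pos_iff.1 (show 0 < h.invCount by omega)).1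
  have hge2 : h.invCount + 1 ≤ Nat.card H := by
    haveI := Fintype.ofFinite {t : X // orderOf t = 2 ∧ t ∈ M}
    have h1 : Nat.card {t : X // orderOf t = 2 ∧ t ∈ M} < Nat.card H := by
      haveI := Fintype.ofFinite H
      rw [Nat.card_eq_fintype_card, Nat.card_eq_fintype_card]
      refine Fintype.card_lt_of_injective_of_notMem (b := (1 : H))
        (fun s : {t : X // orderOf t = 2 ∧ t ∈ M} => (⟨s.1, h.involution_mem _ s.2.2 s.2.1⟩ : H))
        (fun s s' e => Subtype.ext (congrArg Subtype.val e :)) ?_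
      rintro ⟨s, hs⟩
      exact involution_ne_one s.2.1 (congrArg Subtype.val hs)
    exact h1
  obtain ⟨s, s', hsM, hs'M, hso, hs'o, hss, hcomm'⟩ := hcomm
  obtain ⟨j, hj⟩ := hP.exists_card_eq
  obtain ⟨i, hicard⟩ : ∃ i, h.invCount + 1 = 2 ^ i := by
    -- the involutions of an abelian kernel and the identity form a subgroup
    let H2 : Subgroup X :=
      { carrier := {x | x ∈ H ∧ x * x = 1}
        one_mem' := ⟨one_mem H, one_mul 1⟩
        mul_mem' := fun {x y} hx hy => ⟨mul_mem hx.1 hy.1, by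
          have hxy : x * y = y * x := by
            have := hab x (h.mem_ker.2 (h.inH_one.2 hx.1)) y (h.mem_ker.2 (h.inH_one.2 hy.1))
            exact this
          calc x * y * (x * y) = x * (y * x) * y := by group
            _ = 1 := by rw [← hxy, ← mul_assoc, hx.2, one_mul, hy.2]⟩
        inv_mem' := fun {x} hx => ⟨inv_mem hx.1, by rw [← mul_inv_rev, hx.2, inv_one]⟩ }
    obtain ⟨i, hi'⟩ := (hP.to_le (fun x (hx : x ∈ H2) => hx.1)).exists_card_eq
    refine ⟨i, ?_⟩
    rw [← hi']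
    haveI := Fintype.ofFinite {t : X // orderOf t = 2 ∧ t ∈ M}
    haveI := Fintype.ofFinite H2
    have e : Nat.card {x : H2 // (x : X) ≠ 1} = h.invCount := Nat.card_congr
      { toFun := fun x => ⟨x.1.1, orderOf_eq_two_of x.2 x.1.2.2, h.hle x.1.2.1⟩
        invFun := fun x => ⟨⟨x.1, h.involution_mem _ x.2.2 x.2.1, involution_sq x.2.1⟩,
          involution_ne_one x.2.1⟩
        left_inv := fun _ => rfl
        right_inv := fun _ => rfl }
    rw [← e, Nat.card_eq_fintype_card, Nat.card_eq_fintype_card, Fintype.card_subtype_compl,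
      (Fintype.card_eq_one_iff (α := {x : H2 // (x : X) = 1})).2 ⟨⟨1, rfl⟩, fun y => Subtype.ext (Subtype.ext y.2)⟩]
    have : 0 < Fintype.card H2 := Fintype.card_pos
    omega
  rw [hj, hicard] at hge2 ⊢
  have h3 : 2 ^ j < 2 ^ (i + 1) := by
    rw [hj] at hge
    rw [pow_succ]
    omega
  have h4 : j = i := le_antisymm (Nat.lt_succ_iff.1 ((Nat.pow_lt_pow_iff_right (by norm_num)).1 h3))
    ((Nat.pow_le_pow_iff_right (by norm_num)).1 hge2)
  rw [h4]

end

end CfsgLib.InvCent
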