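import Cfsg.Agent.Lib.InvCentTwoNilp.Points
import Cfsg.Agent.S0058

/-!
# Hyperplanes, generation, normalisers of Sylow subgroups of `W` (S3214)

Owner: helper5.
-/

set_option autoImplicit false
set_option linter.unusedSectionVars false

namespace CfsgLib.InvCent

open Subgroup CfsgLib.CIT
open CfsgLib.Signalizer (involution_sq involution_inv involution_ne_one orderOf_eq_two_of orderOf_conj)

universe u

variable {G : Type u} [Group G]

/-- An elementary subgroup of `M` of order at least half of that of `A`. -/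
structure Hyp (M T B : Subgroup G) : Prop where
  le : B ≤ M
  elem : Elem B
  card : Nat.card (invSub T) ≤ 2 * Nat.card B

theorem Elem.zpowers {a : G} (ha : a * a = 1) : Elem (zpowers a) := fun x hx => by
  obtain ⟨i, rfl⟩ := mem_zpowers_iff.1 hx
  rw [← (Commute.refl a).mul_zpow, ha, one_zpow]

theorem invSub_cj (g : G) (T : Subgroup G) : invSub (cj g T) = cj g (invSub T) := by
  refine le_antisymm ?_ ?_
  · refine (closure_le _).2 fun x hx => mem_cj.2 (subset_closure ⟨mem_cj.1 hx.1, ?_⟩)
    calc g⁻¹ * x * g * (g⁻¹ * x * g) = g⁻¹ * (x * x) * g := by group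
      _ = 1 := by rw [hx.2]; group
  · refine cj_le_iff.2 ((closure_le _).2 fun x hx => mem_cj.2 ?_)
    refine subset_closure ⟨?_, ?_⟩
    · rw [inv_inv]; exact conj_mem_cj.2 hx.1
    · rw [inv_inv, show g * x * g⁻¹ * (g * x * g⁻¹) = g * (x * x) * g⁻¹ by group, hx.2]; group

variable [Finite G]

theorem Elem.mem_sup_zpowers {A C : Subgroup G} (hA : Elem A) (hC : C ≤ A) {a : G} (ha : a ∈ A)
    {x : G} (hx : x ∈ C ⊔ Subgroup.zpowers a) : x ∈ C ∨ x * a ∈ C := by
  let D : Subgroup G :=
    { carrier := {x | x ∈ A ∧ (x ∈ C ∨ x * a ∈ C)}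
      one_mem' := ⟨A.one_mem, Or.inl C.one_mem⟩
      mul_mem' := by
        rintro x y ⟨hxA, hx⟩ ⟨hyA, hy⟩
        refine ⟨A.mul_mem hxA hyA, ?_⟩
        rcases hx with hx | hx <;> rcases hy with hy | hy
        · exact Or.inl (C.mul_mem hx hy)
        · exact Or.inr (by rw [mul_assoc]; exact C.mul_mem hx hy)
        · exact Or.inr (by rw [mul_assoc, hA.comm hyA ha, ← mul_assoc]; exact C.mul_mem hx hy)
        · left
          have h := C.mul_mem hx hy
          rwa [show x * a * (y * a) = x * y * (a * a) by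
            rw [mul_assoc x a, ← mul_assoc a y, hA.comm ha hyA]; group, hA a ha, mul_one] at h
      inv_mem' := by
        rintro x ⟨hxA, hx⟩
        rw [Set.mem_setOf_eq, inv_eq_of_mul_eq_one_right (hA x hxA)]
        exact ⟨hxA, hx⟩ }
  have hle : C ⊔ Subgroup.zpowers a ≤ D :=
    sup_le (fun c hc => ⟨hC hc, Or.inl hc⟩) (zpowers_le.2 ⟨ha, Or.inr (by rw [hA a ha]; exact C.one_mem)⟩)
  exact (hle hx).2

theorem Elem.eq_or_eq_of_mem_zpowers {A : Subgroup G} (hA : Elem A) {a : G} (ha : a ∈ A) {x : G}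
    (hx : x ∈ Subgroup.zpowers a) : x = 1 ∨ x = a :=
  (hA.mem_sup_zpowers (bot_le : ⊥ ≤ A) ha (mem_sup_right hx)).imp mem_bot.1 fun e => by
    rw [mul_eq_one_iff_eq_inv.1 (mem_bot.1 e), inv_eq_of_mul_eq_one_right (hA a ha)]

/-- A coprime elementary group acts: generation by the fixed points of its hyperplanes. -/
theorem le_of_hyperplanes {A X Y : Subgroup G} (hA : Elem A) (hn : A ≤ normalizer (X : Set G))
    (hX : Odd (Nat.card X))
    (hY : ∀ B ≤ A, Nat.card A ≤ 2 * Nat.card B → X ⊓ centralizer (B : Set G) ≤ Y) : X ≤ Y := by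
  classical
  suffices H : ∀ k : ℕ, ∀ C ≤ A, Nat.card A - Nat.card C = k → X ⊓ centralizer (C : Set G) ≤ Y by
    intro x hx
    exact H _ ⊥ bot_le rfl ⟨hx, mem_centralizer_iff.2 fun c hc => by
      rw [show c = 1 from mem_bot.1 hc, one_mul, mul_one]⟩
  intro k
  induction k using Nat.strong_induction_on with
  | _ k ih =>
    intro C hC hk
    by_cases hbig : Nat.card A ≤ 2 * Nat.card C
    · exact hY C hC hbig
    obtain ⟨a1, ha1, ha1C⟩ : ∃ a ∈ A, a ∉ C := by
      by_contra hno
      push Not at hno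
      exact hbig (by have := card_le_of_le hno; omega)
    -- `C ⊔ ⟨a1⟩` has index two over `C`
    have hzc : ∀ a : G, a ∈ A → Nat.card ↥(C ⊔ zpowers a) ≤ 2 * Nat.card C := by
      intro a ha
      have hle : ((C ⊔ zpowers a : Subgroup G) : Set G) ⊆ (C : Set G) ∪ (fun c => c * a) '' (C : Set G) := by
        intro x hx
        rcases hA.mem_sup_zpowers hC ha hx with h | h
        · exact Or.inl h
        · exact Or.inr ⟨x * a, h, by show x * a * a = x; rw [mul_assoc, hA a ha, mul_one]⟩
      have h1 := (Set.ncard_le_ncard hle (Set.toFinite _)).trans (Set.ncard_union_le _ _)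
      have h2 := Set.ncard_image_le (f := fun c => c * a) (Set.toFinite (C : Set G))
      rw [← Nat.card_coe_set_eq, ← Nat.card_coe_set_eq] at h1
      have e1 : (C : Set G).ncard = Nat.card C := (Nat.card_coe_set_eq _).symm
      have e2 := Nat.card_coe_set_eq ((fun c => c * a) '' (C : Set G))
      simp only [SetLike.coe_sort_coe] at h1 h2
      omega
    obtain ⟨a2, ha2, ha2C⟩ : ∃ a ∈ A, a ∉ C ⊔ zpowers a1 := by
      by_contra hno
      push Not at hno
      exact hbig ((card_le_of_le hno).trans (hzc a1 ha1))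
    set E := zpowers a1 ⊔ zpowers a2 with hE
    have hEA : E ≤ A := sup_le (zpowers_le.2 ha1) (zpowers_le.2 ha2)
    have hEC : ∀ e ∈ E, e ≠ 1 → e ∉ C := by
      intro e he he1 heC
      rcases hA.mem_sup_zpowers (zpowers_le.2 ha1) ha2 he with h | h
      · rcases hA.eq_or_eq_of_mem_zpowers ha1 h with rfl | rfl
        exacts [he1 rfl, ha1C heC]
      · refine ha2C ?_
        have h2 : e * (e * a2) ∈ C ⊔ zpowers a1 := mul_mem (mem_sup_left heC) (mem_sup_right h)
        rwa [← mul_assoc, hA e (hC heC), one_mul] at h2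
    have h3 : 3 ≤ Nat.card E := by
      haveI := Fintype.ofFinite E
      rw [Nat.card_eq_fintype_card]
      refine Fintype.two_lt_card_iff.2 ⟨1, ⟨a1, mem_sup_left (mem_zpowers a1)⟩,
        ⟨a2, mem_sup_right (mem_zpowers a2)⟩, ?_, ?_, ?_⟩
      · exact fun e => ha1C (by rw [show a1 = 1 from (congrArg Subtype.val e).symm]; exact one_mem _)
      · exact fun e => ha2C (by rw [show a2 = 1 from (congrArg Subtype.val e).symm]; exact one_mem _)
      · exact fun e => ha2C (by
          rw [show a2 = a1 from (congrArg Subtype.val e).symm]; exact mem_sup_right (mem_zpowers a1))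
    have hEn : E ≤ normalizer ((X ⊓ centralizer (C : Set G) : Subgroup G) : Set G) := by
      intro e he
      refine mem_normalizer_iff.2 fun x => ?_
      have hcomm : ∀ c ∈ C, c * e = e * c := fun c hc => hA.comm (hC hc) (hEA he)
      have hx := mem_normalizer_iff.1 (hn (hEA he)) x
      constructor
      · rintro ⟨h1, h2⟩
        refine ⟨hx.1 h1, mem_centralizer_iff.2 fun c hc => ?_⟩
        have h3 := mem_centralizer_iff.1 h2 c hc
        calc c * (e * x * e⁻¹) = e * (c * x) * e⁻¹ := by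
              rw [← mul_assoc, ← mul_assoc, hcomm c hc]; group
          _ = e * x * (c * e⁻¹) := by rw [h3]; group
          _ = e * x * e⁻¹ * c := by
              rw [hA.comm (hC hc) (inv_mem (hEA he))]; group
      · rintro ⟨h1, h2⟩
        refine ⟨hx.2 h1, mem_centralizer_iff.2 fun c hc => ?_⟩
        have h3 := mem_centralizer_iff.1 h2 c hc
        calc c * x = e⁻¹ * (c * (e * x * e⁻¹)) * e := by
              rw [show e⁻¹ * (c * (e * x * e⁻¹)) * e = e⁻¹ * c * e * x by group,
                show e⁻¹ * c * e = c by rw [mul_assoc, hcomm c hc, inv_mul_cancel_left]]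
          _ = e⁻¹ * (e * x * e⁻¹ * c) * e := by rw [h3]
          _ = x * (e⁻¹ * c * e) := by group
          _ = x * c := by rw [mul_assoc e⁻¹, hcomm c hc, inv_mul_cancel_left]
    have hElem : Elem E := hA.of_le hEA
    haveI := hElem.isMulCommutative
    have hgen := Cfsg.Agent.S0058.result E (X ⊓ centralizer (C : Set G))
      (hElem.not_isCyclic (hElem.four_le h3)) hEn
      (hElem.coprime (hX.of_dvd_nat (card_dvd_of_le inf_le_left)))
    rw [← hgen]
    refine iSup₂_le fun e he => ?_
    have hlt : Nat.card C < Nat.card ↥(C ⊔ zpowers e) := by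
      refine lt_of_le_of_ne (card_le_of_le le_sup_left) fun e' => hEC e he.1 he.2 ?_
      rw [eq_of_le_of_card_ge le_sup_left e'.ge]
      exact mem_sup_right (mem_zpowers e)
    have hCe : C ⊔ zpowers e ≤ A := sup_le hC (zpowers_le.2 (hEA he.1))
    have hle := card_le_of_le hCe
    refine le_trans ?_ (ih (Nat.card A - Nat.card ↥(C ⊔ zpowers e)) (by omega) _ hCe rfl)
    rintro x ⟨⟨hx1, hx2⟩, hx3⟩
    refine ⟨hx1, ?_⟩
    have hle' : C ⊔ zpowers e ≤ centralizer ({x} : Set G) :=
      sup_le (fun c hc => mem_cent.2 (mem_centralizer_iff.1 hx2 c hc))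
        (zpowers_le.2 (mem_cent.2 (mem_cent.1 hx3).symm))
    exact mem_centralizer_iff.2 fun c hc => mem_cent.1 (hle' hc)

theorem Hyp.four_le [IsSimpleGroup G] {M T B : Subgroup G} (h : Ctx M) (hT : IsSyl T M) (hB : Hyp M T B) :
    4 ≤ Nat.card B := by
  have := h.eight_le_invSub hT
  have := hB.card
  omega

namespace Ctx

variable [IsSimpleGroup G] {M : Subgroup G} (h : Ctx M)
include h

theorem card_invSub_eq {T T' : Subgroup G} (hT : IsSyl T M) (hT' : IsSyl T' M) :
    Nat.card (invSub T') = Nat.card (invSub T) := by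
  obtain ⟨x, -, e⟩ := hT.exists_conj hT'
  rw [← e, invSub_cj, card_cj]

/-- Some conjugate of `T` normalises a given Sylow subgroup of `W`. -/
theorem exists_syl_normalizing {p : ℕ} [Fact p.Prime] {T P : Subgroup G} (hT : IsSyl T M)
    (hP : SylP p P (Wc M)) :
    ∃ T', IsSyl T' M ∧ T' ≤ normalizer (P : Set G) := by
  obtain ⟨k, hk⟩ := hT.2.1.exists_card_eq
  have hcop : (Nat.card T).Coprime (Nat.card (Wc M)) := by
    rw [hk]; exact ((odd_Wc M).coprime_two_left).pow_left k
  obtain ⟨Q, hQ, hTQ⟩ := exists_invariant_sylP (p := p) (T_le_norm hT) hcop (odd_Wc M)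
  obtain ⟨w, hw, e⟩ := hQ.exists_conj hP
  refine ⟨cj w T, ?_, ?_⟩
  · have h' := hT.cj w
    rwa [mem_normalizer_iff_cj.1 (le_normalizer (Wc_le M hw))] at h'
  · rw [← e, normalizer_cj]; exact cj_mono hTQ

theorem hyp_invSub {T T' : Subgroup G} (hT : IsSyl T M) (hT' : IsSyl T' M) : Hyp M T (invSub T') :=
  ⟨(h.invSub_le hT').trans hT'.1, h.invSub_elem hT', by rw [h.card_invSub_eq hT hT']; omega⟩

/-- The normaliser of a Sylow subgroup of `W` reaching outside `M` is full. -/
theorem full_normalizer {p : ℕ} [Fact p.Prime] {T P : Subgroup G} (hT : IsSyl T M)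
    (hP : SylP p P (Wc M)) (hne : P ≠ ⊥) (hbad : ¬ normalizer (P : Set G) ≤ M) :
    ∃ T', IsSyl T' M ∧ T' ≤ normalizer (P : Set G) ∧ Full M T' (normalizer (P : Set G)) ∧
      P ≤ Wc (normalizer (P : Set G)) := by
  obtain ⟨T', hT', hT'P⟩ := h.exists_syl_normalizing hT hP
  refine ⟨T', hT', hT'P, ⟨normalizer_ne_top hne (h.ne_top_of_le_M (hP.le.trans (Wc_le M))), hbad,
    invSub T', le_inf ((h.invSub_le hT').trans hT'P) ((h.invSub_le hT').trans hT'.1),
    h.invSub_elem hT', rfl⟩, ?_⟩
  exact le_Wc le_normalizer le_rfl ((odd_Wc M).of_dvd_nat (card_dvd_of_le hP.le))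

end Ctx

end CfsgLib.InvCent
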