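import Cfsg.Agent.Lib.InvCentTwoNilp.Facts
import Cfsg.Agent.Lib.Char.Frobenius
import Cfsg.Agent.Lib.Lie.RankOneClass.Induction
import Cfsg.Agent.S0034

/-!
# The final Frobenius argument against a minimal configuration (S3214)

For a point `x` other than the base point the swapping involutions centralise `U = W ∩ M_x`, so the centraliser of
`k ≠ 1` in `U` is full and its orbit is the fixed set of `k`.  Thus `U` is a Frobenius complement in `W`; with the
kernel `K` and a Sylow 2-subgroup `T` the subgroup `K T` is normal in `M` and regular on the other points, so its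
order is a power of two by the shape of rank one setups.
-/

set_option autoImplicit false
set_option linter.unusedSectionVars false
set_option linter.style.haveILetI false

namespace CfsgLib.InvCent

open Subgroup MulAction CfsgLib.CIT
open scoped Pointwise
open CfsgLib.Signalizer (involution_sq involution_inv involution_ne_one orderOf_eq_two_of orderOf_conj)
open CfsgLib.TwoGroups.SE (smul_mk_eq_iff)

universe u

variable {G : Type u} [Group G] [Finite G]

/-- Orbit and stabiliser for conjugation under a subgroup. -/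
theorem card_eq_card_cent_mul {K : Subgroup G} {t : G} {S : Set G}
    (hmem : ∀ k ∈ K, k * t * k⁻¹ ∈ S) (hsurj : ∀ s ∈ S, ∃ k ∈ K, k * t * k⁻¹ = s) :
    Nat.card K = Nat.card (K ⊓ centralizer {t} : Subgroup G) * Nat.card S := by
  classical
  set C := (centralizer ({t} : Set G)).subgroupOf K with hC
  have hiff : ∀ k l : ↥K, k⁻¹ * l ∈ C ↔ (k : G) * t * (k : G)⁻¹ = (l : G) * t * (l : G)⁻¹ := by
    intro k l
    rw [hC, mem_subgroupOf, mem_cent]
    simp only [Subgroup.coe_mul, Subgroup.coe_inv]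
    constructor <;> intro h
    · calc (k : G) * t * (k : G)⁻¹ = k * (t * ((k : G)⁻¹ * l)) * (l : G)⁻¹ := by group
        _ = (l : G) * t * (l : G)⁻¹ := by rw [← h]; group
    · calc (k : G)⁻¹ * l * t = (k : G)⁻¹ * ((l : G) * t * (l : G)⁻¹) * l := by group
        _ = t * ((k : G)⁻¹ * l) := by rw [← h]; group
  have hb : Function.Bijective fun q : ↥K ⧸ C =>
      (⟨(q.out : G) * t * (q.out : G)⁻¹, hmem _ q.out.2⟩ : S) := by
    refine ⟨fun p q e => ?_, fun ⟨s, hs⟩ => ?_⟩
    · rw [← p.out_eq, ← q.out_eq]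
      exact QuotientGroup.eq.2 ((hiff _ _).2 (congrArg Subtype.val e))
    · obtain ⟨k, hk, rfl⟩ := hsurj s hs
      refine ⟨((⟨k, hk⟩ : ↥K) : ↥K ⧸ C), Subtype.ext ?_⟩
      exact (hiff _ _).1 (QuotientGroup.eq.1 (Quotient.out_eq _))
  rw [← Nat.card_eq_of_bijective _ hb, ← index_eq_card,
    ← Nat.card_congr (subgroupOfEquivOfLe (inf_le_left : K ⊓ centralizer ({t} : Set G) ≤ K)).toEquiv,
    inf_subgroupOf_left]
  exact (card_mul_index C).symm

theorem mem_normalizer_sup {g : G} {A B : Subgroup G} (hA : g ∈ normalizer (A : Set G))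
    (hB : g ∈ normalizer (B : Set G)) : g ∈ normalizer ((A ⊔ B : Subgroup G) : Set G) := by
  rw [mem_normalizer_iff_cj] at hA hB ⊢
  rw [CIT.cj, Subgroup.map_sup]
  exact congrArg₂ (· ⊔ ·) hA hB

/-- The stabiliser of `x` in `W`. -/
def Ux (M : Subgroup G) (x : G ⧸ M) : Subgroup G := Wc M ⊓ MulAction.stabilizer G x

theorem mem_Ux {M : Subgroup G} {x : G ⧸ M} {g : G} : g ∈ Ux M x ↔ g ∈ Wc M ∧ g • x = x := by
  rw [Ux, mem_inf, mem_stabilizer_iff]

theorem odd_Ux (M : Subgroup G) (x : G ⧸ M) : Odd (Nat.card (Ux M x)) :=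
  (odd_Wc M).of_dvd_nat (card_dvd_of_le inf_le_left)

theorem stab_base (M : Subgroup G) : MulAction.stabilizer G (base M) = M :=
  MulAction.stabilizer_quotient M

theorem exists_swapper {M : Subgroup G} (hse : Cfsg.IsStronglyEmbedded M) {x : G ⧸ M} (hx : x ≠ base M) :
    ∃ u : G, orderOf u = 2 ∧ u • base M = x ∧ u • x = base M := by
  obtain ⟨t, htM, ht⟩ := Signalizer.exists_involution_of_even hse.2.1
  have hpos : 0 < Nat.card {i : G // orderOf i = 2 ∧ i • base M = x} := by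
    rw [TwoGroups.SE.card_swapping hse _ _ hx.symm]
    haveI : Nonempty {a : G // orderOf a = 2 ∧ a ∈ M} := ⟨⟨t, ht, htM⟩⟩
    exact Nat.card_pos
  obtain ⟨⟨u, hu, hux⟩⟩ := (Nat.card_pos_iff.1 hpos).1
  exact ⟨u, hu, hux, by rw [← hux, ← mul_smul, involution_sq hu, one_smul]⟩

namespace Endgame

variable [IsSimpleGroup G] {M T : Subgroup G} (e : Endgame M) (h : Ctx M) (hT : IsSyl T M)
include e h hT

theorem cent_invSub {a : G} (ha : a ∈ invSub T) {w : G} (hw : w ∈ Wc M) : a * w = w * a := by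
  by_cases h1 : a = 1
  · rw [h1, one_mul, mul_one]
  · exact e.cent a (hT.1 (h.invSub_le hT ha)) ((h.invSub_elem hT).orderOf_eq ha h1) w hw

theorem involution_mem {t : G} (htM : t ∈ M) (ht : orderOf t = 2) : t ∈ invSub T := by
  obtain ⟨v, hv, hva, -⟩ := h.exists_conj_invSub hT htM ht
  rwa [← e.cent t htM ht v hv, mul_inv_cancel_right] at hva

theorem card_involutions :
    Nat.card {s : G // orderOf s = 2 ∧ s ∈ M} = Nat.card (invSub T) - 1 := by
  classical
  haveI : Fintype ↥(invSub T) := Fintype.ofFinite _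
  have h1 : Nat.card {s : G // orderOf s = 2 ∧ s ∈ M} = Nat.card {a : ↥(invSub T) // a ≠ 1} := Nat.card_congr
    { toFun := fun s => ⟨⟨s, e.involution_mem h hT s.2.2 s.2.1⟩,
        fun h' => involution_ne_one s.2.1 (congrArg Subtype.val h')⟩
      invFun := fun a => ⟨a.1, (h.invSub_elem hT).orderOf_eq a.1.2 fun h' => a.2 (Subtype.ext h'),
        hT.1 (h.invSub_le hT a.1.2)⟩
      left_inv := fun _ => rfl
      right_inv := fun _ => rfl }
  rw [h1, Nat.card_eq_fintype_card, Nat.card_eq_fintype_card, Fintype.card_subtype_compl,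
    Fintype.card_subtype_eq]

theorem card_stab_two {x : G ⧸ M} (hx : x ≠ base M) :
    Nat.card (M ⊓ MulAction.stabilizer G x : Subgroup G) =
      Nat.card (Ux M x) * (Nat.card (invSub T) - 1) := by
  obtain ⟨t, htM, ht⟩ := Signalizer.exists_involution_of_even h.se.2.1
  rw [← e.card_involutions h hT, card_eq_card_cent_mul (K := M ⊓ MulAction.stabilizer G x) (t := t)
    (S := {s | orderOf s = 2 ∧ s ∈ M})
    (fun k hk => ⟨(orderOf_conj k t).trans ht, mul_mem (mul_mem hk.1 htM) (inv_mem hk.1)⟩)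
    (fun s hs => ?_)]
  · suffices heq : M ⊓ MulAction.stabilizer G x ⊓ centralizer {t} = Ux M x by rw [heq]; rfl
    refine le_antisymm (fun c hc => ?_) fun c hc => ?_
    · obtain ⟨⟨hcM, hcx⟩, hct⟩ := mem_inf.1 hc
      have ho := TwoGroups.SE.odd_orderOf_of_fixes h.se hx.symm (smul_base_eq_iff.2 hcM)
        (mem_stabilizer_iff.1 hcx)
      exact ⟨h.theta_le t htM ht (h.hI.mem_theta ht (mem_cent.1 hct) ho), hcx⟩
    · exact ⟨⟨Wc_le M hc.1, hc.2⟩, mem_cent.2 (e.cent t htM ht c hc.1).symm⟩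
  · obtain ⟨d, hdx, hdy, hd⟩ := TwoGroups.SE.exists_conj_fixing h.se hx.symm ht
      (smul_base_eq_iff.2 htM) hs.1 (smul_base_eq_iff.2 hs.2)
    exact ⟨d, ⟨smul_base_eq_iff.1 hdx, mem_stabilizer_iff.2 hdy⟩, hd⟩

theorem odd_stab_two {x : G ⧸ M} (hx : x ≠ base M) :
    Odd (Nat.card (M ⊓ MulAction.stabilizer G x : Subgroup G)) := by
  rw [e.card_stab_two h hT hx]
  refine (odd_Ux M x).mul ?_
  obtain ⟨n, hn⟩ := (h.invSub_elem hT).card_two_pow
  have h8 := h.eight_le_invSub hT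
  rw [hn] at h8 ⊢
  exact Nat.Even.sub_odd Nat.one_le_two_pow
    (Nat.even_pow.2 ⟨even_two, fun h0 => by rw [h0] at h8; norm_num at h8⟩) odd_one

/-- The swapping involutions centralise `U`. -/
theorem swap_cent {x : G ⧸ M} (hx : x ≠ base M) {u : G} (hu : orderOf u = 2) (hux : u • base M = x)
    {k : G} (hk : k ∈ Ux M x) : u * k = k * u := by
  set D := M ⊓ MulAction.stabilizer G x with hD
  have huM : u ∉ M := fun hm => hx (hux.symm.trans (smul_base_eq_iff.2 hm))
  have hback : ∀ i : G, orderOf i = 2 → i • base M = x → i • x = base M := fun i hi hix => by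
    rw [← hix, ← mul_smul, involution_sq hi, one_smul]
  have hcount := card_eq_card_cent_mul (K := D) (t := u) (S := {i | orderOf i = 2 ∧ i • base M = x})
    (fun d hd => ⟨(orderOf_conj d u).trans hu, by
      rw [mul_smul, mul_smul, inv_smul_eq_iff.2 (smul_base_eq_iff.2 hd.1).symm, hux,
        mem_stabilizer_iff.1 hd.2]⟩)
    (fun i hi => by
      refine exists_conj_of_mul_mem (e.odd_stab_two h hT hx) hu hi.1 ⟨smul_base_eq_iff.1 ?_, ?_⟩
      · rw [mul_smul, hi.2, hback u hu hux]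
      · show (u * i) • x = x
        rw [mul_smul, hback i hi.1 hi.2, hux])
  rw [hD, e.card_stab_two h hT hx, ← hD] at hcount
  have hS : Nat.card {i : G | orderOf i = 2 ∧ i • base M = x} = Nat.card (invSub T) - 1 :=
    (TwoGroups.SE.card_swapping h.se _ _ hx.symm).trans (e.card_involutions h hT)
  rw [hS] at hcount
  have h8 := h.eight_le_invSub hT
  have hle : D ⊓ centralizer {u} ≤ Ux M x := by
    intro c hc
    obtain ⟨⟨hcM, hcx⟩, hcu⟩ := mem_inf.1 hc
    refine ⟨?_, hcx⟩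
    have hcb : c • base M = base M := smul_base_eq_iff.2 hcM
    have ho := TwoGroups.SE.odd_orderOf_of_fixes h.se hx.symm hcb (mem_stabilizer_iff.1 hcx)
    obtain ⟨z, hz⟩ := TwoGroups.SE.exists_fixed h.se hu
    obtain ⟨g, rfl⟩ := QuotientGroup.mk_surjective z
    have hgM : g ∉ M := fun hm => huM (by
      have := (smul_mk_eq_iff u g).1 hz
      have := mul_mem (mul_mem hm this) (inv_mem hm)
      rwa [show g * (g⁻¹ * u * g) * g⁻¹ = u by group] at this)
    have hd : g⁻¹ * c * g ∈ Wc M := by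
      have h1 := mem_theta_conj (g := g⁻¹) (h.hI.mem_theta hu (mem_cent.1 hcu) ho)
      rw [inv_inv] at h1
      exact h.theta_le _ ((smul_mk_eq_iff u g).1 hz) ((TwoGroups.SE.orderOf_conj' g u).trans hu) h1
    have hne : ((g⁻¹ : G) : G ⧸ M) ≠ base M := fun e' => hgM (by
      simpa using QuotientGroup.eq.1 e')
    have hfix : (g⁻¹ * c * g) • ((g⁻¹ : G) : G ⧸ M) = ((g⁻¹ : G) : G ⧸ M) := by
      rw [smul_mk_eq_iff, inv_inv]
      rwa [show g * (g⁻¹ * c * g) * g⁻¹ = c by group]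
    have h2 := e.stab_W _ hne _ hd hfix
    rw [Wp_mk, mem_cj, inv_inv] at h2
    rwa [show g * (g⁻¹ * c * g) * g⁻¹ = c by group] at h2
  have heq : D ⊓ centralizer {u} = Ux M x :=
    eq_of_le_of_card_ge hle (Nat.eq_of_mul_eq_mul_right (by omega) hcount).le
  exact (mem_cent.1 (heq.ge hk).2).symm

/-- The centraliser of a nontrivial element of `U` is full, and its orbit is the fixed set. -/
theorem full_cent {x : G ⧸ M} (hx : x ≠ base M) {k : G} (hk : k ∈ Ux M x) (hk1 : k ≠ 1) :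
    Full M T (centralizer {k}) ∧ ∀ z, k • z = z → z ∈ Orb M (centralizer {k}) := by
  have hsw : ∀ z, z ≠ base M → k • z = z → ∃ u ∈ centralizer ({k} : Set G), u • base M = z := by
    intro z hz hkz
    obtain ⟨u, hu, huz, -⟩ := exists_swapper h.se hz
    exact ⟨u, mem_cent.2 (e.swap_cent h hT hz hu huz (mem_Ux.2 ⟨hk.1, hkz⟩)), huz⟩
  refine ⟨⟨fun htop => ?_, fun hle => ?_, invSub T, le_inf (fun a ha => mem_cent.2
    (e.cent_invSub h hT ha hk.1)) ((h.invSub_le hT).trans hT.1), h.invSub_elem hT, rfl⟩, fun z hkz => ?_⟩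
  · rcases (inferInstance : (center G).Normal).eq_bot_or_eq_top with hc | hc
    · refine hk1 (mem_bot.1 (hc ▸ mem_center_iff.2 fun g => ?_))
      exact mem_cent.1 (htop ▸ mem_top g : g ∈ centralizer ({k} : Set G))
    · exact h.hna ⟨⟨fun a b => mem_center_iff.1 (hc ▸ mem_top b) a⟩⟩
  · obtain ⟨u, hu, hux⟩ := hsw x hx (mem_Ux.1 hk).2
    exact hx (hux.symm.trans (smul_base_eq_iff.2 (hle hu)))
  · rcases eq_or_ne z (base M) with rfl | hz
    · exact mem_orb_base M _
    · obtain ⟨u, hu, huz⟩ := hsw z hz hkz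
      exact ⟨u, hu, (smul_base u).symm.trans huz⟩

/-- `U` is a trivial intersection subgroup of `W`, its own normaliser. -/
theorem ti {x : G ⧸ M} (hx : x ≠ base M) {w k : G} (hw : w ∈ Wc M) (hk : k ∈ Ux M x) (hk1 : k ≠ 1)
    (hk' : w⁻¹ * k * w ∈ Ux M x) : w ∈ Ux M x := by
  obtain ⟨hF, horb⟩ := e.full_cent h hT hx hk hk1
  have hwb : w • base M = base M := smul_base_eq_iff.2 (Wc_le M hw)
  have h1 : k • (w • x) = w • x := by
    have := (mem_Ux.1 hk').2
    rw [mul_smul, mul_smul, inv_smul_eq_iff] at this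
    exact this
  obtain ⟨t, ⟨-, htM⟩, ⟨j, hj⟩, htx⟩ := hF.exists_two_move h hT (horb x (mem_Ux.1 hk).2) (horb _ h1) hx
    (fun e' => hx (smul_left_cancel w (e'.trans hwb.symm)))
  have hdx : (w⁻¹ * t) • x = x := by rw [mul_smul, htx, inv_smul_smul]
  have ho := TwoGroups.SE.odd_orderOf_of_fixes h.se hx.symm
    (smul_base_eq_iff.2 (mul_mem (inv_mem (Wc_le M hw)) htM)) hdx
  have hdW := Ctx.mem_TW_odd hT
    (mul_mem (inv_mem (mem_sup_right hw)) (h.two_mem_TW hT htM hj)) ho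
  have htW : t ∈ Wc M := by
    have := mul_mem hw hdW
    rwa [mul_inv_cancel_left] at this
  have ht1 : t = 1 := orderOf_eq_one_iff.1 (Nat.eq_one_of_dvd_coprimes
    ((odd_Wc M).coprime_two_left.pow_left j) hj.dvd ((Wc M).orderOf_dvd_natCard htW))
  rw [ht1, one_smul] at htx
  exact mem_Ux.2 ⟨hw, htx.symm⟩

theorem Ux_ne {x : G ⧸ M} (hx : x ≠ base M) : Ux M x ≠ Wc M := by
  intro heq
  obtain ⟨g, rfl⟩ := QuotientGroup.mk_surjective x
  have hle : Wc M ≤ Wp M (g : G ⧸ M) := fun w hw =>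
    e.stab_W _ hx w hw (mem_Ux.1 (heq.ge hw)).2
  rw [Wp_mk] at hle
  have h1 : g ∈ normalizer (Wc M : Set G) :=
    mem_normalizer_iff_cj.2 (eq_of_le_of_card_ge hle (card_cj g _).le).symm
  rw [h.norm] at h1
  exact hx (by rw [base]; exact QuotientGroup.eq.2 (by simpa using inv_mem h1))

/-- The kernel of `W` for the complement `U`. -/
theorem exists_kernel {x : G ⧸ M} (hx : x ≠ base M) :
    ∃ K : Subgroup G, K ≤ Wc M ∧ M ≤ normalizer (K : Set G) ∧
      Nat.card K * Nat.card (Ux M x) = Nat.card (Wc M) ∧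
      (Nat.card K).Coprime (Nat.card (Ux M x)) := by
  classical
  by_cases hbot : Ux M x = ⊥
  · exact ⟨Wc M, le_rfl, Wc_normalized M, by rw [hbot, card_bot, mul_one],
      by rw [hbot, card_bot]; exact Nat.coprime_one_right _⟩
  haveI := Fintype.ofFinite ↥(Wc M)
  set U := (Ux M x).subgroupOf (Wc M) with hU
  have hUle : Ux M x ≤ Wc M := inf_le_left
  have hF : Cfsg.IsFrobeniusComplement U := by
    refine ⟨fun h' => hbot ?_, fun h' => e.Ux_ne h hT hx
      (le_antisymm hUle (subgroupOf_eq_top.1 h')), fun g hg => eq_bot_iff.2 fun y hy => ?_⟩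
    · exact (subgroupOf_eq_bot.1 h').eq_bot_of_le hUle
    · obtain ⟨hy1, hy2⟩ := mem_inf.1 hy
      rw [mem_smul_pointwise_iff_exists] at hy2
      obtain ⟨z, hz, rfl⟩ := hy2
      refine mem_bot.2 ?_
      by_contra hne
      refine hg (mem_subgroupOf.2 (e.ti h hT hx g.2 (mem_subgroupOf.1 hy1)
        (fun h' => hne (Subtype.ext h')) ?_))
      show (g : G)⁻¹ * ((g : G) * z * (g : G)⁻¹) * g ∈ Ux M x
      rw [show (g : G)⁻¹ * ((g : G) * z * (g : G)⁻¹) * g = (z : G) by group]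
      exact mem_subgroupOf.1 hz
  obtain ⟨N, -, hN, hcomp⟩ := CfsgLib.Frobenius.exists_normal_complement hF
  have hmul := hcomp.card_mul_card
  have hUc : Nat.card U = Nat.card (Ux M x) := Nat.card_congr (subgroupOfEquivOfLe hUle).toEquiv
  have hcop : (Nat.card N).Coprime (Nat.card U) := by
    have hidx := (Cfsg.Agent.S0034.result U hF).2
    rw [show U.index = Nat.card N from Nat.eq_of_mul_eq_mul_right Nat.card_pos
      (by rw [hmul, U.index_mul_card])] at hidx
    rw [Nat.coprime_comm, Nat.Coprime, Nat.gcd_rec, hidx, ← Nat.gcd_rec]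
    exact Nat.gcd_one_right _
  have hindex : N.index = Nat.card U := Nat.eq_of_mul_eq_mul_left Nat.card_pos
    (by rw [N.card_mul_index, hmul])
  have hKc : Nat.card (N.map (Wc M).subtype) = Nat.card N :=
    card_map_of_injective (subtype_injective _)
  have hchar : ∀ w : ↥(Wc M), w ^ Nat.card N = 1 → w ∈ N := fun w hw => by
    obtain ⟨i, hi⟩ : ∃ i : ℕ, (w ^ N.index) ^ i = w := exists_pow_eq_self_of_coprime
      ((hindex ▸ hcop.symm : (N.index).Coprime (Nat.card N)).coprime_dvd_right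
        (orderOf_dvd_of_pow_eq_one hw))
    rw [← hi]
    exact pow_mem (N.pow_index_mem w) i
  refine ⟨N.map (Wc M).subtype, map_subtype_le _, ?_, by rw [hKc, ← hUc, hmul], by rw [hKc, ← hUc]; exact hcop⟩
  intro m hm
  rw [mem_normalizer_iff_cj]
  refine eq_of_le_of_card_ge ?_ (card_cj m _).ge
  rintro _ ⟨_, ⟨w, hw, rfl⟩, rfl⟩
  refine ⟨⟨m * w * m⁻¹, conj_mem_Wc hm w.2⟩, hchar _ (Subtype.ext ?_), rfl⟩
  show (m * (w : G) * m⁻¹) ^ Nat.card N = 1
  have h1 : (w : G) ^ Nat.card N = 1 := congrArg Subtype.val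
    (orderOf_dvd_iff_pow_eq_one.1 (N.orderOf_dvd_natCard hw))
  rw [conj_pow, h1, mul_one, mul_inv_cancel]

/-- `K` and the centraliser of `T` generate `W`. -/
theorem sup_cent_eq {x : G ⧸ M} (hx : x ≠ base M) {K : Subgroup G} (hK : K ≤ Wc M)
    (hcard : Nat.card K * Nat.card (Ux M x) = Nat.card (Wc M)) :
    Wc M ⊓ centralizer (T : Set G) ⊔ K = Wc M := by
  classical
  haveI : Fact (Nat.Prime 2) := ⟨Nat.prime_two⟩
  set S := Wc M ⊓ centralizer (T : Set G) ⊔ K with hS
  refine eq_of_le_of_card_ge (sup_le inf_le_left hK) (Nat.le_of_dvd Nat.card_pos ?_)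
  obtain ⟨n, hn⟩ := hT.2.1.exists_card_eq
  have hcop : (Nat.card T).Coprime (Nat.card (Wc M)) := hn ▸ ((odd_Wc M).coprime_two_left.pow_left n)
  rw [← Nat.factorization_le_iff_dvd Nat.card_pos.ne' Nat.card_pos.ne']
  intro p
  by_cases hp : p.Prime
  swap
  · simp [Nat.factorization_eq_zero_of_not_prime _ hp]
  haveI : Fact p.Prime := ⟨hp⟩
  by_cases hpU : p ∣ Nat.card (Ux M x)
  · obtain ⟨P, hP, hTP⟩ := exists_invariant_sylP (p := p) (Ctx.T_le_norm hT) hcop (odd_Wc M)
    have hbad : ¬ normalizer (P : Set G) ≤ M := fun hgood => by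
      obtain ⟨k, hk⟩ := exists_prime_orderOf_dvd_card' p hpU
      exact e.good p hp P hP hgood x hx k (mem_Ux.1 k.2).1 (mem_Ux.1 k.2).2 (by rw [orderOf_coe, hk])
    have hPS : P ≤ S := fun y hy => mem_sup_left ⟨hP.le hy, mem_centralizer_iff.2 fun τ hτ => by
      obtain ⟨j, hj⟩ := orderOf_two_pow_of_mem hT.2.1 hτ
      exact (mem_centralizer_iff.1 ((e.bad p hp P hP hbad).2 τ (hTP hτ) j hj) y hy).symm⟩
    have h1 := hP.card ▸ card_dvd_of_le hPS
    exact (hp.pow_dvd_iff_le_factorization Nat.card_pos.ne').1 h1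
  · rw [← hcard, Nat.factorization_mul Nat.card_pos.ne' Nat.card_pos.ne', Finsupp.add_apply,
      Nat.factorization_eq_zero_of_not_dvd hpU, add_zero]
    exact (Nat.factorization_le_iff_dvd Nat.card_pos.ne' Nat.card_pos.ne').2
      (card_dvd_of_le le_sup_right) p

/-- `K T` is normal in `M`. -/
theorem normal_KT {x : G ⧸ M} (hx : x ≠ base M) {K : Subgroup G} (hK : K ≤ Wc M)
    (hKn : M ≤ normalizer (K : Set G)) (hcard : Nat.card K * Nat.card (Ux M x) = Nat.card (Wc M)) :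
    M ≤ normalizer ((T ⊔ K : Subgroup G) : Set G) := by
  have hW : Wc M ≤ normalizer ((T ⊔ K : Subgroup G) : Set G) := by
    conv_lhs => rw [← e.sup_cent_eq h hT hx hK hcard]
    exact sup_le (fun c hc => mem_normalizer_sup (centralizer_le_normalizer _ hc.2)
      (hKn (Wc_le M hc.1))) (le_sup_right.trans le_normalizer)
  have hTW : T ⊔ Wc M ≤ normalizer ((T ⊔ K : Subgroup G) : Set G) :=
    sup_le (le_sup_left.trans le_normalizer) hW
  have hTsyl : IsSyl T (T ⊔ Wc M) :=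
    ⟨le_sup_left, hT.2.1, fun Q h1 h2 h3 => hT.2.2 Q h1 (h2.trans (sup_le hT.1 (Wc_le M))) h3⟩
  intro m hm
  obtain ⟨c, hc, hce⟩ := hTsyl.exists_conj (hTsyl.cj_of_mem (h.TW_normalized hT hm))
  have hcM : c ∈ M := sup_le hT.1 (Wc_le M) hc
  rw [mem_normalizer_iff_cj]
  calc CIT.cj m (T ⊔ K) = CIT.cj m T ⊔ CIT.cj m K := Subgroup.map_sup _ _ _
    _ = CIT.cj c T ⊔ CIT.cj c K := by
      rw [hce, mem_normalizer_iff_cj.1 (hKn hm), mem_normalizer_iff_cj.1 (hKn hcM)]
    _ = CIT.cj c (T ⊔ K) := (Subgroup.map_sup _ _ _).symm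
    _ = T ⊔ K := mem_normalizer_iff_cj.1 (hTW hc)

theorem card_TW : Nat.card M = Nat.card T * Nat.card (Wc M) * (Nat.card (invSub T) - 1) := by
  rw [← h.relIndex_TW hT, ← Core.card_sup_of_disjoint T (Wc M) (Ctx.T_le_norm hT) (Ctx.inf_W hT),
    ← Nat.card_congr (subgroupOfEquivOfLe (sup_le hT.1 (Wc_le M) : T ⊔ Wc M ≤ M)).toEquiv]
  exact (card_mul_index _).symm

/-- The contradiction. -/
theorem contradiction : False := by
  classical
  haveI : Fact (Nat.Prime 2) := ⟨Nat.prime_two⟩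
  obtain ⟨g0, hg0⟩ : ∃ g : G, g ∉ M := by
    by_contra hno
    push Not at hno
    exact h.se.1 (eq_top_iff.2 fun g _ => hno g)
  set x := (g0 : G ⧸ M) with hxdef
  have hx : x ≠ base M := fun e' => hg0 (by
    have := QuotientGroup.eq.1 e'
    simpa using this)
  obtain ⟨u, hu, hux, hxu⟩ := exists_swapper h.se hx
  obtain ⟨K, hK, hKn, hcard, hcop⟩ := e.exists_kernel h hT hx
  set Q := T ⊔ K with hQ
  have hQM : Q ≤ M := sup_le hT.1 (hK.trans (Wc_le M))
  have hTK : T ≤ normalizer (K : Set G) := hT.1.trans hKn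
  have hinf : Q ⊓ MulAction.stabilizer G x = ⊥ := by
    refine eq_bot_iff.2 fun y hy => mem_bot.2 ?_
    obtain ⟨hyQ, hyx⟩ := mem_inf.1 hy
    have ho := TwoGroups.SE.odd_orderOf_of_fixes h.se hx.symm (smul_base_eq_iff.2 (hQM hyQ))
      (mem_stabilizer_iff.1 hyx)
    have hyW := Ctx.mem_TW_odd hT (sup_le_sup_left hK T hyQ) ho
    obtain ⟨τ, hτ, k, hk, rfl⟩ := (Core.mem_sup_iff_mul hTK).1 hyQ
    have hτ1 : τ = 1 := Ctx.eq_one_of_mem hT hτ (by
      have := mul_mem hyW (inv_mem (hK hk))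
      rwa [mul_inv_cancel_right] at this)
    subst hτ1
    rw [one_mul] at hyx ⊢
    exact mem_bot.1 ((disjoint_of_coprime_natCard hcop).le_bot ⟨hk, hK hk, hyx⟩)
  have hQc : Nat.card Q = Nat.card T * Nat.card K :=
    Core.card_sup_of_disjoint T K hTK (le_bot_iff.1 ((inf_le_inf_left T hK).trans_eq (Ctx.inf_W hT)))
  set D := M ⊓ MulAction.stabilizer G x with hD
  have hdec : ∀ m ∈ M, ∃ y ∈ Q, ∃ d ∈ D, m = y * d := by
    have hb : Function.Bijective fun p : ↥Q × ↥D =>
        (⟨(p.1 : G) * p.2, mul_mem (hQM p.1.2) p.2.2.1⟩ : ↥M) := by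
      rw [Nat.bijective_iff_injective_and_card]
      refine ⟨fun p p' e' => ?_, ?_⟩
      · have e1 : (p.1 : G) * p.2 = p'.1 * p'.2 := congrArg Subtype.val e'
        have h2 : (p'.1 : G)⁻¹ * p.1 = p'.2 * (p.2 : G)⁻¹ := by
          rw [eq_mul_inv_iff_mul_eq, mul_assoc, e1, inv_mul_cancel_left]
        have h3 : (p'.1 : G)⁻¹ * p.1 = 1 := mem_bot.1 (hinf.le (mem_inf.2
          ⟨mul_mem (inv_mem p'.1.2) p.1.2, h2 ▸ (mem_inf.1 (mul_mem p'.2.2 (inv_mem p.2.2))).2⟩))
        have h4 : (p.1 : G) = p'.1 := (inv_mul_eq_one.1 h3).symm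
        rw [h4] at e1
        exact Prod.ext (Subtype.ext h4) (Subtype.ext (mul_left_cancel e1))
      · rw [Nat.card_prod, hQc, hD, e.card_stab_two h hT hx, e.card_TW h hT, ← hcard]
        ring
    intro m hm
    obtain ⟨⟨y, d⟩, hyd⟩ := hb.2 ⟨m, hm⟩
    exact ⟨y, y.2, d, d.2, (congrArg Subtype.val hyd).symm⟩
  have htr : ∀ y z : G ⧸ M, y ≠ base M → z ≠ base M → ∃ m ∈ M, m • y = z := e.trans
  have htwo : IsMultiplyPretransitive G (G ⧸ M) 2 := by
    refine is_two_pretransitive_iff.2 fun {b₁ b₂ c₁ c₂} hb hc => ?_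
    obtain ⟨g, hg⟩ := exists_smul_eq G b₁ (base M)
    obtain ⟨g', hg'⟩ := exists_smul_eq G c₁ (base M)
    obtain ⟨m, hm, hmx⟩ := htr (g • b₂) (g' • c₂)
      (fun e' => hb (smul_left_cancel g (hg.trans e'.symm)))
      (fun e' => hc (smul_left_cancel g' (hg'.trans e'.symm)))
    refine ⟨g'⁻¹ * m * g, ?_, ?_⟩
    · rw [mul_smul, mul_smul, hg, smul_base_eq_iff.2 hm, ← hg', inv_smul_smul]
    · rw [mul_smul, mul_smul, hmx, inv_smul_smul]
  have hTeven : Even (Nat.card T) := by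
    obtain ⟨a, ha, ha2⟩ := exists_involution_of_elem (h.invSub_elem hT)
      (by have := h.eight_le_invSub hT; omega)
    exact even_iff_two_dvd.2 (ha2 ▸ T.orderOf_dvd_natCard (h.invSub_le hT ha))
  have hS : Cfsg.IsRankOneSetup G (G ⧸ M) (base M) u Q :=
    { two_transitive := htwo
      mul_self := involution_sq hu
      ne_one := involution_ne_one hu
      not_mem := fun hm => hx (hux.symm.trans (mem_stabilizer_iff.1 hm))
      le := (stab_base M).symm ▸ hQM
      conj_mem := fun m hm y hy =>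
        (mem_normalizer_iff.1 (e.normal_KT h hT hx hK hKn hcard ((stab_base M) ▸ hm)) y).1 hy
      inf_eq_bot := by rw [hux]; exact hinf
      sup_eq := by
        rw [hux, stab_base]
        refine le_antisymm (sup_le hQM inf_le_left) fun m hm => ?_
        obtain ⟨y, hy, d, hd, rfl⟩ := hdec m hm
        exact mul_mem_sup hy hd
      even_card := by rw [hQc]; exact hTeven.mul_right _
      odd_card := by rw [hux, stab_base]; exact e.odd_stab_two h hT hx }
  haveI := CfsgLib.CIT.FrobSystem.simple_faithful (M := M) h.se.1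
  have h2 : ∃ a b : G, a ≠ 1 ∧ b ≠ 1 ∧ a ≠ b ∧ a * a = 1 ∧ b * b = 1 ∧ a * b = b * a := by
    have h8 := h.eight_le_invSub hT
    haveI : Fintype ↥(invSub T) := Fintype.ofFinite _
    obtain ⟨a, b, c, -, -, -, hab, hac, hbc⟩ := (Finset.two_lt_card_iff (s :=
      (Finset.univ : Finset ↥(invSub T)))).1 (by
        rw [Finset.card_univ, ← Nat.card_eq_fintype_card]; omega)
    have hE := h.invSub_elem hT
    have key : ∀ a b : ↥(invSub T), a ≠ 1 → b ≠ 1 → a ≠ b →
        ∃ a b : G, a ≠ 1 ∧ b ≠ 1 ∧ a ≠ b ∧ a * a = 1 ∧ b * b = 1 ∧ a * b = b * a := fun a b ha hb hab =>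
      ⟨a, b, fun h' => ha (Subtype.ext h'), fun h' => hb (Subtype.ext h'), fun h' => hab (Subtype.ext h'),
        hE _ a.2, hE _ b.2, hE.comm a.2 b.2⟩
    by_cases ha : a = 1
    · exact key b c (fun h' => hab (ha.trans h'.symm)) (fun h' => hac (ha.trans h'.symm)) hbc
    by_cases hb : b = 1
    · exact key a c ha (fun h' => hbc (hb.trans h'.symm)) hac
    · exact key a b ha hb hab
  obtain ⟨n, -, hn⟩ := Lie.RankOneClass.exists_pow_two hS h2
  have hpow : ∃ j, Nat.card Q = 2 ^ j := by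
    rcases Lie.RankOneClass.shape_all _ G (G ⧸ M) (base M) u Q rfl hS h2 with
      hs | ⟨-, hs | ⟨hs, -⟩⟩ <;> rw [hs, hn]
    exacts [⟨n, rfl⟩, ⟨n * 2, (pow_mul 2 n 2).symm⟩, ⟨n * 3, (pow_mul 2 n 3).symm⟩]
  obtain ⟨j, hj⟩ := hpow
  have hK1 : Nat.card K = 1 := Nat.eq_one_of_dvd_coprimes
    ((odd_Wc M).coprime_two_left.pow_left j) (hj ▸ hQc ▸ dvd_mul_left _ _) (card_dvd_of_le hK)
  rw [hK1, one_mul] at hcard
  exact e.Ux_ne h hT hx (eq_of_le_of_card_ge inf_le_left hcard.ge)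

end Endgame

/-- The facts of `Endgame` refute a minimal configuration. -/
theorem Ctx.false_of_endgame [IsSimpleGroup G] {M : Subgroup G} (h : Ctx M) (e : Endgame M) : False := by
  haveI : Fact (Nat.Prime 2) := ⟨Nat.prime_two⟩
  obtain ⟨T, hT, -⟩ := exists_isSyl (bot_le : (⊥ : Subgroup G) ≤ M) IsPGroup.of_bot
  exact e.contradiction h hT

end CfsgLib.InvCent
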