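import Cfsg.Agent.Lib.InvCentTwoNilp.Full

/-!
# Interfaces of the parts of the proof of S3214

Owner: helper5.
-/

set_option autoImplicit false
set_option linter.unusedSectionVars false

namespace CfsgLib.InvCent

open Subgroup

universe u

/-- There is no minimal configuration. -/
def NoCtx : Prop :=
  ∀ (G : Type u) [Group G] [Finite G] [IsSimpleGroup G] (M : Subgroup G), Ctx M → False

variable {G : Type u} [Group G]

/-- What the local analysis of a minimal configuration yields for the final Frobenius argument. -/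
structure Endgame (M : Subgroup G) : Prop where
  /-- `M` is transitive on the other points. -/
  trans : ∀ x y : G ⧸ M, x ≠ base M → y ≠ base M → ∃ m ∈ M, m • x = y
  /-- `W ∩ M_x ≤ W_x`. -/
  stab_W : ∀ x : G ⧸ M, x ≠ base M → ∀ w ∈ Wc M, w • x = x → w ∈ Wp M x
  /-- The involutions of `M` centralise `W`. -/
  cent : ∀ t ∈ M, orderOf t = 2 → ∀ w ∈ Wc M, t * w = w * t
  /-- Good primes do not divide two point stabilisers in `W`. -/
  good : ∀ p : ℕ, p.Prime → ∀ P : Subgroup G, SylP p P (Wc M) → normalizer (P : Set G) ≤ M →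
    ∀ x : G ⧸ M, x ≠ base M → ∀ w ∈ Wc M, w • x = x → orderOf w = p → False
  /-- Bad Sylow subgroups are cyclic and centralised by the 2-elements normalising them. -/
  bad : ∀ p : ℕ, p.Prime → ∀ P : Subgroup G, SylP p P (Wc M) → ¬ normalizer (P : Set G) ≤ M →
    IsCyclic P ∧ ∀ g ∈ normalizer (P : Set G), ∀ k : ℕ, orderOf g = 2 ^ k →
      g ∈ centralizer (P : Set G)

/-- What the analysis of the bad primes yields: the prime divisors of `q - 1`. -/
structure PureFacts (M T : Subgroup G) : Prop where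
  /-- `M` is transitive on the other points. -/
  trans : ∀ x y : G ⧸ M, x ≠ base M → y ≠ base M → ∃ m ∈ M, m • x = y
  /-- `M` controls fusion into `W` for the primes dividing `q - 1`. -/
  fus : ∀ p : ℕ, p.Prime → p ∣ Nat.card (invSub T) - 1 → ∀ h ∈ M, (∃ k, orderOf h = p ^ k) →
    ∀ g : G, g * h * g⁻¹ ∈ Wc M → h ∈ Wc M
  /-- Swappers invert no element of such order in `W`. -/
  real_W : ∀ p : ℕ, p.Prime → p ∣ Nat.card (invSub T) - 1 → ∀ x : G ⧸ M, x ≠ base M → ∀ u : G,
    orderOf u = 2 → u • base M = x → ∀ v ∈ Wc M, v • x = x → orderOf v = p → u * v * u⁻¹ ≠ v⁻¹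
  /-- Inverted elements of such order outside `W` fix two points only. -/
  pair : ∀ p : ℕ, p.Prime → p ∣ Nat.card (invSub T) - 1 → ∀ x : G ⧸ M, x ≠ base M → ∀ u : G,
    orderOf u = 2 → u • base M = x → ∀ d ∈ M, d • x = x → d ∉ Wc M → orderOf d = p →
    u * d * u⁻¹ = d⁻¹ → ∀ z : G ⧸ M, d • z = z → z = base M ∨ z = x
  /-- Bad Sylow subgroups are cyclic and centralised by the 2-elements normalising them. -/
  bad : ∀ p : ℕ, p.Prime → ∀ P : Subgroup G, SylP p P (Wc M) → ¬ normalizer (P : Set G) ≤ M →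
    IsCyclic P ∧ ∀ g ∈ normalizer (P : Set G), ∀ k : ℕ, orderOf g = 2 ^ k →
      g ∈ centralizer (P : Set G)

end CfsgLib.InvCent
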