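import Cfsg.Agent.Lib.InvCentTwoNilp.G4Setup
import Cfsg.Agent.Lib.Char.CyclicTI.FrobeniusFormula

/-!
# The endgame facts of a minimal configuration (S3214)

For a good prime the fixed point formulas for `A⟨k⟩` and `⟨k, u⟩` show that an involution centralises a Sylow
subgroup of `W`; hence all involutions of `M` centralise `W`, and good elements of `W` fix one point only.
-/

set_option autoImplicit false
set_option linter.unusedSectionVars false
set_option linter.style.haveILetI false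

namespace CfsgLib.InvCent

open Subgroup CfsgLib.CIT
open CfsgLib.Signalizer (involution_sq involution_inv involution_ne_one orderOf_eq_two_of orderOf_conj)
open CfsgLib.TwoGroups.SE (smul_mk_eq_iff)

universe u

variable {G : Type u} [Group G] [Finite G]

theorem isPGroup_card_eq {p : ℕ} [hp : Fact p.Prime] {X : Subgroup G} (hX : IsPGroup p X) :
    Nat.card X = p ^ (Nat.card X).factorization p := by
  obtain ⟨n, hn⟩ := hX.exists_card_eq
  rw [hn, hp.out.factorization_pow, Finsupp.single_eq_same]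

theorem SylP.factorization_eq {p : ℕ} [hp : Fact p.Prime] {P X : Subgroup G} (hP : SylP p P X) :
    (Nat.card P).factorization p = (Nat.card X).factorization p := by
  rw [hP.card, hp.out.factorization_pow, Finsupp.single_eq_same]

theorem commutator_conj {L W : Subgroup G} (hn : W ≤ normalizer (L : Set G)) {b : G} (hb : orderOf b = 2)
    (h : ∀ w ∈ W, w⁻¹ * (b * w * b⁻¹) ∈ L) {w : G} (hw : w ∈ W) : b * (w * b * w⁻¹) ∈ L := by
  have h1 := (mem_normalizer_iff.1 (hn hw) _).1 (h w hw)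
  have e : b * (w * b * w⁻¹) = w * (w⁻¹ * (b * w * b⁻¹)) * w⁻¹ := by
    rw [involution_inv hb]; group
  rwa [e]

variable [IsSimpleGroup G] {M T : Subgroup G}

namespace Ctx

variable (h : Ctx M) (hT : IsSyl T M)
include h hT

/-- The involutions of `M` form `q - 1` classes of `W`. -/
theorem card_involutions_mul {b : G} (hbM : b ∈ M) (hb : orderOf b = 2) :
    Nat.card {t : G // orderOf t = 2 ∧ t ∈ M} * Nat.card (Wc M ⊓ centralizer {b} : Subgroup G) =
      (Nat.card (invSub T) - 1) * Nat.card (Wc M) := by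
  haveI : Fact (Nat.Prime 2) := ⟨Nat.prime_two⟩
  obtain ⟨T', hT', hle⟩ := exists_isSyl (zpowers_le.2 hbM)
    (IsPGroup.of_card (p := 2) (n := 1) (by rw [Nat.card_zpowers, hb, pow_one]))
  have hbT : b ∈ T' := hle (mem_zpowers b)
  have h1 := card_eq_card_cent_mul (K := M) (t := b) (S := {t : G | orderOf t = 2 ∧ t ∈ M})
    (fun m hm => ⟨(orderOf_conj m b).trans hb, M.mul_mem (M.mul_mem hm hbM) (M.inv_mem hm)⟩)
    (fun t ht => h.conj_M hbM hb ht.2 ht.1)
  set C := Wc M ⊓ centralizer ({b} : Set G) with hC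
  have hTC : T' ≤ normalizer (C : Set G) := by
    intro τ hτ
    rw [mem_normalizer_iff_cj, hC, CIT.cj, map_inf_eq _ _ _ (MulAut.conj τ).injective]
    exact congrArg₂ (· ⊓ ·) (mem_normalizer_iff_cj.1 (T_le_norm hT' hτ))
      (mem_normalizer_iff_cj.1 (le_normalizer (mem_cent.2 (h.comm_T hT' hb hbT hτ))))
  have hcent : M ⊓ centralizer ({b} : Set G) = T' ⊔ C := by
    refine le_antisymm (fun m hm => ?_) (sup_le (fun τ hτ => mem_inf.2 ⟨hT'.1 hτ,
      mem_cent.2 (h.comm_T hT' hb hbT hτ)⟩) (inf_le_inf_right _ (Wc_le M)))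
    have hmb := mem_cent.1 hm.2
    have h2 := h.mem_TW_of_conj hT' hm.1 hbM hb (by
      rw [show m * b * m⁻¹ = b by rw [hmb, mul_inv_cancel_right], involution_sq hb]; exact one_mem _)
    obtain ⟨τ, hτ, w, hw, rfl⟩ := (Core.mem_sup_iff_mul (T_le_norm hT')).1 h2
    refine mul_mem_sup hτ (mem_inf.2 ⟨hw, mem_cent.2 ?_⟩)
    have h3 := h.comm_T hT' hb hbT hτ
    calc w * b = τ⁻¹ * (τ * w * b) := by group
      _ = τ⁻¹ * (b * τ) * w := by rw [hmb]; group
      _ = b * w := by rw [← h3]; group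
  have hdisj : T' ⊓ C = ⊥ := le_bot_iff.1 ((inf_le_inf_left T' inf_le_left).trans_eq (Ctx.inf_W hT'))
  rw [hcent, Core.card_sup_of_disjoint _ _ hTC hdisj] at h1
  have h2 : Nat.card M = Nat.card T' * Nat.card (Wc M) * (Nat.card (invSub T') - 1) := by
    rw [← h.relIndex_TW hT', ← Core.card_sup_of_disjoint T' (Wc M) (T_le_norm hT') (Ctx.inf_W hT'),
      ← Nat.card_congr (subgroupOfEquivOfLe (sup_le hT'.1 (Wc_le M) : T' ⊔ Wc M ≤ M)).toEquiv]
    exact (card_mul_index _).symm
  rw [h2, h.card_invSub_eq hT hT', mul_assoc, mul_assoc] at h1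
  have h3 := Nat.eq_of_mul_eq_mul_left Nat.card_pos h1
  rw [mul_comm (Nat.card (invSub T) - 1), h3]
  exact mul_comm _ _

/-- The classes of a swapper under `U` and of an involution of `M` under `W` have equal size. -/
theorem card_identity (pf : PureFacts M T) {x : G ⧸ M} (hx : x ≠ base M) {u : G} (hu : orderOf u = 2)
    (hua : u • base M = x) {b : G} (hbM : b ∈ M) (hb : orderOf b = 2) :
    Nat.card (Ux M x) * Nat.card (Wc M ⊓ centralizer {b} : Subgroup G) =
      Nat.card (Ux M x ⊓ centralizer {u} : Subgroup G) * Nat.card (Wc M) := by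
  have hxu := smul_back hu hua
  have h1 := card_eq_card_cent_mul (K := DD M x) (t := u) (S := {i : G | orderOf i = 2 ∧ i • base M = x})
    (fun d hd => ⟨(orderOf_conj d u).trans hu, by
      rw [mul_smul, mul_smul, inv_smul_eq_iff.2 (smul_base_eq_iff.2 hd.1).symm, hua, hd.2]⟩)
    (fun i hi => by
      refine exists_conj_of_mul_mem (h.odd_DD hx) hu hi.1 ⟨smul_base_eq_iff.1 ?_, ?_⟩
      · rw [mul_smul, hi.2, hxu]
      · show (u * i) • x = x
        rw [mul_smul, smul_back hi.1 hi.2, hua])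
  have hcu : DD M x ⊓ centralizer ({u} : Set G) = Ux M x ⊓ centralizer ({u} : Set G) :=
    le_antisymm (fun d hd => mem_inf.2 ⟨h.swap_centralized hT pf hx hu hd.1 (mem_cent.1 hd.2), hd.2⟩)
      (inf_le_inf_right _ fun w hw => ⟨Wc_le M (mem_Ux.1 hw).1, (mem_Ux.1 hw).2⟩)
  have hsw : Nat.card {i : G | orderOf i = 2 ∧ i • base M = x} = Nat.card {t : G // orderOf t = 2 ∧ t ∈ M} :=
    TwoGroups.SE.card_swapping h.se _ _ hx.symm
  have h2 := h.card_involutions_mul hT hbM hb
  rw [h.card_DD hT hx, hcu, hsw] at h1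
  have hι : 0 < Nat.card (invSub T) - 1 := by have := h.eight_le_invSub hT; omega
  refine Nat.eq_of_mul_eq_mul_right hι ?_
  calc _ = Nat.card (Ux M x) * (Nat.card (invSub T) - 1) * Nat.card (Wc M ⊓ centralizer {b} : Subgroup G) := by
        ring
    _ = _ := by rw [h1, mul_assoc, h2]; ring

/-- Sylow subgroups for the primes of `q - 1` are centralised by the involutions of `M` normalising them. -/
theorem exists_fixed_sylow (pf : PureFacts M T) {r : ℕ} (hr : r.Prime)
    (hdvd : r ∣ Nat.card (invSub T) - 1) {b : G} (hbM : b ∈ M) (hb : orderOf b = 2) :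
    ∃ R, SylP r R (Wc M) ∧ ∀ y ∈ R, b * y = y * b := by
  haveI : Fact r.Prime := ⟨hr⟩
  obtain ⟨R, hR, hRb⟩ := exists_invariant_sylP (p := r) (A := zpowers b)
    (zpowers_le.2 (Wc_normalized M hbM))
    (by rw [Nat.card_zpowers, hb]; exact (odd_Wc M).coprime_two_left) (odd_Wc M)
  refine ⟨R, hR, fun y hy => ?_⟩
  by_cases hR1 : R = ⊥
  · have hy1 : y = 1 := mem_bot.1 (hR1 ▸ hy)
    rw [hy1, mul_one, one_mul]
  have hbad := fun hg => h.not_good_of_dvd hT hR hR1 hg hdvd
  exact (mem_centralizer_iff.1 ((pf.bad r hr R hR hbad).2 b (hRb (mem_zpowers b)) 1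
    (by rw [hb, pow_one])) y hy).symm

theorem comm_mem_H (pf : PureFacts M T) {b : G} (hbM : b ∈ M) (hb : orderOf b = 2) {w : G} (hw : w ∈ Wc M) :
    w⁻¹ * (b * w * b⁻¹) ∈ Oc (Nat.card (invSub T) - 1) (Wc M) :=
  comm_mem_Oc (odd_Wc M) hb (Wc_normalized M hbM)
    (fun _ hr hd => h.exists_fixed_sylow hT pf hr hd hbM hb) hw

/-- The torus normalises the involution group of some Sylow 2-subgroup of `M`. -/
theorem exists_torus_syl (pf : PureFacts M T) {k : G} (hkM : k ∈ M)
    (hko : orderOf k = Nat.card (invSub T) - 1) :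
    ∃ T', IsSyl T' M ∧ k ∈ normalizer (invSub T' : Set G) := by
  classical
  haveI : Fact (Nat.Prime 2) := ⟨Nat.prime_two⟩
  set ι := Nat.card (invSub T) - 1 with hι
  set A := invSub T with hA
  set H := Oc ι (Wc M) with hH
  have hMH : M ≤ normalizer (H : Set G) := (Wc_normalized M).trans (normalizer_le_Oc _ _)
  have hAM : A ≤ M := (h.invSub_le hT).trans hT.1
  have hAH : A ≤ normalizer (H : Set G) := hAM.trans hMH
  set AH := A ⊔ H with hAHdef
  have hHo : Odd (Nat.card H) := (odd_Wc M).of_dvd_nat (card_dvd_of_le (Oc_le _ _))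
  obtain ⟨m, hm⟩ := (h.invSub_elem hT).card_two_pow
  have hcard : Nat.card AH = Nat.card A * Nat.card H := Core.card_sup_of_coprime A H hAH
    ((h.invSub_elem hT).coprime hHo)
  have hk : k ∈ normalizer (AH : Set G) := by
    refine mem_normalizer_iff_cj.2 (eq_of_le_of_card_ge ?_ (card_cj _ _).ge)
    rw [hAHdef, CIT.cj, Subgroup.map_sup]
    refine sup_le ?_ ((mem_normalizer_iff_cj.1 (hMH hkM)).le.trans le_sup_right)
    rintro _ ⟨a, ha, rfl⟩
    show k * a * k⁻¹ ∈ A ⊔ H
    by_cases ha1 : a = 1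
    · rw [ha1, mul_one, mul_inv_cancel]; exact one_mem _
    have hao := (h.invSub_elem hT).orderOf_eq ha ha1
    have ha'M : k * a * k⁻¹ ∈ M := M.mul_mem (M.mul_mem hkM (hAM ha)) (M.inv_mem hkM)
    obtain ⟨v, hv, hva, hva1⟩ := h.exists_conj_invSub hT ha'M ((orderOf_conj k a).trans hao)
    set a0 := v * (k * a * k⁻¹) * v⁻¹ with ha0
    have ha0o : orderOf a0 = 2 := (orderOf_conj _ _).trans ((orderOf_conj k a).trans hao)
    have h1 := h.comm_mem_H hT pf (hAM hva) ha0o (inv_mem hv)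
    rw [inv_inv] at h1
    have h2 : a0 * (v⁻¹ * a0 * v⁻¹⁻¹) ∈ H :=
      commutator_conj ((Wc_le M).trans hMH) ha0o (fun w hw => h.comm_mem_H hT pf (hAM hva) ha0o hw) (inv_mem hv)
    rw [show k * a * k⁻¹ = a0⁻¹ * (a0 * (v⁻¹ * a0 * v⁻¹⁻¹)) by rw [ha0]; group]
    exact mul_mem (mem_sup_left (inv_mem hva)) (mem_sup_right h2)
  obtain ⟨P, hP⟩ := Core.exists_invariant_sylow (A := zpowers k) (K := AH) (zpowers_le.2 hk) (by
      rw [Nat.card_zpowers, hko, hcard]
      refine Nat.Coprime.mul_right ?_ (coprime_Oc _).symm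
      rw [hm]
      exact ((h.ibar_facts hT).2.coprime_two_right).pow_right m)
    (Or.inl inferInstance) 2
  have hs : SylP 2 A AH := ⟨le_sup_left, by
    rw [hcard, Nat.factorization_mul Nat.card_pos.ne' Nat.card_pos.ne', Finsupp.add_apply,
      Nat.factorization_eq_zero_of_not_dvd hHo.not_two_dvd_nat, add_zero]
    exact isPGroup_card_eq (h.invSub_elem hT).isPGroup⟩
  obtain ⟨g, hg, hge⟩ := hs.exists_conj (sylP_of_sylow P)
  have hgM : g ∈ M := sup_le hAM ((Oc_le _ _).trans (Wc_le M)) hg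
  refine ⟨cj g T, ?_, ?_⟩
  · have h' := hT.cj g
    rwa [mem_normalizer_iff_cj.1 (le_normalizer hgM)] at h'
  · rw [invSub_cj, hge]
    exact hP (mem_zpowers k)

set_option maxHeartbeats 800000 in
/-- For a good prime the involutions of `M` centralise Sylow subgroups of `W`. -/
theorem good_factorization (pf : PureFacts M T) {p : ℕ} [hp : Fact p.Prime] {Q : Subgroup G}
    (hQ : SylP p Q (Wc M)) (hgood : normalizer (Q : Set G) ≤ M) (hQ1 : Q ≠ ⊥) {t : G} (htM : t ∈ M)
    (ht : orderOf t = 2) :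
    (Nat.card (Wc M ⊓ centralizer {t} : Subgroup G)).factorization p = (Nat.card (Wc M)).factorization p := by
  classical
  obtain ⟨x, hx⟩ := h.exists_ne_base
  obtain ⟨u, hu, hua, -⟩ := h.exists_swapper hx.symm
  obtain ⟨k, hkD, hko, hki, hkfix⟩ := h.exists_torus hT pf hx hu hua
  obtain ⟨T', hT', hkA⟩ := h.exists_torus_syl hT pf hkD.1 hko
  set ι := Nat.card (invSub T) - 1 with hι
  set A := invSub T' with hA
  have hAq : Nat.card A = Nat.card (invSub T) := h.card_invSub_eq hT hT'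
  have hAel : Elem A := h.invSub_elem hT'
  have hAM : A ≤ M := (h.invSub_le hT').trans hT'.1
  obtain ⟨m, hm⟩ := hAel.card_two_pow
  have h8 : 8 ≤ 2 ^ m := by rw [← hm, hAq]; exact h.eight_le_invSub hT
  have hm3 : 3 ≤ m := (Nat.pow_le_pow_iff_right one_lt_two).1 (show 2 ^ 3 ≤ 2 ^ m by norm_num; omega)
  have hιm : ι = 2 ^ m - 1 := by rw [hι, ← hAq, hm]
  have hιodd : Odd ι := (h.ibar_facts hT).2
  have hι7 : 7 ≤ ι := (h.ibar_facts hT).1
  have hpι : ¬ p ∣ ι := fun hd => h.not_good_of_dvd hT hQ hQ1 hgood hd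
  obtain ⟨z1, hz1, hz1o⟩ := exists_orderOf_eq hQ.isPGroup hQ1
  have hp2 : p ≠ 2 := ne_two_of_mem (hQ.le hz1) hz1o
  set K := zpowers k with hK
  have hKc : Nat.card K = ι := by rw [hK, Nat.card_zpowers, hko]
  have hKM : K ≤ M := zpowers_le.2 hkD.1
  -- regular action
  have hreg : ∀ y ∈ K, y ≠ 1 → ∀ b ∈ A, y * b = b * y → b = 1 := by
    intro y hy hy1 b hb hyb
    by_contra hb1
    have hb2 := hAel.orderOf_eq hb hb1
    have hyx : y • x = x := (zpowers_le.2 hkD.2 : K ≤ MulAction.stabilizer G x) hy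
    rcases hkfix y hy hy1 (b • x) (by rw [← mul_smul, hyb, mul_smul, hyx]) with e | e
    · exact hx ((smul_left_cancel b (e.trans (smul_base_eq_iff.2 (hAM hb)).symm)))
    · exact hx (TwoGroups.SE.fixed_unique h.se hb2 e (smul_base_eq_iff.2 (hAM hb)))
  -- the cores
  set H := Oc ι (Wc M) with hH
  set U := Ux M x with hU
  have hUW : U ≤ Wc M := fun w hw => (mem_Ux.1 hw).1
  set U0 := Oc ι U with hU0
  have hUodd : Odd (Nat.card U) := odd_Ux M x
  have hun : u ∈ normalizer (U : Set G) := h.swap_norm_Ux hT pf hx hu hua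
  have hkn : k ∈ normalizer (U : Set G) := DD_norm_Ux hkD
  have hucomm : ∀ w ∈ U, w⁻¹ * (u * w * u⁻¹) ∈ U0 := fun w hw => by
    refine comm_mem_Oc hUodd hu hun (fun r hr hd => ?_) hw
    haveI : Fact r.Prime := ⟨hr⟩
    obtain ⟨R, hR, hRu⟩ := exists_invariant_sylP (p := r) (A := zpowers u) (zpowers_le.2 hun)
      (by rw [Nat.card_zpowers, hu]; exact hUodd.coprime_two_left) hUodd
    refine ⟨R, hR, fun y hy => ?_⟩
    obtain ⟨c, -, v, hv, huc, huv, e, -⟩ := exists_centralized_mul_inverted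
      (hUodd.of_dvd_nat (card_dvd_of_le hR.le)) hu (hRu (mem_zpowers u)) hy
    have hv1 : v = 1 := by
      by_contra hne
      obtain ⟨i, hi⟩ := exists_orderOf_pow hR.isPGroup hv
      obtain ⟨j, hj⟩ := exists_pow_orderOf hi hne
      exact pf.real_W r hr hd x hx u hu hua (v ^ j) (pow_mem (hUW (hR.le hv)) j)
        (pow_mem (MulAction.mem_stabilizer_iff.2 (mem_Ux.1 (hR.le hv)).2 : v ∈ MulAction.stabilizer G x) j) hj
        (by rw [← conj_pow, huv, inv_pow])
    rw [e, hv1, inv_one, mul_one, huc]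
  -- the group generated by `k` and `u`
  have huK : zpowers u ≤ normalizer (K : Set G) := zpowers_le.2 (by
    rw [mem_normalizer_iff_cj, hK, CIT.cj, MonoidHom.map_zpowers]
    show zpowers (u * k * u⁻¹) = _
    rw [hki, zpowers_inv])
  have hcKu : Nat.card ↥(K ⊔ zpowers u) = ι * 2 := by
    rw [sup_comm, Core.card_sup_of_coprime _ _ huK, Nat.card_zpowers, hu, hKc, mul_comm]
    rw [Nat.card_zpowers, hu, hKc]; exact hιodd.coprime_two_left
  have hU0odd : Odd (Nat.card U0) := hUodd.of_dvd_nat (card_dvd_of_le (Oc_le _ _))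
  have hU0n : K ⊔ zpowers u ≤ normalizer (U0 : Set G) :=
    (sup_le (zpowers_le.2 hkn) (zpowers_le.2 hun)).trans (normalizer_le_Oc _ _)
  have hcop0 : (Nat.card ↥(K ⊔ zpowers u)).Coprime (Nat.card U0) := by
    rw [hcKu]; exact (coprime_Oc _).symm.mul_left hU0odd.coprime_two_left
  obtain ⟨Op, hOp, hOpn⟩ := exists_invariant_sylP (p := p) hU0n hcop0 hU0odd
  have hOpU : Op ≤ U := hOp.le.trans (Oc_le _ _)
  -- the subgroup `L`
  set L := H ⊔ Op with hL
  have hMH : M ≤ normalizer (H : Set G) := (Wc_normalized M).trans (normalizer_le_Oc _ _)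
  have hHW : H ≤ Wc M := Oc_le _ _
  have hLW : L ≤ Wc M := sup_le hHW (hOpU.trans hUW)
  have hLodd : Odd (Nat.card L) := (odd_Wc M).of_dvd_nat (card_dvd_of_le hLW)
  have hOpH : Op ≤ normalizer (H : Set G) := (hOpU.trans hUW).trans ((Wc_le M).trans hMH)
  have hLι : (Nat.card L).Coprime ι := by
    refine Nat.Coprime.coprime_dvd_left (sup_comm H Op ▸ Core.card_sup_dvd Op H hOpH) ?_
    refine Nat.Coprime.mul_left ?_ (coprime_Oc _)
    rw [isPGroup_card_eq hOp.isPGroup]
    exact (hp.out.coprime_iff_not_dvd.2 hpι).pow_left _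
  have hcommA : ∀ b ∈ A, ∀ w ∈ Wc M, w⁻¹ * (b * w * b⁻¹) ∈ H := fun b hb w hw => by
    by_cases hb1 : b = 1
    · rw [hb1, one_mul, inv_one, mul_one, inv_mul_cancel]; exact one_mem _
    · exact h.comm_mem_H hT pf (hAM hb) (hAel.orderOf_eq hb hb1) hw
  have hAL : A ≤ normalizer (L : Set G) := fun b hb => by
    refine mem_normalizer_iff_cj.2 (eq_of_le_of_card_ge ?_ (card_cj _ _).ge)
    rw [hL, CIT.cj, Subgroup.map_sup]
    refine sup_le ((mem_normalizer_iff_cj.1 (hMH (hAM hb))).le.trans le_sup_left) ?_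
    rintro _ ⟨y, hy, rfl⟩
    show b * y * b⁻¹ ∈ H ⊔ Op
    rw [show b * y * b⁻¹ = y * (y⁻¹ * (b * y * b⁻¹)) by group]
    exact mul_mem (mem_sup_right hy) (mem_sup_left (hcommA b hb y (hUW (hOpU hy))))
  have hKL : K ≤ normalizer (L : Set G) := fun y hy =>
    mem_normalizer_sup (hMH (hKM hy)) (hOpn (mem_sup_left hy))
  have hKA : K ≤ normalizer (A : Set G) := zpowers_le.2 hkA
  have hcAK : Nat.card ↥(A ⊔ K) ∣ ι * Nat.card A := by
    rw [sup_comm, ← hKc]; exact Core.card_sup_dvd K A hKA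
  have hcop1 : (Nat.card ↥(A ⊔ K)).Coprime (Nat.card L) :=
    (hLι.symm.mul_left (hAel.coprime hLodd)).coprime_dvd_left hcAK
  obtain ⟨Q1, hQ1s, hQ1n⟩ := exists_invariant_sylP (p := p) (sup_le hAL hKL) hcop1 hLodd
  have hQ1W : Q1 ≤ Wc M := hQ1s.le.trans hLW
  -- no fixed points of the whole group
  have hCF : Q1 ⊓ centralizer ((A ⊔ K : Subgroup G) : Set G) = ⊥ := by
    by_contra hne
    obtain ⟨z, hz, hzo⟩ := exists_orderOf_eq (hQ1s.isPGroup.to_le inf_le_left) hne
    have hzW := hQ1W hz.1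
    have hzc := mem_centralizer_iff.1 hz.2
    have hzx : z • x = x := by
      have hk1 : k ≠ 1 := fun e => by rw [e, orderOf_one] at hko; omega
      have hfx : k • (z • x) = z • x := by
        rw [← mul_smul, hzc k (mem_sup_right (mem_zpowers k)), mul_smul, hkD.2]
      rcases hkfix k (mem_zpowers k) hk1 _ hfx with e | e
      · exact absurd (smul_left_cancel z (e.trans (smul_base_eq_iff.2 (Wc_le M hzW)).symm)) hx
      · exact e
    exact hx (h.good_fix hT hQ hgood hpι hzW hzo (h.hyp_invSub hT hT')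
      (fun b hb => hzc b (mem_sup_left hb)) hzx)
  set σ := (Nat.card (Q1 ⊓ centralizer (A : Set G) : Subgroup G)).factorization p with hσ
  set γ := (Nat.card (Q1 ⊓ centralizer (K : Set G) : Subgroup G)).factorization p with hγdef
  have hform : (Nat.card Q1).factorization p = γ * (2 ^ m - 1) + σ := by
    have e := CfsgLib.FrobFix.formula_subgroup A K Q1
      (Subgroup.inf_eq_bot_of_coprime (by rw [hKc, hm]; exact hιodd.coprime_two_left.pow_left m))
      (fun y hy a ha => (mem_normalizer_iff.1 (hKA hy) a).1 ha) hreg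
      (fun y hy a ha => (mem_normalizer_iff.1 (hQ1n hy) a).1 ha)
      (Cfsg.Agent.S0205.result (hLodd.of_dvd_nat (card_dvd_of_le hQ1s.le)))
      ((hcop1.coprime_dvd_right (card_dvd_of_le hQ1s.le)).symm)
    rw [hCF, card_bot, one_pow, one_mul, hKc] at e
    rw [e, Nat.factorization_mul (pow_ne_zero _ Nat.card_pos.ne') Nat.card_pos.ne', Nat.factorization_pow,
      Finsupp.add_apply, Finsupp.smul_apply, smul_eq_mul, ← hγdef, ← hσ, hιm, mul_comm]
  -- the involutions of `A` are conjugate under `K`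
  have hAQ1 : A ≤ normalizer (Q1 : Set G) := le_sup_left.trans hQ1n
  have hKQ1 : K ≤ normalizer (Q1 : Set G) := le_sup_right.trans hQ1n
  have htr : ∀ a ∈ A, a ≠ 1 → ∀ b ∈ A, b ≠ 1 →
      Nat.card (Q1 ⊓ centralizer ({a} : Set G) : Subgroup G) =
        Nat.card (Q1 ⊓ centralizer ({b} : Set G) : Subgroup G) := by
    intro a ha ha1 b hb hb1
    haveI := Fintype.ofFinite ↥A
    let f : ↥K → {c : ↥A // c ≠ 1} := fun y =>
      ⟨⟨y * a * (y : G)⁻¹, (mem_normalizer_iff.1 (hKA y.2) a).1 ha⟩,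
        fun e => ha1 (conj_eq_one_iff.1 (congrArg Subtype.val e))⟩
    have hf : Function.Injective f := fun y y' e => by
      have e' : (y : G) * a * (y : G)⁻¹ = y' * a * (y' : G)⁻¹ := congrArg (fun c => ((c.1 : ↥A) : G)) e
      by_contra hne
      refine ha1 (hreg ((y' : G)⁻¹ * y) (K.mul_mem (K.inv_mem y'.2) y.2)
        (fun h1 => hne (Subtype.ext (inv_mul_eq_one.1 h1).symm)) a ha ?_)
      calc (y' : G)⁻¹ * y * a = (y' : G)⁻¹ * (y * a * (y : G)⁻¹) * y := by group
        _ = a * ((y' : G)⁻¹ * y) := by rw [e']; group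
    have hcard : Nat.card ↥K = Nat.card {c : ↥A // c ≠ 1} := by
      rw [hKc, hι, ← hAq, Nat.card_eq_fintype_card, Nat.card_eq_fintype_card, Fintype.card_subtype_compl,
        Fintype.card_subtype_eq]
    obtain ⟨y, hy⟩ := ((Nat.bijective_iff_injective_and_card f).2 ⟨hf, hcard⟩).2
      ⟨⟨b, hb⟩, fun e => hb1 (congrArg Subtype.val e)⟩
    have hyb : (y : G) * a * (y : G)⁻¹ = b := congrArg (fun c => ((c.1 : ↥A) : G)) hy
    rw [← card_cj (y : G) (Q1 ⊓ centralizer ({a} : Set G)), CIT.cj, map_inf_eq _ _ _ (MulAut.conj _).injective]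
    rw [show Q1.map (MulAut.conj (y : G)).toMonoidHom = Q1 from mem_normalizer_iff_cj.1 (hKQ1 y.2)]
    suffices e : (centralizer ({a} : Set G)).map (MulAut.conj (y : G)).toMonoidHom = centralizer {b} by rw [e]
    ext z
    show z ∈ CIT.cj (y : G) (centralizer {a}) ↔ _
    rw [mem_cj, mem_cent, mem_cent, ← hyb]
    constructor <;> intro hh
    · calc z * ((y : G) * a * (y : G)⁻¹) = y * ((y : G)⁻¹ * z * y * a) * (y : G)⁻¹ := by group
        _ = (y : G) * a * (y : G)⁻¹ * z := by rw [hh]; group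
    · calc (y : G)⁻¹ * z * y * a = (y : G)⁻¹ * (z * ((y : G) * a * (y : G)⁻¹)) * y := by group
        _ = a * ((y : G)⁻¹ * z * y) := by rw [hh]; group
  obtain ⟨hinv, hhyp⟩ := fix_exponents (p := p) hAel hm (by omega)
    (hLodd.of_dvd_nat (card_dvd_of_le hQ1s.le)) hAQ1 htr (γ := γ) hform
  set Γ := γ * 2 ^ (m - 1) with hΓ
  obtain ⟨b, hb, hb2⟩ := exists_involution_of_elem hAel (by rw [hm]; omega)
  have hb1 := involution_ne_one hb2
  -- the class of `b` under `W`
  have hWb : (Nat.card (Wc M)).factorization p =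
      (Nat.card (Wc M ⊓ centralizer {b} : Subgroup G)).factorization p + Γ := by
    have h1 := card_class hLW hLodd hb2 (fun w hw => (le_sup_left : H ≤ L)
      (commutator_conj ((Wc_le M).trans hMH) hb2 (hcommA b hb) hw))
    have h2 := congrArg (fun n : ℕ => n.factorization p) h1
    simp only [Nat.factorization_mul Nat.card_pos.ne' Nat.card_pos.ne', Finsupp.add_apply] at h2
    have h3 : (Nat.card (L ⊓ centralizer {b} : Subgroup G)).factorization p =
        (Nat.card (Q1 ⊓ centralizer {b} : Subgroup G)).factorization p := by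
      have := (sylP_fix (B := zpowers b) (zpowers_le.2 (hAL hb))
        (by rw [Nat.card_zpowers, hb2]; exact hLodd.coprime_two_left) hLodd hQ1s
        (zpowers_le.2 (hAQ1 hb))).factorization_eq
      rw [centralizer_zpowers_eq] at this
      exact this.symm
    rw [h3, ← hQ1s.factorization_eq, hinv b hb hb1] at h2
    omega
  suffices hγ0 : γ = 0 by
    obtain ⟨c, hc, hce⟩ := h.conj_M (hAM hb) hb2 htM ht
    have : Wc M ⊓ centralizer ({t} : Set G) = CIT.cj c (Wc M ⊓ centralizer ({b} : Set G)) := by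
      rw [CIT.cj, map_inf_eq _ _ _ (MulAut.conj c).injective,
        show (Wc M).map (MulAut.conj c).toMonoidHom = Wc M from mem_normalizer_iff_cj.1 (Wc_normalized M hc),
        ← hce, InvCent.centralizer_conj]
    rw [this, card_cj, hWb, hΓ, hγ0, zero_mul, add_zero]
  by_contra hγ0
  -- the class of the swapper
  have hUu : (Nat.card Op).factorization p =
      (Nat.card (Op ⊓ centralizer {u} : Subgroup G)).factorization p + Γ := by
    have h1 := congrArg (fun n : ℕ => n.factorization p) (h.card_identity hT pf hx hu hua (hAM hb) hb2)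
    have h2 := congrArg (fun n : ℕ => n.factorization p) (card_class (Oc_le ι U) hU0odd hu
      (fun w hw => commutator_conj (le_normalizer.trans (normalizer_le_Oc ι U)) hu hucomm hw))
    simp only [Nat.factorization_mul Nat.card_pos.ne' Nat.card_pos.ne', Finsupp.add_apply] at h1 h2
    have h3 : (Nat.card (U0 ⊓ centralizer {u} : Subgroup G)).factorization p =
        (Nat.card (Op ⊓ centralizer {u} : Subgroup G)).factorization p := by
      have := (sylP_fix (B := zpowers u) (le_sup_right.trans hU0n)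
        (by rw [Nat.card_zpowers, hu]; exact hU0odd.coprime_two_left) hU0odd hOp
        (le_sup_right.trans hOpn)).factorization_eq
      rw [centralizer_zpowers_eq] at this
      exact this.symm
    rw [h3, ← hOp.factorization_eq] at h2
    rw [← hU] at h1
    omega
  -- the formula for `⟨k, u⟩`
  obtain ⟨e0, he0⟩ : ∃ e0, (Nat.card Op).factorization p + 2 * e0 =
      2 * (Nat.card (Op ⊓ centralizer {u} : Subgroup G)).factorization p +
        (Nat.card (Op ⊓ centralizer (K : Set G) : Subgroup G)).factorization p := by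
    refine ⟨(Nat.card (Op ⊓ centralizer ((K ⊔ zpowers u : Subgroup G) : Set G) : Subgroup G)).factorization p, ?_⟩
    have e := CfsgLib.FrobFix.formula_subgroup K (zpowers u) Op
      (Subgroup.inf_eq_bot_of_coprime (by rw [hKc, Nat.card_zpowers, hu]; exact hιodd.coprime_two_right))
      (fun y hy a ha => (mem_normalizer_iff.1 (huK hy) a).1 ha)
      (fun y hy hy1 a ha hc => by
        have hyu : y = u := by
          rcases (Elem.zpowers (involution_sq hu)).eq_or_eq_of_mem_zpowers (mem_zpowers u) hy with e | e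
          · exact absurd e hy1
          · exact e
        subst hyu
        obtain ⟨i, rfl⟩ := mem_zpowers_iff.1 ha
        have h1 : y * k ^ i * y⁻¹ = (k ^ i)⁻¹ := by rw [← conj_zpow, hki, inv_zpow]
        rw [hc, mul_inv_cancel_right] at h1
        exact ZStar.eq_one_of_odd_of_sq
          (odd_orderOf_of_mem (H := K) (by rw [hKc]; exact hιodd) (zpow_mem (mem_zpowers k) i))
          (by rw [pow_two]; nth_rw 1 [h1]; exact inv_mul_cancel _))
      (fun y hy a ha => (mem_normalizer_iff.1 (hOpn hy) a).1 ha)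
      (Cfsg.Agent.S0205.result (hU0odd.of_dvd_nat (card_dvd_of_le hOp.le)))
      ((hcop0.coprime_dvd_right (card_dvd_of_le hOp.le)).symm)
    rw [Nat.card_zpowers, hu, centralizer_zpowers_eq] at e
    have e' := congrArg (fun n : ℕ => n.factorization p) e
    simp only [Nat.factorization_mul (pow_ne_zero 2 Nat.card_pos.ne') Nat.card_pos.ne', Finsupp.add_apply,
      Nat.factorization_pow, Finsupp.smul_apply, smul_eq_mul] at e'
    omega
  have hgk : (Nat.card (Op ⊓ centralizer (K : Set G) : Subgroup G)).factorization p ≤ γ := by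
    have hS := sylP_fix (B := K) hKL (by rw [hKc]; exact hLι.symm) hLodd hQ1s hKQ1
    have h1 := hS.card_le (inf_le_inf_right _ (le_sup_right : Op ≤ L)) (hOp.isPGroup.to_le inf_le_left)
    rwa [isPGroup_card_eq (hOp.isPGroup.to_le (inf_le_left : Op ⊓ centralizer (K : Set G) ≤ Op)),
      isPGroup_card_eq hS.isPGroup, Nat.pow_le_pow_iff_right hp.out.one_lt] at h1
  -- a conjugate of `Op` meets the fixed points of a hyperplane
  obtain ⟨B, hBA, hBc⟩ : ∃ B ≤ A, Nat.card B = 2 ^ (m - 1) := by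
    haveI : Fact (Nat.Prime 2) := ⟨Nat.prime_two⟩
    obtain ⟨Y, hY⟩ := Sylow.exists_subgroup_card_pow_prime (n := m - 1) 2
      (hm ▸ pow_dvd_pow 2 (Nat.sub_le m 1) : 2 ^ (m - 1) ∣ Nat.card A)
    exact ⟨Y.map A.subtype, map_subtype_le Y, by rw [card_map_of_injective A.subtype_injective, hY]⟩
  have hY := hhyp B hBA hBc
  obtain ⟨w, hw, hwle⟩ := hQ1s.exists_conj_ge (le_sup_right : Op ≤ L) hOp.isPGroup
  set X := CIT.cj w Op with hX
  set Y := Q1 ⊓ centralizer (B : Set G) with hYdef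
  have hne : X ⊓ Y ≠ ⊥ := by
    intro hbot
    have hinj : Function.Injective fun c : ↥X × ↥Y =>
        (⟨(c.1 : G) * c.2, Q1.mul_mem (hwle c.1.2) c.2.2.1⟩ : ↥Q1) := by
      intro c d e
      have e1 : (c.1 : G) * c.2 = d.1 * d.2 := congrArg Subtype.val e
      have h2 : (d.1 : G)⁻¹ * c.1 = d.2 * (c.2 : G)⁻¹ := by
        rw [eq_mul_inv_iff_mul_eq, mul_assoc, e1, inv_mul_cancel_left]
      have h3 : (d.1 : G)⁻¹ * c.1 = 1 := mem_bot.1 (hbot.le (mem_inf.2
        ⟨mul_mem (inv_mem d.1.2) c.1.2, h2 ▸ mul_mem d.2.2 (inv_mem c.2.2)⟩))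
      have h4 : (c.1 : G) = d.1 := (inv_mul_eq_one.1 h3).symm
      rw [h4] at e1
      exact Prod.ext (Subtype.ext h4) (Subtype.ext (mul_left_cancel e1))
    have h1 := Nat.card_le_card_of_injective _ hinj
    rw [Nat.card_prod, hX, card_cj, isPGroup_card_eq hOp.isPGroup,
      isPGroup_card_eq (hQ1s.isPGroup.to_le (inf_le_left : Y ≤ Q1)), isPGroup_card_eq hQ1s.isPGroup,
      ← pow_add, Nat.pow_le_pow_iff_right hp.out.one_lt, hY, hform, ← hσ] at h1
    obtain ⟨m', rfl⟩ : ∃ m', m = m' + 1 := ⟨m - 1, by omega⟩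
    simp only [Nat.add_sub_cancel] at hΓ
    have hq1 : 1 ≤ 2 ^ (m' + 1) := Nat.one_le_two_pow
    have hγq : γ * (2 ^ (m' + 1) - 1) + γ = γ * 2 ^ (m' + 1) := by
      rw [← Nat.mul_add_one, Nat.sub_add_cancel hq1]
    have h2Γ : 2 * Γ = γ * 2 ^ (m' + 1) := by rw [hΓ, pow_succ]; ring
    omega
  obtain ⟨z, hz, hzo⟩ := exists_orderOf_eq (hQ1s.isPGroup.to_le (inf_le_left.trans hwle)) hne
  have hwM : w ∈ M := Wc_le M (hLW hw)
  have hz0 : w⁻¹ * z * w ∈ U := hOpU (mem_cj.1 hz.1)
  refine hx (h.good_fix hT hQ hgood hpι (mem_Ux.1 hz0).1 ((TwoGroups.SE.orderOf_conj' w z).trans hzo)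
    (B := CIT.cj w⁻¹ B) ⟨?_, (hAel.of_le hBA).cj _, ?_⟩ (fun c hc => ?_) (mem_Ux.1 hz0).2)
  · exact (cj_mono (hBA.trans hAM)).trans (mem_normalizer_iff_cj.1 (le_normalizer (M.inv_mem hwM))).le
  · rw [card_cj, hBc, ← pow_succ', show m - 1 + 1 = m by omega, ← hm, hAq]
  · rw [mem_cj, inv_inv] at hc
    have h1 := mem_centralizer_iff.1 hz.2.2 _ hc
    calc c * (w⁻¹ * z * w) = w⁻¹ * (w * c * w⁻¹ * z) * w := by group
      _ = w⁻¹ * z * w * c := by rw [h1]; group

/-- The involutions of `M` centralise `W`. -/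
theorem cent_W (pf : PureFacts M T) {t : G} (htM : t ∈ M) (ht : orderOf t = 2) {w : G} (hw : w ∈ Wc M) :
    t * w = w * t := by
  haveI : Fact (Nat.Prime 2) := ⟨Nat.prime_two⟩
  suffices heq : Wc M ⊓ centralizer ({t} : Set G) = Wc M from (mem_cent.1 (heq.ge hw).2).symm
  refine eq_of_le_of_card_ge inf_le_left (Nat.le_of_dvd Nat.card_pos ?_)
  rw [← Nat.factorization_le_iff_dvd Nat.card_pos.ne' Nat.card_pos.ne']
  intro p
  by_cases hp : p.Prime
  swap
  · simp [Nat.factorization_eq_zero_of_not_prime _ hp]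
  haveI : Fact p.Prime := ⟨hp⟩
  obtain ⟨P, hP, hPt⟩ := exists_invariant_sylP (p := p) (A := zpowers t)
    (zpowers_le.2 (Wc_normalized M htM))
    (by rw [Nat.card_zpowers, ht]; exact (odd_Wc M).coprime_two_left) (odd_Wc M)
  by_cases hP1 : P = ⊥
  · rw [← hP.factorization_eq, hP1, card_bot]; simp
  by_cases hgood : normalizer (P : Set G) ≤ M
  · exact (h.good_factorization hT pf hP hgood hP1 htM ht).ge
  · rw [← hP.factorization_eq]
    refine (Nat.factorization_le_iff_dvd Nat.card_pos.ne' Nat.card_pos.ne').2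
      (card_dvd_of_le fun y hy => mem_inf.2 ⟨hP.le hy, mem_cent.2 ?_⟩) p
    exact mem_centralizer_iff.1 ((pf.bad p hp P hP hgood).2 t (hPt (mem_zpowers t)) 1 (by rw [ht, pow_one])) y hy

/-- The endgame facts. -/
theorem endgame (pf : PureFacts M T) : Endgame M where
  trans := pf.trans
  stab_W := fun _ hx _ hw hwx => h.stab_W_of hT pf hx hw hwx
  cent := fun _ htM ht _ hw => h.cent_W hT pf htM ht hw
  bad := pf.bad
  good := by
    intro p hp P hP hgood x hx w hw hwx hwo
    haveI : Fact p.Prime := ⟨hp⟩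
    have hP1 : P ≠ ⊥ := fun e => by
      have h1 := hP.card
      rw [e, card_bot] at h1
      have h2 : p ∣ Nat.card (Wc M) := hwo ▸ (Wc M).orderOf_dvd_natCard hw
      have h3 := Nat.Prime.factorization_pos_of_dvd hp Nat.card_pos.ne' h2
      rw [eq_comm, Nat.pow_eq_one] at h1
      rcases h1 with h1 | h1
      · exact hp.ne_one h1
      · omega
    refine hx (h.good_fix hT hP hgood (fun hd => h.not_good_of_dvd hT hP hP1 hgood hd) hw hwo
      (h.hyp_invSub hT hT) (fun b hb => ?_) hwx)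
    by_cases hb1 : b = 1
    · rw [hb1, one_mul, mul_one]
    · exact h.cent_W hT pf (hT.1 (h.invSub_le hT hb)) ((h.invSub_elem hT).orderOf_eq hb hb1) hw

end Ctx

end CfsgLib.InvCent
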