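import Cfsg.Agent.Lib.InvCentTwoNilp.PureBadData

/-!
# A bad prime dividing `q - 1`: fusion, real elements, fixed points (S3214)

Owner: helper5.
-/

set_option autoImplicit false
set_option linter.unusedSectionVars false

namespace CfsgLib.InvCent

open Subgroup CfsgLib.CIT
open CfsgLib.Signalizer (involution_sq involution_inv involution_ne_one orderOf_eq_two_of orderOf_conj)

universe u

variable {G : Type u} [Group G] [Finite G] [IsSimpleGroup G] {M T : Subgroup G}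

namespace Ctx

variable (h : Ctx M) (hT : IsSyl T M) {p : ℕ} [hp : Fact p.Prime]
  (hd : p ∣ Nat.card (invSub T) - 1) {R : Subgroup G} {y : G ⧸ M} {v : G} (b : BadData M p R y v)
include h hT hd b

omit h hT hd in
theorem bad_fusion {a a' g : G} (ha : a ∈ R) (ha' : a' ∈ R) (hg : g * a * g⁻¹ = a') :
    ∃ n ∈ normalizer (R : Set G), n * a * n⁻¹ = a' := by
  set C := centralizer ({a'} : Set G) with hC
  have hle : R ≤ C := fun r hr => mem_cent.2 (b.comm r hr a' ha')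
  have hle' : cj g R ≤ C := by
    rintro _ ⟨r, hr, rfl⟩
    refine mem_cent.2 ?_
    show g * r * g⁻¹ * a' = a' * (g * r * g⁻¹)
    rw [← hg]
    calc g * r * g⁻¹ * (g * a * g⁻¹) = g * (r * a) * g⁻¹ := by group
      _ = g * a * g⁻¹ * (g * r * g⁻¹) := by rw [b.comm r hr a ha]; group
  have h1 : SylP p R C := b.top.of_le hle le_top
  have h2 : SylP p (cj g R) C := by
    refine ⟨hle', ?_⟩
    rw [card_cj]; exact h1.card
  obtain ⟨c, hc, hce⟩ := h2.exists_conj h1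
  refine ⟨c * g, mem_normalizer_iff_cj.2 (by rw [cj_mul, hce]), ?_⟩
  calc c * g * a * (c * g)⁻¹ = c * (g * a * g⁻¹) * c⁻¹ := by group
    _ = a' := by rw [hg, mem_cent.1 hc, mul_inv_cancel_right]

omit h hT hd in
theorem bad_move {d : G} (hd' : d ∈ M) {k : ℕ} (ho : orderOf d = p ^ k) :
    ∃ m ∈ M, m * d * m⁻¹ ∈ R := by
  obtain ⟨m, hm, hmR⟩ := b.sylR.exists_conj_ge (zpowers_le.2 hd') (isPGroup_zpowers ho)
  exact ⟨m, hm, hmR (conj_mem_cj.2 (mem_zpowers d))⟩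

/-- Fusion into `W`. -/
theorem bad_fus {d : G} (hdM : d ∈ M) {k : ℕ} (ho : orderOf d = p ^ k) {g : G}
    (hg : g * d * g⁻¹ ∈ Wc M) : d ∈ Wc M := by
  obtain ⟨m, hm, hmR⟩ := bad_move b hdM ho
  obtain ⟨m', hm', hmR'⟩ := bad_move b (Wc_le M hg) ((orderOf_conj g d).trans ho)
  have hW : m' * (g * d * g⁻¹) * m'⁻¹ ∈ R ⊓ Wc M := ⟨hmR', conj_mem_Wc hm' hg⟩
  obtain ⟨n, hn, hne⟩ := bad_fusion b hmR hmR' (g := m' * g * m⁻¹) (by group)
  rw [← hne] at hW
  have h1 := ((mem_normalizer_iff.1 (b.normW hn) _).2 hW).2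
  have := conj_mem_Wc (M.inv_mem hm) h1
  rwa [show m⁻¹ * (m * d * m⁻¹) * m⁻¹⁻¹ = d by group] at this

theorem centralized_mem_W {u c : G} (hu : orderOf u = 2) (hcM : c ∈ M) {k : ℕ} (ho : orderOf c = p ^ k)
    (hc : u * c = c * u) : c ∈ Wc M := by
  obtain ⟨z, hz⟩ := TwoGroups.SE.exists_fixed (H := M) h.se hu
  have h1 := h.mem_Wp_of_centralized hu hz hc.symm
    (ho ▸ (hp.out.odd_of_ne_two (h.ne_two_of_dvd hT hd)).pow)
  rw [mem_Wp_iff] at h1
  exact h.bad_fus hT hd b hcM ho (g := z.out⁻¹) (by rwa [inv_inv])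

theorem eq_one_of_cop {c : G} (hc : c ^ p = 1) {k : ℕ} (hk : ¬ p ∣ 2 * k) (h1 : c ^ (2 * k) = 1) : c = 1 := by
  have e := Nat.eq_one_of_dvd_coprimes (hp.out.coprime_iff_not_dvd.2 hk)
    (orderOf_dvd_of_pow_eq_one hc) (orderOf_dvd_of_pow_eq_one h1)
  exact orderOf_eq_one_iff.1 e

/-- Real elements of order `p` of `R` are inverted by the swapper. -/
theorem real_inverted {x : G} (hx : x ∈ R) (hxp : x ^ p = 1) {g : G} (hg : g * x * g⁻¹ = x⁻¹) :
    v * x * v⁻¹ = x⁻¹ := by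
  classical
  have hp2 := h.ne_two_of_dvd hT hd
  obtain ⟨n, hn, hne⟩ := bad_fusion b hx (R.inv_mem hx) hg
  obtain ⟨e, r, hr, her⟩ := Nat.exists_eq_two_pow_mul_odd (orderOf_pos n).ne'
  set n' := n ^ r with hn'def
  have hinv : n' * x * n'⁻¹ = x⁻¹ := by
    obtain ⟨i, hi⟩ := hr
    have h2 : ∀ j : ℕ, n ^ (2 * j) * x * (n ^ (2 * j))⁻¹ = x := by
      intro j
      induction j with
      | zero => simp
      | succ j ih =>
        calc n ^ (2 * (j + 1)) * x * (n ^ (2 * (j + 1)))⁻¹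
            = n * (n * (n ^ (2 * j) * x * (n ^ (2 * j))⁻¹) * n⁻¹) * n⁻¹ := by
              rw [show 2 * (j + 1) = 2 * j + 1 + 1 by ring, pow_succ', pow_succ']; group
          _ = n * x⁻¹ * n⁻¹ := by rw [ih, hne]
          _ = x := by rw [← conj_inv, hne, inv_inv]
    rw [hn'def, hi, pow_succ']
    calc n * n ^ (2 * i) * x * (n * n ^ (2 * i))⁻¹
        = n * (n ^ (2 * i) * x * (n ^ (2 * i))⁻¹) * n⁻¹ := by group
      _ = x⁻¹ := by rw [h2, hne]
  have hn'o : orderOf n' = 2 ^ e := by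
    rw [hn'def, orderOf_pow_of_dvd hr.pos.ne' (her ▸ dvd_mul_left _ _), her, Nat.mul_div_cancel _ hr.pos]
  have hn'R : n' ∈ normalizer (R : Set G) := pow_mem hn r
  have hxodd : Odd (orderOf x) := odd_orderOf_of_mem
    ((h.odd_DD b.yne).of_dvd_nat (card_dvd_of_le b.Ry)) hx
  have hperm : ∀ q : G ⧸ M, (∀ s ∈ R, s • q = q) → ∀ s ∈ R, s • (n' • q) = n' • q := fun q hq s hs => by
    rw [← mul_smul, show s * n' = n' * (n'⁻¹ * s * n') by group, mul_smul,
      hq _ ((mem_normalizer_iff''.1 hn'R s).1 hs)]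
  have hRa : ∀ s ∈ R, s • base M = base M := fun s hs => smul_base_eq_iff.2 (b.sylR.le hs)
  have hRy : ∀ s ∈ R, s • y = y := fun s hs => (b.Ry hs).2
  have hna := b.fix_pair _ (hperm _ hRa)
  have hny := b.fix_pair _ (hperm _ hRy)
  have hxne : x = 1 ∨ n' • base M = y ∧ n' • y = base M := by
    rcases hna with e1 | e1
    · left
      have e2 : n' • y = y := hny.resolve_left fun e2 =>
        b.yne (MulAction.injective n' (e2.trans e1.symm))
      have hodd : Odd (orderOf n') :=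
        odd_orderOf_of_mem (h.odd_DD b.yne) (⟨smul_base_eq_iff.1 e1, e2⟩ : n' ∈ DD M y)
      have he0 : e = 0 := by
        by_contra hne0
        rw [hn'o] at hodd
        exact hodd.not_two_dvd_nat (dvd_pow_self 2 hne0)
      have hn1 : n' = 1 := orderOf_eq_one_iff.1 (by rw [hn'o, he0, pow_zero])
      rw [hn1, one_mul, inv_one, mul_one] at hinv
      exact ZStar.eq_one_of_odd_of_sq hxodd (by rw [pow_two]; nth_rw 2 [hinv]; exact mul_inv_cancel x)
    · exact Or.inr ⟨e1, hny.resolve_right fun e2 => b.yne (MulAction.injective n' (e2.trans e1.symm)).symm.symm⟩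
  rcases hxne with rfl | ⟨hn'a, hn'y⟩
  · simp
  obtain ⟨c, hc, w, hw, hvc, hvw, hxe, hwz⟩ := exists_centralized_mul_inverted
    ((h.odd_DD b.yne).of_dvd_nat (card_dvd_of_le b.Ry)) b.two b.vnorm hx
  have hvx : v * x * v⁻¹ ∈ R := (mem_normalizer_iff.1 b.vnorm x).1 hx
  have hwp : w ^ p = 1 := by
    obtain ⟨i, hi⟩ := mem_zpowers_iff.1 hwz
    rw [← hi, ← zpow_natCast (_ ^ i), zpow_comm, zpow_natCast,
      (show Commute x⁻¹ (v * x * v⁻¹) from b.comm _ (R.inv_mem hx) _ hvx).mul_pow, inv_pow, conj_pow,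
      hxp]
    group
  have hcp : c ^ p = 1 := by
    rw [show c = x * w by rw [hxe]; group,
      (show Commute x w from b.comm _ hx _ hw).mul_pow, hxp, hwp, one_mul]
  obtain ⟨kc, hkc⟩ := exists_orderOf_pow b.sylR.isPGroup hc
  have hcW : c ∈ R ⊓ Wc M := ⟨hc, h.centralized_mem_W hT hd b b.two (b.sylR.le hc) hkc hvc⟩
  have hn'c : n' * c = c * n' :=
    (mem_centralizer_iff.1 (b.cent2 n' (b.normW hn'R) e hn'o) c hcW).symm
  have hcw : Commute c w := b.comm c hc w hw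
  -- `d = n' v`
  have hn'w : n' * w * n'⁻¹ = c * c * w⁻¹ := by
    have h1 : c * (n' * w⁻¹ * n'⁻¹) = w * c⁻¹ := by
      calc c * (n' * w⁻¹ * n'⁻¹) = c * n' * w⁻¹ * n'⁻¹ := by group
        _ = n' * (c * w⁻¹) * n'⁻¹ := by rw [← hn'c]; group
        _ = w * c⁻¹ := by rw [← hxe, hinv, hxe]; group
    have h2 : n' * w⁻¹ * n'⁻¹ = c⁻¹ * (w * c⁻¹) := by rw [← h1]; group
    calc n' * w * n'⁻¹ = (n' * w⁻¹ * n'⁻¹)⁻¹ := by group
      _ = c * w⁻¹ * c := by rw [h2]; group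
      _ = c * (c * w⁻¹) := by rw [mul_assoc, (hcw.inv_right).eq]
      _ = _ := by group
  set d := n' * v with hddef
  have hdR : d ∈ normalizer (R : Set G) := mul_mem hn'R b.vnorm
  have hdc : Commute d c := (show Commute n' c from hn'c).mul_left hvc
  have hdw : d * w * d⁻¹ = (c * c)⁻¹ * w := by
    calc d * w * d⁻¹ = n' * (v * w * v⁻¹) * n'⁻¹ := by rw [hddef]; group
      _ = (n' * w * n'⁻¹)⁻¹ := by rw [hvw]; group
      _ = w * (c * c)⁻¹ := by rw [hn'w]; group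
      _ = _ := ((hcw.mul_left hcw).inv_left.eq).symm
  have hdD : d ∈ DD M y := by
    refine ⟨smul_base_eq_iff.1 ?_, ?_⟩
    · rw [hddef, mul_smul, b.swap, hn'y]
    · show d • y = y
      rw [hddef, mul_smul, smul_back b.two b.swap, hn'a]
  have hpow : ∀ i : ℕ, d ^ i * w * (d ^ i)⁻¹ = ((c * c)⁻¹) ^ i * w := by
    intro i
    induction i with
    | zero => simp
    | succ i ih =>
      have hdci : Commute d (((c * c)⁻¹) ^ i) := ((hdc.mul_right hdc).inv_right).pow_right i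
      calc d ^ (i + 1) * w * (d ^ (i + 1))⁻¹ = d * (d ^ i * w * (d ^ i)⁻¹) * d⁻¹ := by
            rw [pow_succ']; group
        _ = d * ((c * c)⁻¹) ^ i * d⁻¹ * (d * w * d⁻¹) := by rw [ih]; group
        _ = ((c * c)⁻¹) ^ (i + 1) * w := by
            rw [hdci.eq, mul_inv_cancel_right, hdw, pow_succ]; group
  obtain ⟨f, k, hk, hdk⟩ := Nat.exists_eq_pow_mul_and_not_dvd (orderOf_pos d).ne' p hp.out.ne_one
  have hk0 : k ≠ 0 := fun e0 => hk (by rw [e0]; exact dvd_zero p)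
  have hdo : orderOf (d ^ k) = p ^ f := by
    rw [orderOf_pow_of_dvd hk0 (hdk ▸ dvd_mul_left _ _), hdk, Nat.mul_div_cancel _ (Nat.pos_of_ne_zero hk0)]
  have hdkR : d ^ k ∈ R := by
    have hn2 : zpowers (d ^ k) ≤ normalizer (R : Set G) := zpowers_le.2 (pow_mem hdR k)
    rw [b.top.eq_of_le (Q := R ⊔ zpowers (d ^ k)) le_sup_left le_top
      (b.sylR.isPGroup.to_sup_of_normal_left' (isPGroup_zpowers hdo) hn2)]
    exact mem_sup_right (mem_zpowers _)
  have h4 := hpow k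
  rw [b.comm _ hdkR w hw, mul_inv_cancel_right] at h4
  have h5 : c ^ (2 * k) = 1 := by
    have h6 : ((c * c)⁻¹) ^ k = 1 := mul_eq_right.1 h4.symm
    rwa [inv_pow, inv_eq_one, ← pow_two, ← pow_mul] at h6
  have hk2 : ¬ p ∣ 2 * k := fun hdv => (hp.out.dvd_mul.1 hdv).elim
    (fun h2 => hp2 ((Nat.prime_dvd_prime_iff_eq hp.out Nat.prime_two).1 h2)) hk
  have hc1 := h.eq_one_of_cop hT hd b hcp hk2 h5
  rw [hxe, hc1, one_mul, ← conj_inv, hvw]

/-- No element of order `p` of `W` is real. -/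
theorem bad_real_W {x : G} (hx : x ∈ Wc M) (ho : orderOf x = p) {g : G} (hg : g * x * g⁻¹ = x⁻¹) : False := by
  obtain ⟨m, hm, hmR⟩ := bad_move b (Wc_le M hx) (k := 1) (by rw [ho, pow_one])
  set x1 := m * x * m⁻¹ with hx1
  have hx1o : orderOf x1 = p := (orderOf_conj m x).trans ho
  have hinv := h.real_inverted hT hd b hmR (by rw [← hx1o]; exact pow_orderOf_eq_one x1)
    (g := m * g * m⁻¹) (by
      calc m * g * m⁻¹ * x1 * (m * g * m⁻¹)⁻¹ = m * (g * x * g⁻¹) * m⁻¹ := by rw [hx1]; group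
        _ = x1⁻¹ := by rw [hg, hx1]; group)
  have hxW : x1 ∈ R ⊓ Wc M := ⟨hmR, conj_mem_Wc hm hx⟩
  have hc := mem_centralizer_iff.1 (b.cent2 v (b.normW b.vnorm) 1 (by rw [b.two, pow_one])) x1 hxW
  rw [← hc, mul_inv_cancel_right] at hinv
  have h2 := ZStar.eq_one_of_odd_of_sq (odd_orderOf_of_mem (odd_Wc M) hxW.2)
    (by rw [pow_two]; nth_rw 2 [hinv]; exact mul_inv_cancel x1)
  rw [h2, orderOf_one] at hx1o
  exact hp.out.one_lt.ne hx1o

/-- Products of commuting real elements of order `p` inside `R` are real. -/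
theorem real_mul {x x' : G} (hx : x ∈ R) (hxi : v * x * v⁻¹ = x⁻¹) (hx' : x' ∈ R)
    (hxi' : v * x' * v⁻¹ = x'⁻¹) : v * (x * x') * v⁻¹ = (x * x')⁻¹ := by
  rw [show v * (x * x') * v⁻¹ = v * x * v⁻¹ * (v * x' * v⁻¹) by group, hxi, hxi', mul_inv_rev]
  exact b.comm _ (R.inv_mem hx) _ (R.inv_mem hx')

/-- Inverted elements of order `p` outside `W` fix two points. -/
theorem bad_pair {x : G ⧸ M} (hx : x ≠ base M) {u d : G} (hu : orderOf u = 2) (hua : u • base M = x)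
    (hdM : d ∈ M) (hdx : d • x = x) (hdW : d ∉ Wc M) (hdo : orderOf d = p) (hinv : u * d * u⁻¹ = d⁻¹)
    {z : G ⧸ M} (hz : d • z = z) : z = base M ∨ z = x := by
  classical
  by_cases hza : z = base M
  · exact Or.inl hza
  right
  have hp2 := h.ne_two_of_dvd hT hd
  have hdp : IsPGroup p (zpowers d) := isPGroup_zpowers (k := 1) (by rw [hdo, pow_one])
  have hdpow : d ^ p = 1 := hdo ▸ pow_orderOf_eq_one d
  refine h.subsingleton_fix (S := zpowers d) ?_ (fun c hle => ?_)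
    (fun s hs => smul_base_eq_iff.2 (zpowers_le.2 hdM hs)) (fun x' hx' hfix => ?_) hza hx
    (fun s hs => (zpowers_le.2 hz : _ ≤ MulAction.stabilizer G z) hs)
    (fun s hs => (zpowers_le.2 hdx : _ ≤ MulAction.stabilizer G x) hs)
  · rw [Nat.card_zpowers, hdo]; exact hp.out.odd_of_ne_two hp2
  · have h1 := hle (mem_zpowers d)
    rw [mem_Wp_iff] at h1
    exact hdW (h.bad_fus hT hd b hdM (k := 1) (by rw [hdo, pow_one]) (g := c.out⁻¹) (by rwa [inv_inv]))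
  · obtain ⟨u', R', hu', hua', hR', hSR, huR⟩ := h.exists_invariant_swapper hp2 hx'
      (zpowers_le.2 (⟨hdM, hfix d (mem_zpowers d)⟩ : d ∈ DD M x')) hdp
    obtain ⟨m, hm, hmR⟩ := h.exists_conj_le b.sylR hR'
    have hdR' := hSR (mem_zpowers d)
    have hR'odd : Odd (Nat.card R') := (h.odd_DD hx').of_dvd_nat (card_dvd_of_le hR'.le)
    obtain ⟨c, hc, w, hw, huc, huw, hde, hwz⟩ := exists_centralized_mul_inverted hR'odd hu' huR hdR'
    have hcomm' : ∀ a ∈ R', ∀ a' ∈ R', Commute a a' := fun a ha a' ha' => by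
      have e := b.comm _ (hmR (conj_mem_cj.2 ha)) _ (hmR (conj_mem_cj.2 ha'))
      show a * a' = a' * a
      calc a * a' = m⁻¹ * (m * a * m⁻¹ * (m * a' * m⁻¹)) * m := by group
        _ = a' * a := by rw [e]; group
    have hud : u' * d * u'⁻¹ ∈ R' := (mem_normalizer_iff.1 huR d).1 hdR'
    have hwp : w ^ p = 1 := by
      obtain ⟨i, hi⟩ := mem_zpowers_iff.1 hwz
      rw [← hi, ← zpow_natCast (_ ^ i), zpow_comm, zpow_natCast,
        (hcomm' _ (R'.inv_mem hdR') _ hud).mul_pow, inv_pow, conj_pow, hdpow]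
      group
    have hcdw : c = d * w := by rw [hde]; group
    have hcp : c ^ p = 1 := by rw [hcdw, (hcomm' d hdR' w hw).mul_pow, hdpow, hwp, one_mul]
    have hc1 : c = 1 := by
      by_contra hne
      have hco : orderOf c = p := orderOf_eq_prime hcp hne
      have hcW : c ∈ Wc M := h.centralized_mem_W hT hd b hu' (hR'.le hc).1 (k := 1) (by rw [hco, pow_one]) huc
      have hd1 := h.real_inverted hT hd b (hmR (conj_mem_cj.2 hdR')) (by
        rw [conj_pow, hdpow]; group) (g := m * u * m⁻¹) (by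
          calc m * u * m⁻¹ * (m * d * m⁻¹) * (m * u * m⁻¹)⁻¹ = m * (u * d * u⁻¹) * m⁻¹ := by group
            _ = (m * d * m⁻¹)⁻¹ := by rw [hinv]; group)
      have hw1 := h.real_inverted hT hd b (hmR (conj_mem_cj.2 hw)) (by
        rw [conj_pow, hwp]; group) (g := m * u' * m⁻¹) (by
          calc m * u' * m⁻¹ * (m * w * m⁻¹) * (m * u' * m⁻¹)⁻¹ = m * (u' * w * u'⁻¹) * m⁻¹ := by group
            _ = (m * w * m⁻¹)⁻¹ := by rw [huw]; group)
      have hreal := h.real_mul hT hd b (hmR (conj_mem_cj.2 hdR')) hd1 (hmR (conj_mem_cj.2 hw)) hw1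
      rw [show m * d * m⁻¹ * (m * w * m⁻¹) = m * c * m⁻¹ by rw [hcdw]; group] at hreal
      exact h.bad_real_W hT hd b (conj_mem_Wc hm hcW) ((orderOf_conj m c).trans hco) hreal
    refine ⟨u', mem_normalizer_zpowers ?_, hu', hua'⟩
    rw [hde, hc1, one_mul, ← conj_inv, huw]
    exact inv_mem (inv_mem (mem_zpowers w⁻¹)) |> fun h0 => by simpa using h0

/-- Each two point stabiliser has an inverted element of order `p` outside `W`. -/
theorem bad_exists {x : G ⧸ M} (hx : x ≠ base M) :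
    ∃ u d, orderOf u = 2 ∧ u • base M = x ∧ d ∈ DD M x ∧ d ∉ Wc M ∧ orderOf d = p ∧ u * d * u⁻¹ = d⁻¹ := by
  have hp2 := h.ne_two_of_dvd hT hd
  obtain ⟨u, R1, hu, hua, hR1, -, huR⟩ :=
    h.exists_invariant_swapper (p := p) hp2 hx bot_le IsPGroup.of_bot
  obtain ⟨s, hs, hsW⟩ := SetLike.not_le_iff_exists.1 (h.not_sylP_DD_le_W hT hd hx hR1)
  obtain ⟨c, hc, w, hw, huc, huw, e, -⟩ :=
    exists_centralized_mul_inverted ((h.odd_DD hx).of_dvd_nat (card_dvd_of_le hR1.le)) hu huR hs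
  obtain ⟨kc, hkc⟩ := exists_orderOf_pow hR1.isPGroup hc
  have hwW : w ∉ Wc M := fun hwW => hsW (e ▸ mul_mem
    (h.centralized_mem_W hT hd b hu (hR1.le hc).1 hkc huc) (inv_mem hwW))
  obtain ⟨kw, hkw⟩ := exists_orderOf_pow hR1.isPGroup hw
  obtain ⟨i, hi⟩ := exists_pow_orderOf hkw fun e1 => hwW (e1 ▸ one_mem _)
  have hiinv : u * w ^ i * u⁻¹ = (w ^ i)⁻¹ := by rw [← conj_pow, huw, inv_pow]
  exact ⟨u, w ^ i, hu, hua, pow_mem (hR1.le hw) i,
    fun hW => h.bad_real_W hT hd b hW hi hiinv, hi, hiinv⟩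

theorem bad_trans {x x' : G ⧸ M} (hx : x ≠ base M) (hx' : x' ≠ base M) : ∃ m ∈ M, m • x = x' := by
  have hp2 := h.ne_two_of_dvd hT hd
  obtain ⟨u, d, hu, hua, hdD, hdW, hdo, hdi⟩ := h.bad_exists hT hd b hx
  obtain ⟨u', d', -, -, hdD', hdW', hdo', hdi'⟩ := h.bad_exists hT hd b hx'
  obtain ⟨m, hm, hmR⟩ := bad_move b hdD.1 (k := 1) (by rw [hdo, pow_one])
  obtain ⟨m', hm', hmR'⟩ := bad_move b hdD'.1 (k := 1) (by rw [hdo', pow_one])
  set a1 := m * d * m⁻¹ with ha1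
  set a2 := m' * d' * m'⁻¹ with ha2
  have ha1p : a1 ^ p = 1 := by rw [ha1, conj_pow, ← hdo, pow_orderOf_eq_one]; group
  have ha2p : a2 ^ p = 1 := by rw [ha2, conj_pow, ← hdo', pow_orderOf_eq_one]; group
  have hi1 := h.real_inverted hT hd b hmR ha1p (g := m * u * m⁻¹) (by
    calc m * u * m⁻¹ * a1 * (m * u * m⁻¹)⁻¹ = m * (u * d * u⁻¹) * m⁻¹ := by rw [ha1]; group
      _ = a1⁻¹ := by rw [hdi, ha1]; group)
  have hi2 := h.real_inverted hT hd b hmR' ha2p (g := m' * u' * m'⁻¹) (by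
    calc m' * u' * m'⁻¹ * a2 * (m' * u' * m'⁻¹)⁻¹ = m' * (u' * d' * u'⁻¹) * m'⁻¹ := by rw [ha2]; group
      _ = a2⁻¹ := by rw [hdi', ha2]; group)
  have ha2W : a2 ∉ Wc M := fun hW => hdW' (by
    have := conj_mem_Wc (M.inv_mem hm') hW
    rwa [ha2, show m'⁻¹ * (m' * d' * m'⁻¹) * m'⁻¹⁻¹ = d' by group] at this)
  obtain ⟨j, hj⟩ := h.mod_W_unique hp2 b.sylR.le b.sylR.isPGroup hmR' ha2W
    (by rw [ha2p]; exact one_mem _) hmR (by rw [ha1p]; exact one_mem _)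
  have ha2ji : v * (a2 ^ j)⁻¹ * v⁻¹ = (a2 ^ j)⁻¹⁻¹ := by
    rw [← conj_inv, ← conj_zpow, hi2, inv_zpow]
  have hw1 : (a2 ^ j)⁻¹ * a1 = 1 := by
    by_contra hne
    obtain ⟨kw, hkw⟩ := exists_orderOf_pow b.sylR.isPGroup (R.mul_mem (R.inv_mem (zpow_mem hmR' j)) hmR)
    obtain ⟨i, hi⟩ := exists_pow_orderOf hkw hne
    refine h.bad_real_W hT hd b (pow_mem hj i) hi (g := v) ?_
    rw [← conj_pow, h.real_mul hT hd b (R.inv_mem (zpow_mem hmR' j)) ha2ji hmR hi1, inv_pow]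
  refine ⟨m'⁻¹ * m, M.mul_mem (M.inv_mem hm') hm, h.exists_move (d := d) (d' := d') hx'
    (M.mul_mem (M.inv_mem hm') hm) (fun z hz => h.bad_pair hT hd b hx hu hua hdD.1 hdD.2 hdW hdo hdi hz)
    hdD'.2 (mem_zpowers_iff.2 ⟨j, ?_⟩)⟩
  have e : a2 ^ j = a1 := inv_mul_eq_one.1 hw1
  rw [ha2, conj_zpow, ha1] at e
  calc ((m'⁻¹ * m)⁻¹ * d' * (m'⁻¹ * m)) ^ j = m⁻¹ * (m' * d' ^ j * m'⁻¹) * m := by
        rw [show (m'⁻¹ * m)⁻¹ * d' * (m'⁻¹ * m) = (m⁻¹ * m') * d' * (m⁻¹ * m')⁻¹ by group, conj_zpow]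
        group
    _ = d := by rw [e]; group

end Ctx

end CfsgLib.InvCent
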