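import Cfsg.Agent.Lib.InvCentTwoNilp.PureGen

/-!
# Primes dividing `q - 1` but not `|W|` (S3214)

Owner: helper5.
-/

set_option autoImplicit false
set_option linter.unusedSectionVars false

namespace CfsgLib.InvCent

open Subgroup CfsgLib.CIT
open CfsgLib.Signalizer (involution_sq involution_inv involution_ne_one orderOf_eq_two_of orderOf_conj)

universe u

variable {G : Type u} [Group G] [Finite G] [IsSimpleGroup G] {M T : Subgroup G}

namespace Ctx

variable (h : Ctx M) (hT : IsSyl T M) {p : ℕ} [hp : Fact p.Prime]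
  (hd : p ∣ Nat.card (invSub T) - 1) (hfree : ¬ p ∣ Nat.card (Wc M))
include h hT hd hfree

omit h hT hd in
theorem free_eq_one {w : G} (hw : w ∈ Wc M) {k : ℕ} (ho : orderOf w = p ^ k) : w = 1 := by
  rcases Nat.eq_zero_or_pos k with rfl | hk
  · exact orderOf_eq_one_iff.1 (by rw [ho, pow_zero])
  · exact absurd ((dvd_pow_self p hk.ne').trans (ho ▸ (Wc M).orderOf_dvd_natCard hw)) hfree

theorem free_unique {R : Subgroup G} (hR : R ≤ M) (hRp : IsPGroup p R) {x y : G} (hx : x ∈ R)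
    (hxo : orderOf x = p) (hy : y ∈ R) (hyp : y ^ p = 1) : y ∈ zpowers x := by
  have hp2 := h.ne_two_of_dvd hT hd
  obtain ⟨j, hj⟩ := h.mod_W_unique hp2 hR hRp hx
    (fun e => hp.out.one_lt.ne' (by
      rw [← hxo, free_eq_one hfree e (k := 1) (by rw [hxo, pow_one]), orderOf_one]))
    (by rw [← hxo, pow_orderOf_eq_one]; exact one_mem _) hy (by rw [hyp]; exact one_mem _)
  obtain ⟨k, hk⟩ := exists_orderOf_pow hRp (R.mul_mem (R.inv_mem (zpow_mem hx j)) hy)
  exact mem_zpowers_iff.2 ⟨j, inv_mul_eq_one.1 (free_eq_one hfree hj hk)⟩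

/-- Elements of order `p` fix at most two points. -/
theorem free_pair {x : G ⧸ M} (hx : x ≠ base M) {d : G} (hdM : d ∈ M) (hdx : d • x = x)
    (hdo : orderOf d = p) {z : G ⧸ M} (hz : d • z = z) : z = base M ∨ z = x := by
  by_cases hza : z = base M
  · exact Or.inl hza
  right
  have hp2 := h.ne_two_of_dvd hT hd
  have hdp : IsPGroup p (zpowers d) := isPGroup_zpowers (k := 1) (by rw [hdo, pow_one])
  refine h.subsingleton_fix (S := zpowers d) ?_ (fun c hle => ?_)
    (fun s hs => smul_base_eq_iff.2 (zpowers_le.2 hdM hs)) (fun x' hx' hfix => ?_) hza hx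
    (fun s hs => (zpowers_le.2 hz : _ ≤ MulAction.stabilizer G z) hs)
    (fun s hs => (zpowers_le.2 hdx : _ ≤ MulAction.stabilizer G x) hs)
  · rw [Nat.card_zpowers, hdo]; exact hp.out.odd_of_ne_two hp2
  · have h1 := hle (mem_zpowers d)
    rw [mem_Wp_iff] at h1
    have := free_eq_one hfree h1 (k := 1) (by rw [conj_out, hdo, pow_one])
    rw [← conj_out (z := c) d, this, orderOf_one] at hdo
    exact hp.out.one_lt.ne hdo
  · obtain ⟨u, R', hu, hua, hR', hSR, huR⟩ := h.exists_invariant_swapper hp2 hx'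
      (zpowers_le.2 (⟨hdM, hfix d (mem_zpowers d)⟩ : d ∈ DD M x')) hdp
    refine ⟨u, mem_normalizer_iff_cj.2 ?_, hu, hua⟩
    rw [CIT.cj, MonoidHom.map_zpowers]
    refine eq_of_le_of_card_ge (zpowers_le.2 (h.free_unique hT hd hfree (hR'.le.trans DD_le)
      hR'.isPGroup (hSR (mem_zpowers d)) hdo ((mem_normalizer_iff.1 huR d).1 (hSR (mem_zpowers d))) ?_)) ?_
    · show (u * d * u⁻¹) ^ p = 1
      rw [conj_pow, ← hdo, pow_orderOf_eq_one]; group
    · show Nat.card (zpowers d) ≤ Nat.card (zpowers (u * d * u⁻¹))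
      rw [Nat.card_zpowers, Nat.card_zpowers, orderOf_conj]

theorem free_trans {x x' : G ⧸ M} (hx : x ≠ base M) (hx' : x' ≠ base M) : ∃ m ∈ M, m • x = x' := by
  have hp2 := h.ne_two_of_dvd hT hd
  have hex : ∀ z : G ⧸ M, z ≠ base M → ∃ d ∈ DD M z, orderOf d = p := by
    intro z hz
    obtain ⟨R, hR⟩ := exists_sylP (p := p) (DD M z)
    obtain ⟨d, hdR, hdo⟩ := exists_orderOf_eq hR.isPGroup fun e =>
      h.not_sylP_DD_le_W hT hd hz hR (e ▸ bot_le)
    exact ⟨d, hR.le hdR, hdo⟩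
  obtain ⟨d, hdD, hdo⟩ := hex x hx
  obtain ⟨d', hdD', hdo'⟩ := hex x' hx'
  obtain ⟨R, hR, hdR⟩ := exists_sylP_ge (zpowers_le.2 hdD.1) (isPGroup_zpowers (p := p) (k := 1) (by rw [hdo, pow_one]))
  obtain ⟨m, hm, hmR⟩ := hR.exists_conj_ge (zpowers_le.2 hdD'.1)
    (isPGroup_zpowers (p := p) (k := 1) (by rw [hdo', pow_one]))
  refine ⟨m⁻¹, M.inv_mem hm, h.exists_move (d := d) (d' := d') hx' (M.inv_mem hm)
    (fun z hz => h.free_pair hT hd hfree hx hdD.1 hdD.2 hdo hz) hdD'.2 ?_⟩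
  rw [inv_inv]
  refine h.free_unique hT hd hfree hR.le hR.isPGroup (hmR (conj_mem_cj.2 (mem_zpowers d')))
    ((orderOf_conj m d').trans hdo') (hdR (mem_zpowers d)) ?_
  rw [← hdo, pow_orderOf_eq_one]

end Ctx

end CfsgLib.InvCent
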