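import Cfsg.Agent.Lib.InvCentTwoNilp.Facts
import Cfsg.Agent.Lib.InvCentTwoNilp.PureFree
import Cfsg.Agent.Lib.InvCentTwoNilp.PureBad

/-!
# The prime divisors of `q - 1` (S3214)

Owner: helper5.
-/

set_option autoImplicit false
set_option linter.unusedSectionVars false

namespace CfsgLib.InvCent

open Subgroup CfsgLib.CIT
open CfsgLib.Signalizer (involution_sq involution_inv involution_ne_one orderOf_eq_two_of orderOf_conj)

universe u

variable {G : Type u} [Group G] [Finite G] [IsSimpleGroup G] {M T : Subgroup G}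

namespace Ctx

variable (h : Ctx M)
include h

/-- The facts about the primes dividing `q - 1`. -/
theorem pureFacts (hT : IsSyl T M) : PureFacts M T := by
  classical
  refine ⟨?_, ?_, ?_, ?_, ?_⟩
  · intro x y hx hy
    obtain ⟨p, hp, hd⟩ := Nat.exists_prime_and_dvd (n := Nat.card (invSub T) - 1)
      (by have := (h.ibar_facts hT).1; omega)
    haveI := Fact.mk hp
    by_cases hW : p ∣ Nat.card (Wc M)
    · obtain ⟨R, z, v, b⟩ := h.exists_badData hT hd hW
      exact h.bad_trans hT hd b hx hy
    · exact h.free_trans hT hd hW hx hy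
  · rintro p hp hd d hdM ⟨k, hk⟩ g hg
    haveI := Fact.mk hp
    by_cases hW : p ∣ Nat.card (Wc M)
    · obtain ⟨R, z, v, b⟩ := h.exists_badData hT hd hW
      exact h.bad_fus hT hd b hdM hk hg
    · have h1 : g * d * g⁻¹ = 1 := free_eq_one hW hg ((orderOf_conj g d).trans hk)
      rw [conj_eq_one_iff.1 h1]
      exact one_mem _
  · intro p hp hd x hx u hu hua v hv hvx hvo hinv
    haveI := Fact.mk hp
    by_cases hW : p ∣ Nat.card (Wc M)
    · obtain ⟨R, z, w, b⟩ := h.exists_badData hT hd hW
      exact h.bad_real_W hT hd b hv hvo hinv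
    · exact hW (hvo ▸ (Wc M).orderOf_dvd_natCard hv)
  · intro p hp hd x hx u hu hua d hdM hdx hdW hdo hinv z hz
    haveI := Fact.mk hp
    by_cases hW : p ∣ Nat.card (Wc M)
    · obtain ⟨R, y, w, b⟩ := h.exists_badData hT hd hW
      exact h.bad_pair hT hd b hx hu hua hdM hdx hdW hdo hinv hz
    · exact h.free_pair hT hd hW hx hdM hdx hdo hz
  · intro p hp P hP hbad
    haveI := Fact.mk hp
    exact h.bad_spec hT hP hbad

end Ctx

end CfsgLib.InvCent
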