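import Cfsg.Agent.Lib.InvCentTwoNilp.Main
import Cfsg.Agent.Lib.InvCentTwoNilp.End
import Cfsg.Agent.Lib.InvCentTwoNilp.Pure
import Cfsg.Agent.Lib.InvCentTwoNilp.G4

/-!
# Simple groups whose involution centralisers have normal 2-complements (S3214)

Owner: helper5.
-/

set_option autoImplicit false

namespace CfsgLib.InvCent

open Subgroup CfsgLib.CIT

universe u

/-- No minimal configuration exists. -/
theorem noCtx : NoCtx.{u} := fun G _ _ _ M h => by
  obtain ⟨T, hT, -⟩ := exists_isSyl (bot_le : (⊥ : Subgroup G) ≤ M) IsPGroup.of_bot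
  exact h.false_of_endgame (h.endgame hT (h.pureFacts hT))

/-- The classification. -/
theorem classification {G : Type u} [Group G] [Finite G] [IsSimpleGroup G]
    (hna : ¬ IsMulCommutative G) (hI : TwoNilpCent G) :
    (∃ (F : Type) (_ : Field F) (_ : Fintype F), 3 < Fintype.card F ∧
        Nonempty (G ≃* Matrix.ProjectiveSpecialLinearGroup (Fin 2) F)) ∨
      Cfsg.Lie.IsoSuzuki G ∨ Nonempty (G ≃* ↥(alternatingGroup (Fin 7))) ∨
      (∃ (F : Type) (_ : Field F) (_ : Fintype F), Fintype.card F = 4 ∧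
        Nonempty (G ≃* Matrix.ProjectiveSpecialLinearGroup (Fin 3) F)) :=
  main noCtx hna hI

end CfsgLib.InvCent
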