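import Cfsg.Agent.Lib.Fusion.SylowIn
import Cfsg.Agent.Lib.CIT.Syl
import Cfsg.Agent.Lib.Core.Coprime
import Cfsg.Agent.S0205

/-!
# Sylow subgroups of subgroups (S3214)

Owner: helper5.
-/

set_option autoImplicit false
set_option linter.unusedSectionVars false

namespace CfsgLib.InvCent

open Subgroup CfsgLib.CIT
open scoped Pointwise

variable {G : Type*} [Group G] [Finite G] {p : ℕ} [hp : Fact p.Prime] {P Q X Y : Subgroup G}

/-- `P` is a Sylow `p`-subgroup of `X`. -/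
structure SylP (p : ℕ) (P X : Subgroup G) : Prop where
  le : P ≤ X
  card : Nat.card P = p ^ (Nat.card X).factorization p

theorem SylP.isPGroup (h : SylP p P X) : IsPGroup p P := IsPGroup.of_card h.card

theorem SylP.card_eq (h : SylP p P X) (h' : SylP p Q X) : Nat.card P = Nat.card Q :=
  h.card.trans h'.card.symm

theorem card_dvd_part (hQ : Q ≤ X) (hp' : IsPGroup p Q) :
    Nat.card Q ∣ p ^ (Nat.card X).factorization p := Fusion.card_le_sylowPart hQ hp'

theorem SylP.card_le (h : SylP p P X) (hQ : Q ≤ X) (hp' : IsPGroup p Q) :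
    Nat.card Q ≤ Nat.card P :=
  h.card ▸ Nat.le_of_dvd (pow_pos hp.out.pos _) (card_dvd_part hQ hp')

theorem exists_sylP_ge (hQ : Q ≤ X) (hp' : IsPGroup p Q) : ∃ P, SylP p P X ∧ Q ≤ P := by
  obtain ⟨T, hQT, hTX, -, hT⟩ := Fusion.exists_isSylowIn_ge hQ hp'
  exact ⟨T, ⟨hTX, (Fusion.isSylowIn_iff_card hTX).1 hT⟩, hQT⟩

theorem exists_sylP (X : Subgroup G) : ∃ P, SylP p P X :=
  (exists_sylP_ge (bot_le : (⊥ : Subgroup G) ≤ X) IsPGroup.of_bot).imp fun _ h => h.1

theorem sylP_of_sylow (R : Sylow p ↥X) : SylP p ((R : Subgroup ↥X).map X.subtype) X :=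
  ⟨map_subtype_le _, by rw [card_map_of_injective (subtype_injective _)]; exact R.card_eq_multiplicity⟩

theorem SylP.exists_sylow (h : SylP p P X) :
    ∃ R : Sylow p ↥X, (R : Subgroup ↥X).map X.subtype = P := by
  refine ⟨Sylow.ofCard (P.subgroupOf X) (by rw [Fusion.card_subgroupOf_eq h.le, h.card]), ?_⟩
  rw [Sylow.coe_ofCard, subgroupOf_map_subtype, inf_eq_left.2 h.le]

theorem SylP.eq_of_le (h : SylP p P X) (hPQ : P ≤ Q) (hQ : Q ≤ X) (hp' : IsPGroup p Q) : P = Q :=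
  eq_of_le_of_card_ge hPQ (h.card_le hQ hp')

theorem SylP.exists_conj_ge (h : SylP p P X) (hQ : Q ≤ X) (hp' : IsPGroup p Q) :
    ∃ g ∈ X, cj g Q ≤ P := by
  obtain ⟨g, hg, h'⟩ := ((Fusion.isSylowIn_iff_card h.le).2 h.card).exists_conj_mem hQ hp'
  refine ⟨g, hg, ?_⟩
  rintro _ ⟨q, hq, rfl⟩
  exact h' q hq

theorem SylP.exists_conj (h : SylP p P X) (h' : SylP p Q X) : ∃ g ∈ X, cj g P = Q := by
  obtain ⟨g, hg, hle⟩ := h'.exists_conj_ge h.le h.isPGroup
  exact ⟨g, hg, eq_of_le_of_card_ge hle (by rw [card_cj, h.card_eq h'])⟩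

theorem SylP.cj (h : SylP p P X) (g : G) : SylP p (cj g P) (cj g X) :=
  ⟨cj_mono h.le, by rw [card_cj, card_cj]; exact h.card⟩

theorem SylP.cj_of_mem (h : SylP p P X) {g : G} (hg : g ∈ normalizer (X : Set G)) :
    SylP p (CIT.cj g P) X := by
  have := h.cj g
  rwa [mem_normalizer_iff_cj.1 hg] at this

/-- A Sylow subgroup of `Y` contained in a subgroup `X ≤ Y` is Sylow there. -/
theorem SylP.of_le (h : SylP p P Y) (hPX : P ≤ X) (hXY : X ≤ Y) : SylP p P X := by
  refine ⟨hPX, le_antisymm ?_ ?_⟩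
  · exact Nat.le_of_dvd (pow_pos hp.out.pos _) (card_dvd_part hPX h.isPGroup)
  · rw [h.card]
    exact Nat.pow_le_pow_right hp.out.pos
      ((Nat.factorization_le_iff_dvd Nat.card_pos.ne' Nat.card_pos.ne').2 (card_dvd_of_le hXY) p)

/-- A `p`-subgroup which is Sylow in its normaliser in `X` is Sylow in `X`. -/
theorem sylP_of_normalizer (hQ : SylP p Q (X ⊓ normalizer (Q : Set G))) : SylP p Q X := by
  obtain ⟨P, hP, hQP⟩ := exists_sylP_ge (hQ.le.trans inf_le_left) hQ.isPGroup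
  rcases eq_or_lt_of_le hQP with e | hlt
  · rw [e]; exact hP
  exfalso
  haveI := hP.isPGroup.isNilpotent
  have hne : Q.subgroupOf P < ⊤ := lt_of_le_of_ne le_top fun e => hlt.ne
    (le_antisymm hQP (fun x hx => mem_subgroupOf.1 (e.ge (mem_top (⟨x, hx⟩ : P)))))
  obtain ⟨n, hn, hnQ⟩ := SetLike.exists_of_lt (Group.normalizerCondition_of_isNilpotent (G := ↥P) _ hne)
  have hnN : (n : G) ∈ normalizer (Q : Set G) := by
    rw [mem_normalizer_iff] at hn ⊢
    intro x
    constructor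
    · intro hx
      exact mem_subgroupOf.1 ((hn ⟨x, hQP hx⟩).1 (mem_subgroupOf.2 hx))
    · intro hx
      have hxP : x ∈ P := by
        have := P.mul_mem (P.mul_mem (P.inv_mem n.2) (hQP hx)) n.2
        rwa [show (n : G)⁻¹ * ((n : G) * x * (n : G)⁻¹) * n = x by group] at this
      exact mem_subgroupOf.1 ((hn ⟨x, hxP⟩).2 (mem_subgroupOf.2 hx))
  have h1 : Q ⊔ zpowers (n : G) ≤ X ⊓ normalizer (Q : Set G) :=
    sup_le hQ.le (zpowers_le.2 ⟨hP.le n.2, hnN⟩)
  have h2 := hQ.eq_of_le le_sup_left h1 (hP.isPGroup.to_le (sup_le hQP (zpowers_le.2 n.2)))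
  exact hnQ (mem_subgroupOf.2 (h2 ▸ mem_sup_right (mem_zpowers (n : G))))

/-- The Frattini argument. -/
theorem SylP.frattini (h : SylP p P X) {l : G} (hl : l ∈ normalizer (X : Set G)) :
    ∃ x ∈ X, x * l ∈ normalizer (P : Set G) := by
  obtain ⟨x, hx, he⟩ := (h.cj_of_mem hl).exists_conj h
  exact ⟨x, hx, mem_normalizer_iff_cj.2 (by rw [cj_mul, he])⟩

/-- A group of coprime order acting on `X` normalises one of its Sylow subgroups. -/
theorem exists_invariant_sylP {A : Subgroup G} (hA : A ≤ normalizer (X : Set G))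
    (hcop : (Nat.card A).Coprime (Nat.card X)) (hodd : Odd (Nat.card X)) :
    ∃ P, SylP p P X ∧ A ≤ normalizer (P : Set G) := by
  obtain ⟨R, hR⟩ := Core.exists_invariant_sylow hA hcop (Or.inr (Cfsg.Agent.S0205.result hodd)) p
  exact ⟨_, sylP_of_sylow R, hR⟩

/-- An invariant `p`-subgroup lies in an invariant Sylow subgroup. -/
theorem exists_invariant_sylP_ge {A : Subgroup G} (hA : A ≤ normalizer (X : Set G))
    (hcop : (Nat.card A).Coprime (Nat.card X)) (hodd : Odd (Nat.card X)) (hQ : Q ≤ X)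
    (hQp : IsPGroup p Q) (hQA : A ≤ normalizer (Q : Set G)) :
    ∃ P, SylP p P X ∧ Q ≤ P ∧ A ≤ normalizer (P : Set G) := by
  obtain ⟨R, hQR, hR⟩ :=
    Core.exists_invariant_sylow_ge hA hcop (Or.inr (Cfsg.Agent.S0205.result hodd)) hQ hQp hQA
  exact ⟨_, sylP_of_sylow R, hQR, hR⟩

/-- Two invariant Sylow subgroups are conjugate by a centralising element. -/
theorem SylP.exists_centralizing_conj {A : Subgroup G} (h : SylP p P X) (h' : SylP p Q X)
    (hA : A ≤ normalizer (X : Set G)) (hcop : (Nat.card A).Coprime (Nat.card X))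
    (hodd : Odd (Nat.card X)) (hP : A ≤ normalizer (P : Set G)) (hQ : A ≤ normalizer (Q : Set G)) :
    ∃ c ∈ X ⊓ centralizer (A : Set G), CIT.cj c P = Q := by
  obtain ⟨R, rfl⟩ := h.exists_sylow
  obtain ⟨S, rfl⟩ := h'.exists_sylow
  obtain ⟨c, hc, he⟩ :=
    Core.invariant_sylow_conj hA hcop (Or.inr (Cfsg.Agent.S0205.result hodd)) R S hP hQ
  refine ⟨(c : G), ⟨c.2, hc⟩, ?_⟩
  rw [← he, ← Core.sylow_map_conj_smul]
  rfl

end CfsgLib.InvCent
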