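import Cfsg.Agent.Lib.InvCentTwoNilp.Setup
import Cfsg.Agent.Lib.InvCentTwoNilp.CITEmb
import Cfsg.Agent.Lib.InvCentTwoNilp.SylP

/-!
# Proper subgroups reaching outside `M` with a full elementary subgroup (S3214)

Owner: helper5.  For such an `L`: `O(L) = W ∩ L`, the quotient is a simple group with an embedded pair, and
the orbit of the base point is the orbit of every smaller subgroup of this kind.
-/

set_option autoImplicit false
set_option linter.unusedSectionVars false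

namespace CfsgLib.InvCent

open Subgroup CfsgLib.CIT
open CfsgLib.Signalizer (involution_sq involution_inv involution_ne_one orderOf_eq_two_of orderOf_conj)
open CfsgLib.TwoGroups.SE (smul_mk_eq_iff)

universe u

variable {G : Type u} [Group G]

/-- The base point. -/
def base (M : Subgroup G) : G ⧸ M := ((1 : G) : G ⧸ M)

/-- The orbit of the base point under `L`. -/
def Orb (M L : Subgroup G) : Set (G ⧸ M) := {z | ∃ l ∈ L, (l : G ⧸ M) = z}

/-- The conjugate of `W` at a point. -/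
noncomputable def Wp (M : Subgroup G) (z : G ⧸ M) : Subgroup G := cj z.out (Wc M)

/-- `L` is proper, not inside `M`, and contains a full elementary subgroup of `M`. -/
structure Full (M T L : Subgroup G) : Prop where
  ne_top : L ≠ ⊤
  notle : ¬ L ≤ M
  elem : ∃ A' ≤ L ⊓ M, Elem A' ∧ Nat.card A' = Nat.card (invSub T)

variable [Finite G]

theorem Wp_mk {M : Subgroup G} (g : G) : Wp M (g : G ⧸ M) = cj g (Wc M) := by
  obtain ⟨m, hm⟩ := QuotientGroup.mk_out_eq_mul M g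
  rw [Wp, hm, cj_mul, mem_normalizer_iff_cj.1 (Wc_normalized M m.2)]

theorem Wp_base {M : Subgroup G} : Wp M (base M) = Wc M := by rw [base, Wp_mk, cj_one]

theorem smul_base {M : Subgroup G} (g : G) : g • base M = (g : G ⧸ M) := by
  show ((g * 1 : G) : G ⧸ M) = _
  rw [mul_one]

theorem smul_base_eq_iff {M : Subgroup G} {g : G} : g • base M = base M ↔ g ∈ M := by
  rw [base, smul_mk_eq_iff]; simp

theorem Wp_smul {M : Subgroup G} (g : G) (z : G ⧸ M) : Wp M (g • z) = cj g (Wp M z) := by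
  obtain ⟨k, rfl⟩ := QuotientGroup.mk_surjective z
  show Wp M ((g * k : G) : G ⧸ M) = _
  rw [Wp_mk, Wp_mk, cj_mul]

theorem Wp_le_stab {M : Subgroup G} {z : G ⧸ M} {w : G} (hw : w ∈ Wp M z) : w • z = z := by
  obtain ⟨k, rfl⟩ := QuotientGroup.mk_surjective z
  rw [Wp_mk, mem_cj] at hw
  exact (smul_mk_eq_iff w k).2 (Wc_le M hw)

theorem stab_le_norm_Wp {M : Subgroup G} {z : G ⧸ M} {g : G} (hg : g • z = z) :
    g ∈ normalizer (Wp M z : Set G) := by
  rw [mem_normalizer_iff_cj, ← Wp_smul, hg]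

theorem mem_orb_base (M L : Subgroup G) : base M ∈ Orb M L := ⟨1, one_mem L, rfl⟩

theorem smul_mem_orb {M L : Subgroup G} {z : G ⧸ M} (hz : z ∈ Orb M L) {l : G} (hl : l ∈ L) :
    l • z ∈ Orb M L := by
  obtain ⟨k, hk, rfl⟩ := hz
  exact ⟨l * k, mul_mem hl hk, rfl⟩

theorem orb_mono {M L L' : Subgroup G} (h : L' ≤ L) : Orb M L' ⊆ Orb M L := by
  rintro _ ⟨l, hl, rfl⟩
  exact ⟨l, h hl, rfl⟩

theorem exists_involution_of_elem {A : Subgroup G} (hA : Elem A) (h : 2 ≤ Nat.card A) :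
    ∃ a ∈ A, orderOf a = 2 := by
  obtain ⟨a, ha, ha1⟩ := (bot_or_exists_ne_one A).resolve_left fun e => by
    rw [e, card_bot] at h; omega
  exact ⟨a, ha, hA.orderOf_eq ha ha1⟩

theorem Elem.not_isCyclic {A : Subgroup G} (hA : Elem A) (h : 4 ≤ Nat.card A) : ¬ IsCyclic A := by
  intro hc
  obtain ⟨g, hg⟩ := IsCyclic.exists_ofOrder_eq_natCard (α := A)
  have h1 : orderOf g ≤ 2 := orderOf_le_of_pow_eq_one two_pos (Subtype.ext (by
    show (g : G) ^ 2 = 1
    rw [pow_two]; exact hA _ g.2))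
  omega

theorem Elem.card_two_pow {A : Subgroup G} (hA : Elem A) : ∃ n, Nat.card A = 2 ^ n :=
  haveI : Fact (Nat.Prime 2) := ⟨Nat.prime_two⟩
  hA.isPGroup.exists_card_eq

theorem Elem.isMulCommutative {A : Subgroup G} (hA : Elem A) : IsMulCommutative A :=
  hA.isElementary.1

theorem Elem.coprime {A X : Subgroup G} (hA : Elem A) (hX : Odd (Nat.card X)) :
    (Nat.card A).Coprime (Nat.card X) := by
  obtain ⟨n, hn⟩ := hA.card_two_pow
  rw [hn]
  exact (Nat.coprime_two_left.2 hX).pow_left n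

/-- An odd subgroup normalised by a noncyclic elementary subgroup of `M` lies in `W`. -/
theorem Ctx.le_W_of_normalized [IsSimpleGroup G] {M : Subgroup G} (h : Ctx M) {A X : Subgroup G}
    (hAM : A ≤ M) (hA : Elem A) (h4 : 4 ≤ Nat.card A) (hn : A ≤ normalizer (X : Set G))
    (hX : Odd (Nat.card X)) : X ≤ Wc M := by
  haveI := hA.isMulCommutative
  rw [← Cfsg.Agent.S0058.result A X (hA.not_isCyclic h4) hn (hA.coprime hX)]
  refine iSup₂_le fun a ha => ?_
  have ha2 := hA.orderOf_eq ha.1 ha.2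
  exact (h.hI.le_theta ha2 inf_le_right (hX.of_dvd_nat (card_dvd_of_le inf_le_left))).trans
    (h.theta_le a (hAM ha.1) ha2)

/-- `L ∩ M` is strongly embedded in `L`. -/
theorem se_inf {M L : Subgroup G} (hse : Cfsg.IsStronglyEmbedded M) (hLM : ¬ L ≤ M) {t : G}
    (htL : t ∈ L) (htM : t ∈ M) (ht : orderOf t = 2) :
    Cfsg.IsStronglyEmbedded (M.subgroupOf L) := by
  rw [Signalizer.stronglyEmbedded_iff_conj]
  refine ⟨fun e => hLM fun x hx => mem_subgroupOf.1 (e.ge (mem_top (⟨x, hx⟩ : L))), ?_,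
    fun s hs h2 g hg => mem_subgroupOf.2 (se_conj_mem hse hs ((orderOf_coe s).trans h2) hg)⟩
  refine even_iff_two_dvd.2 ?_
  have := Subgroup.orderOf_dvd_natCard (M.subgroupOf L) (mem_subgroupOf.2 htM : (⟨t, htL⟩ : L) ∈ _)
  rwa [Subgroup.orderOf_mk, ht] at this

/-- The involutions of `L ∩ M` are conjugate there. -/
theorem conj_inf {M L : Subgroup G} (hse : Cfsg.IsStronglyEmbedded M) (hLM : ¬ L ≤ M) {s t : G}
    (hs : s ∈ L ⊓ M) (hs2 : orderOf s = 2) (ht : t ∈ L ⊓ M) (ht2 : orderOf t = 2) :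
    ∃ c ∈ L ⊓ M, c * s * c⁻¹ = t := by
  have hse' := se_inf hse hLM hs.1 hs.2 hs2
  obtain ⟨g, hgL, hgM⟩ := SetLike.not_le_iff_exists.1 hLM
  have hxy : ((1 : L) : L ⧸ M.subgroupOf L) ≠ ((⟨g, hgL⟩ : L) : L ⧸ M.subgroupOf L) :=
    fun e => hgM (by simpa [mem_subgroupOf] using QuotientGroup.eq.1 e)
  obtain ⟨d, hdx, -, hd⟩ := TwoGroups.SE.exists_conj_fixing hse' hxy (s := (⟨s, hs.1⟩ : L))
    (t := (⟨t, ht.1⟩ : L)) (by rw [Subgroup.orderOf_mk, hs2])
    ((smul_mk_eq_iff _ 1).2 (by simpa [mem_subgroupOf] using hs.2)) (by rw [Subgroup.orderOf_mk, ht2])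
    ((smul_mk_eq_iff _ 1).2 (by simpa [mem_subgroupOf] using ht.2))
  exact ⟨d, ⟨d.2, by simpa [mem_subgroupOf] using (smul_mk_eq_iff d 1).1 hdx⟩, congrArg Subtype.val hd⟩

namespace Full

variable [IsSimpleGroup G] {M T L : Subgroup G}

/-- A subgroup containing a hyperplane is full. -/
theorem of_hyperplane (h : Ctx M) (hT : IsSyl T M) (hLtop : L ≠ ⊤) (hLM : ¬ L ≤ M) {B : Subgroup G}
    (hBL : B ≤ L ⊓ M) (hB : Elem B) (hq : Nat.card (invSub T) ≤ 2 * Nat.card B) : Full M T L := by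
  classical
  refine ⟨hLtop, hLM, ?_⟩
  have h8 := h.eight_le_invSub hT
  obtain ⟨b0, hb0, hb0o⟩ := exists_involution_of_elem hB (by omega)
  obtain ⟨A', hA', hE, hrep, w, -, hwA⟩ := h.exists_reps hT (H := L ⊓ M) inf_le_right
  refine ⟨A', hA', hE, ?_⟩
  obtain ⟨m, hm⟩ := (h.invSub_elem hT).card_two_pow
  obtain ⟨n, hn⟩ := hE.card_two_pow
  -- `B` injects into `A'`
  have hBle : Nat.card B ≤ Nat.card A' := by
    have hex : ∀ b : B, ∃ a : A', (b : G) * (a : G) ∈ Wc M := by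
      intro b
      by_cases hb1 : (b : G) = 1
      · exact ⟨1, by rw [hb1, one_mul]; exact one_mem _⟩
      obtain ⟨v, hv, hva⟩ := hrep _ (hBL b.2) (hB.orderOf_eq b.2 hb1)
      refine ⟨⟨_, hva⟩, ?_⟩
      show (b : G) * (v * b * v⁻¹) ∈ Wc M
      rw [show (b : G) * (v * b * v⁻¹) = b * v * (b : G)⁻¹ * ((b : G) * b) * v⁻¹ by group,
        hB _ b.2, mul_one]
      exact mul_mem (conj_mem_Wc (hBL b.2).2 hv.2) (inv_mem hv.2)
    choose f hf using hex
    refine Nat.card_le_card_of_injective f fun b b' e => ?_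
    have h1 := mul_mem (hf b) (inv_mem (e ▸ hf b' : (b' : G) * (f b : G) ∈ Wc M))
    rw [mul_inv_rev, mul_assoc, mul_inv_cancel_left, inv_eq_of_mul_eq_one_right (hB _ b'.2)] at h1
    have h2 : (b : G) * b' = 1 := ZStar.eq_one_of_odd_of_sq (odd_orderOf_of_mem (odd_Wc M) h1)
      (by rw [pow_two]; exact hB _ (mul_mem b.2 b'.2))
    rw [mul_eq_one_iff_eq_inv, inv_eq_of_mul_eq_one_right (hB _ b'.2)] at h2
    exact Subtype.ext h2
  have hne : A' ≠ ⊥ := fun e => by rw [e, card_bot] at hBle; omega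
  have h1 := h.card_reps hT inf_le_right hA' hE hrep hne
    fun s hs hs2 t ht ht2 => conj_inf h.se hLM hs hs2 ht ht2
  have h2 : (T ⊔ Wc M).relIndex (L ⊓ M) ∣ (T ⊔ Wc M).relIndex M :=
    Ctx.relIndex_dvd_of_TW inf_le_right (h.TW_normalized hT)
  rw [h1, h.relIndex_TW hT, hm, hn] at h2
  have hle : Nat.card A' ≤ Nat.card (invSub T) := by
    rw [← card_cj w A']; exact card_le_of_le hwA
  rw [hm, hn] at hle ⊢
  rw [hm] at h8 hq
  rw [hn] at hBle
  congr 1
  -- `2 ^ n - 1` divides `2 ^ m - 1`, so `n` divides `m`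
  have h3 : 2 ^ Nat.gcd n m - 1 = 2 ^ n - 1 := by
    rw [← Nat.pow_sub_one_gcd_pow_sub_one]
    exact Nat.gcd_eq_left h2
  have h4 : Nat.gcd n m = n := by
    refine Nat.pow_right_injective le_rfl ?_
    have := Nat.one_le_two_pow (n := Nat.gcd n m)
    have := Nat.one_le_two_pow (n := n)
    show 2 ^ Nat.gcd n m = 2 ^ n
    omega
  have hdvd : n ∣ m := h4 ▸ Nat.gcd_dvd_right n m
  have hnm : n ≤ m := (Nat.pow_le_pow_iff_right (by norm_num)).1 hle
  have hm3 : 3 ≤ m := (Nat.pow_le_pow_iff_right (show 1 < 2 by norm_num)).1 (by norm_num; exact h8)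
  have hmn : m ≤ n + 1 := by
    refine (Nat.pow_le_pow_iff_right (show 1 < 2 by norm_num)).1 ?_
    rw [pow_succ]
    omega
  rcases Nat.lt_or_ge n m with hlt | hge
  · have : n ∣ 1 := by
      have := Nat.dvd_sub hdvd (dvd_refl n)
      rwa [show m - n = 1 by omega] at this
    rw [Nat.dvd_one] at this
    omega
  · omega

variable (hF : Full M T L) (h : Ctx M) (hT : IsSyl T M)
include hF h hT

theorem four_le : ∀ {A' : Subgroup G}, Nat.card A' = Nat.card (invSub T) → 4 ≤ Nat.card A' :=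
  fun {A'} e => by have := h.eight_le_invSub hT; omega

theorem exists_involution : ∃ t, t ∈ L ∧ t ∈ M ∧ orderOf t = 2 := by
  obtain ⟨A', hA', hE, hc⟩ := hF.elem
  obtain ⟨a, ha, ha2⟩ := exists_involution_of_elem hE (by have := hF.four_le h hT hc; omega)
  exact ⟨a, (hA' ha).1, (hA' ha).2, ha2⟩

theorem core_le : Wc L ≤ Wc M := by
  obtain ⟨A', hA', hE, hc⟩ := hF.elem
  exact h.le_W_of_normalized (hA'.trans inf_le_right) hE (hF.four_le h hT hc)
    ((hA'.trans inf_le_left).trans (Wc_normalized L)) (odd_Wc L)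

theorem le_M : Wc L ≤ M := (hF.core_le h hT).trans (Wc_le M)

/-- The data of the quotient `L / O(L)`. -/
theorem quot_data :
    Wc L = Wc M ⊓ L ∧
    CIT (↥L ⧸ Cfsg.oddCore ↥L) ∧
    IsSimpleGroup (↥L ⧸ Cfsg.oddCore ↥L) ∧
    ∃ H : Subgroup (↥L ⧸ Cfsg.oddCore ↥L), IsPGroup 2 H ∧
      ∃ e : Embedded ((M.subgroupOf L).map (QuotientGroup.mk' (Cfsg.oddCore ↥L))) H,
        e.invCount + 1 = Nat.card (invSub T) ∧
        (Nat.card H = Nat.card (invSub T) ∨ Nat.card H = Nat.card (invSub T) ^ 2) ∧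
        ∀ g ∈ (M.subgroupOf L).map (QuotientGroup.mk' (Cfsg.oddCore ↥L)), ∀ k : ℕ,
          orderOf g = 2 ^ k → g ∈ H := by
  classical
  set π := QuotientGroup.mk' (Cfsg.oddCore ↥L) with hπ
  set X := M.subgroupOf L with hX
  set Mb := X.map π with hMb
  have hoddL := ZStar.odd_card_oddCore (↥L)
  obtain ⟨A', hA', hE, hAc⟩ := hF.elem
  have h8 := h.eight_le_invSub hT
  have hcore_le : Cfsg.oddCore ↥L ≤ X := fun x hx => hF.le_M h hT ((mem_Wc_iff x).1 hx)
  have hmem : ∀ x : ↥L, π x ∈ Mb ↔ (x : G) ∈ M := by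
    intro x
    refine ⟨?_, fun hx => ⟨x, hx, rfl⟩⟩
    rintro ⟨y, hy, hyx⟩
    have h1 : y⁻¹ * x ∈ Cfsg.oddCore ↥L := QuotientGroup.eq.1 hyx
    have h2 : (y : G)⁻¹ * x ∈ M := mem_subgroupOf.1 (hcore_le h1)
    have := M.mul_mem (mem_subgroupOf.1 hy) h2
    rwa [mul_inv_cancel_left] at this
  have hIL : TwoNilpCent (↥L ⧸ Cfsg.oddCore ↥L) := (h.hI.subgroup L).quotient hoddL
  -- the image of `A'`
  set Ab := (A'.subgroupOf L).map π with hAb
  have hAbM : Ab ≤ Mb := map_mono fun x hx => mem_subgroupOf.2 (hA' hx).2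
  have hAbE : Elem Ab := by
    rintro _ ⟨x, hx, rfl⟩
    rw [← map_mul, show x * x = 1 from Subtype.ext (hE _ hx), map_one]
  have hAbinj : ∀ x y : ↥L, (x : G) ∈ A' → (y : G) ∈ A' → π x = π y → x = y := by
    intro x y hx hy e
    have h1 : (x : G)⁻¹ * y ∈ Wc L := (mem_Wc_iff (x⁻¹ * y)).1 (QuotientGroup.eq.1 e)
    exact Subtype.ext (inv_mul_eq_one.1 (ZStar.eq_one_of_odd_of_sq
      (odd_orderOf_of_mem (odd_Wc L) h1) (by rw [pow_two]; exact hE _ (mul_mem (inv_mem hx) hy))))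
  have hAbc : Nat.card Ab = Nat.card (invSub T) := by
    rw [← hAc, ← Nat.card_congr (subgroupOfEquivOfLe (hA'.trans inf_le_left)).toEquiv]
    refine (Nat.card_eq_of_bijective (fun x : A'.subgroupOf L => (⟨π x, x, x.2, rfl⟩ : Ab))
      ⟨fun x y e => Subtype.ext (hAbinj _ _ x.2 y.2 (congrArg Subtype.val e)),
        fun ⟨_, x, hx, he⟩ => ⟨⟨x, hx⟩, Subtype.ext he⟩⟩).symm
  obtain ⟨t0, ht0L, ht0M, ht0⟩ := hF.exists_involution h hT
  have hse : Cfsg.IsStronglyEmbedded Mb := by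
    rw [Signalizer.stronglyEmbedded_iff_conj]
    refine ⟨fun e => hF.notle fun x hx => (hmem ⟨x, hx⟩).1 (e.ge (mem_top _)), ?_,
      fun t ht ht2 g hg => ?_⟩
    · obtain ⟨a, ha, ha2⟩ := exists_involution_of_elem hAbE (by omega)
      exact even_iff_two_dvd.2 (by
        have := Subgroup.orderOf_dvd_natCard Mb (hAbM ha)
        rwa [ha2] at this)
    · obtain ⟨t', ht', rfl⟩ := TwoNilpCent.exists_involution_lift hoddL ht2
      obtain ⟨g', rfl⟩ := QuotientGroup.mk_surjective g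
      exact (hmem g').2 (se_conj_mem h.se ((hmem t').1 ht) (by rw [orderOf_coe, ht'])
        ((hmem (g' * t' * g'⁻¹)).1 hg))
  -- `θ` of the quotient comes from `W ∩ L`
  have hθ : ∀ t ∈ Mb, orderOf t = 2 → theta t ≤ Wc Mb := by
    intro t ht ht2
    obtain ⟨t', ht', rfl⟩ := TwoNilpCent.exists_involution_lift hoddL ht2
    have hto : orderOf (t' : G) = 2 := by rw [orderOf_coe, ht']
    have htM := (hmem t').1 ht
    set N := ((Wc M ⊓ L).subgroupOf L).map π with hN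
    have hNle : N ≤ Mb := map_mono fun x hx => mem_subgroupOf.2 (Wc_le M hx.1)
    have hNodd : Odd (Nat.card N) := by
      refine Odd.of_dvd_nat ?_ (card_map_dvd _ _)
      rw [Nat.card_congr (subgroupOfEquivOfLe inf_le_right).toEquiv]
      exact (odd_Wc M).of_dvd_nat (card_dvd_of_le inf_le_left)
    have hNn : Mb ≤ normalizer (N : Set _) := by
      refine le_trans (map_mono (fun x hx => ?_)) (le_normalizer_map _)
      refine mem_normalizer_iff.2 fun y => ?_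
      have hxn := mem_normalizer_iff.1 (Wc_normalized M (mem_subgroupOf.1 hx)) (y : G)
      simp only [mem_subgroupOf, mem_inf, Subgroup.coe_mul, Subgroup.coe_inv]
      exact ⟨fun hy => ⟨hxn.1 hy.1, L.mul_mem (L.mul_mem x.2 y.2) (L.inv_mem x.2)⟩,
        fun hy => ⟨hxn.2 hy.1, y.2⟩⟩
    refine le_trans ?_ (le_Wc hNle hNn hNodd)
    intro z hz
    obtain ⟨x, rfl⟩ := QuotientGroup.mk_surjective z
    have hzo := odd_orderOf_of_mem (odd_card_theta _) hz
    have hzc : (x : ↥L ⧸ Cfsg.oddCore ↥L) * t' = t' * x := mem_cent.1 (InvCent.theta_le _ hz)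
    have h1 : (t' : G) * ((x : G) * t' * (x : G)⁻¹) ∈ Wc L := by
      refine (mem_Wc_iff (t' * (x * t' * x⁻¹))).1 ((QuotientGroup.eq_one_iff _).1 ?_)
      rw [QuotientGroup.mk_mul, QuotientGroup.mk_mul, QuotientGroup.mk_mul, hzc, QuotientGroup.mk_inv,
        mul_inv_cancel_right]
      exact involution_sq ht2
    obtain ⟨v, hv, hvt⟩ := exists_conj_of_mul_mem (odd_Wc L) hto ((orderOf_conj _ _).trans hto) h1
    set y : ↥L := (⟨v, Wc_le L hv⟩ : ↥L)⁻¹ * x with hy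
    have hyx : π y = (x : ↥L ⧸ Cfsg.oddCore ↥L) := by
      show ((y : ↥L) : ↥L ⧸ Cfsg.oddCore ↥L) = _
      rw [hy, QuotientGroup.mk_mul, QuotientGroup.mk_inv,
        (QuotientGroup.eq_one_iff (⟨v, Wc_le L hv⟩ : ↥L)).2 ((mem_Wc_iff _).2 hv), inv_one, one_mul]
    have hyc : Commute (y : G) (t' : G) := by
      show v⁻¹ * (x : G) * t' = t' * (v⁻¹ * (x : G))
      calc v⁻¹ * (x : G) * t' = v⁻¹ * ((x : G) * t' * (x : G)⁻¹) * x := by group
        _ = (t' : G) * (v⁻¹ * x) := by rw [← hvt]; group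
    obtain ⟨e, r, hr, her⟩ := Nat.exists_eq_two_pow_mul_odd (orderOf_pos (y : G)).ne'
    have ho : Odd (orderOf ((y : G) ^ 2 ^ e)) := by
      rw [orderOf_pow_of_dvd (pow_ne_zero _ two_ne_zero) (her ▸ dvd_mul_right _ _), her,
        Nat.mul_div_cancel_left _ (pow_pos two_pos e)]
      exact hr
    have hyW : (y : G) ^ 2 ^ e ∈ Wc M :=
      h.theta_le _ htM hto (h.hI.mem_theta hto (hyc.pow_left _).eq ho)
    obtain ⟨i, hi⟩ : ∃ i : ℕ, ((x : ↥L ⧸ Cfsg.oddCore ↥L) ^ 2 ^ e) ^ i = x :=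
      exists_pow_eq_self_of_coprime (hzo.coprime_two_left.pow_left e)
    refine ⟨(y ^ 2 ^ e) ^ i, pow_mem (?_ : y ^ 2 ^ e ∈ (Wc M ⊓ L).subgroupOf L) i, ?_⟩
    · exact mem_subgroupOf.2 ⟨by rw [Subgroup.coe_pow]; exact hyW, (y ^ 2 ^ e).2⟩
    rw [map_pow, map_pow, hyx, hi]
  have hlt : Nat.card (↥L ⧸ Cfsg.oddCore ↥L) < Nat.card G := by
    refine lt_of_le_of_lt (Nat.card_le_card_of_surjective _ QuotientGroup.mk_surjective) ?_
    refine lt_of_le_of_ne (card_le_card_group L) fun e => hF.ne_top ?_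
    exact eq_top_of_card_eq L e
  have hMbO : Cfsg.oddCore ↥Mb = ⊥ :=
    h.ih _ hlt (Core.pPrimeCore_quotient_pPrimeCore 2 ↥L) hIL Mb hse ⟨Ab, hAbM, hAbE, by omega⟩ hθ
  have hWMb : Wc Mb = ⊥ := by rw [Wc, hMbO, Subgroup.map_bot]
  have hcore : Wc L = Wc M ⊓ L := by
    refine le_antisymm (le_inf (hF.core_le h hT) (Wc_le L)) fun x hx => ?_
    set N := ((Wc M ⊓ L).subgroupOf L).map π with hN
    have hNle : N ≤ Mb := map_mono fun x hx => mem_subgroupOf.2 (Wc_le M hx.1)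
    have hNodd : Odd (Nat.card N) := by
      refine Odd.of_dvd_nat ?_ (card_map_dvd _ _)
      rw [Nat.card_congr (subgroupOfEquivOfLe inf_le_right).toEquiv]
      exact (odd_Wc M).of_dvd_nat (card_dvd_of_le inf_le_left)
    have hNn : Mb ≤ normalizer (N : Set _) := by
      refine le_trans (map_mono (fun x hx => ?_)) (le_normalizer_map _)
      refine mem_normalizer_iff.2 fun y => ?_
      have hxn := mem_normalizer_iff.1 (Wc_normalized M (mem_subgroupOf.1 hx)) (y : G)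
      simp only [mem_subgroupOf, mem_inf, Subgroup.coe_mul, Subgroup.coe_inv]
      exact ⟨fun hy => ⟨hxn.1 hy.1, L.mul_mem (L.mul_mem x.2 y.2) (L.inv_mem x.2)⟩,
        fun hy => ⟨hxn.2 hy.1, y.2⟩⟩
    have h1 : π ⟨x, hx.2⟩ ∈ Wc Mb := le_Wc hNle hNn hNodd ⟨⟨x, hx.2⟩, hx, rfl⟩
    rw [hWMb, mem_bot] at h1
    exact (mem_Wc_iff (⟨x, hx.2⟩ : ↥L)).1 ((QuotientGroup.eq_one_iff _).1 h1)
  have hC : CIT (↥L ⧸ Cfsg.oddCore ↥L) := by
    refine hIL.cit fun t ht => ?_
    obtain ⟨a, ha, ha2⟩ := exists_involution_of_elem hAbE (by omega)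
    obtain ⟨c, hc⟩ := isConj_iff.1 (TwoGroups.SE.isConj_involutions hse ha2 ht)
    have h1 := hθ a (hAbM ha) ha2
    rw [hWMb, le_bot_iff] at h1
    rw [← hc, theta_map_conj, h1, Subgroup.map_bot]
  obtain ⟨H, hH, e, hi, hcomm, h2el⟩ := exists_embedded hC hse hMbO hAbM hAbE (by omega)
  haveI hsimple := simple_of_embedded e hC hH hi (Core.pPrimeCore_quotient_pPrimeCore 2 ↥L)
  -- count the involutions
  have hinv : e.invCount + 1 = Nat.card (invSub T) := by
    obtain ⟨A'', hA'', hE'', hrep, w, -, hwA⟩ := h.exists_reps hT (H := L ⊓ M) inf_le_right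
    have hle'' : Nat.card A'' ≤ Nat.card (invSub T) := by
      rw [← card_cj w A'']; exact card_le_of_le hwA
    have hsurj : ∀ t ∈ Mb, orderOf t = 2 → ∃ a ∈ A'', ∃ haL : a ∈ L, a ≠ 1 ∧ π ⟨a, haL⟩ = t := by
      intro t ht ht2
      obtain ⟨t', ht', rfl⟩ := TwoNilpCent.exists_involution_lift hoddL ht2
      obtain ⟨v, hv, hva⟩ := hrep (t' : G) ⟨t'.2, (hmem t').1 ht⟩ (by rw [orderOf_coe, ht'])
      have hv1 : π ⟨v, (mem_inf.1 hv).1.1⟩ = 1 :=
        (QuotientGroup.eq_one_iff _).2 ((mem_Wc_iff _).2 (hcore.ge ⟨hv.2, hv.1.1⟩))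
      refine ⟨_, hva, (hA'' hva).1, fun e => involution_ne_one ht' (Subtype.ext (conj_eq_one_iff.1 e)), ?_⟩
      show π (⟨v, hv.1.1⟩ * t' * ⟨v, hv.1.1⟩⁻¹) = _
      rw [map_mul, map_mul, map_inv, hv1, one_mul, inv_one, mul_one]
      rfl
    have hup : e.invCount + 1 ≤ Nat.card A'' := by
      have h1 : ∀ t : {t : ↥L ⧸ Cfsg.oddCore ↥L // orderOf t = 2 ∧ t ∈ Mb},
          ∃ a : A'', (a : G) ≠ 1 ∧ ∃ haL : (a : G) ∈ L, π ⟨a, haL⟩ = t := fun t => by
        obtain ⟨a, ha, haL, ha1, hat⟩ := hsurj t t.2.2 t.2.1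
        exact ⟨⟨a, ha⟩, ha1, haL, hat⟩
      choose f hf1 hf2 hf3 using h1
      haveI := Fintype.ofFinite {t : ↥L ⧸ Cfsg.oddCore ↥L // orderOf t = 2 ∧ t ∈ Mb}
      haveI := Fintype.ofFinite A''
      have h2 : Fintype.card {t : ↥L ⧸ Cfsg.oddCore ↥L // orderOf t = 2 ∧ t ∈ Mb} <
          Fintype.card A'' := by
        refine Fintype.card_lt_of_injective_of_notMem f (b := (1 : A'')) (fun s s' e' => ?_) ?_
        · refine Subtype.ext ((hf3 s).symm.trans ((congrArg π (Subtype.ext ?_)).trans (hf3 s')))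
          show ((f s : A'') : G) = ((f s' : A'') : G)
          rw [e']
        · rintro ⟨s, hs⟩
          exact hf1 s (congrArg Subtype.val hs)
      show Nat.card {t : ↥L ⧸ Cfsg.oddCore ↥L // orderOf t = 2 ∧ t ∈ Mb} + 1 ≤ _
      rw [Nat.card_eq_fintype_card, Nat.card_eq_fintype_card]
      omega
    have hdown : Nat.card (invSub T) ≤ e.invCount + 1 := by
      rw [← hAbc]
      show Nat.card Ab ≤ Nat.card {t : ↥L ⧸ Cfsg.oddCore ↥L // orderOf t = 2 ∧ t ∈ Mb} + 1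
      haveI := Fintype.ofFinite {t : ↥L ⧸ Cfsg.oddCore ↥L // orderOf t = 2 ∧ t ∈ Mb}
      haveI := Fintype.ofFinite Ab
      have h1 : Fintype.card {a : Ab // (a : ↥L ⧸ Cfsg.oddCore ↥L) ≠ 1} ≤
          Fintype.card {t : ↥L ⧸ Cfsg.oddCore ↥L // orderOf t = 2 ∧ t ∈ Mb} :=
        Fintype.card_le_of_injective (fun a => ⟨a.1.1, hAbE.orderOf_eq a.1.2 a.2, hAbM a.1.2⟩)
          fun a b e' => Subtype.ext (Subtype.ext (congrArg Subtype.val e' :))
      rw [Fintype.card_subtype_compl,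
        (Fintype.card_eq_one_iff (α := {a : Ab // (a : ↥L ⧸ Cfsg.oddCore ↥L) = 1})).2
          ⟨⟨1, rfl⟩, fun y => Subtype.ext (Subtype.ext y.2)⟩] at h1
      rw [Nat.card_eq_fintype_card, Nat.card_eq_fintype_card]
      omega
    omega
  refine ⟨hcore, hC, hsimple, H, hH, e, hinv, ?_, h2el⟩
  have := card_kernel e hH hi hcomm
  rwa [hinv] at this

theorem core_eq : Wc L = Wc M ⊓ L := (hF.quot_data h hT).1

theorem core_eq_Wp {z : G ⧸ M} (hz : z ∈ Orb M L) : Wc L = Wp M z ⊓ L := by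
  obtain ⟨l, hl, rfl⟩ := hz
  rw [Wp_mk]
  calc Wc L = cj l (Wc L) := (mem_normalizer_iff_cj.1 (Wc_normalized L hl)).symm
    _ = cj l (Wc M ⊓ L) := by rw [hF.core_eq h hT]
    _ = cj l (Wc M) ⊓ L := by
        rw [CIT.cj, map_inf_eq _ _ _ (MulAut.conj l).injective]
        congr 1
        exact mem_normalizer_iff_cj.1 (le_normalizer hl)

theorem core_fix {z : G ⧸ M} (hz : z ∈ Orb M L) {w : G} (hw : w ∈ Wc L) : w • z = z :=
  Wp_le_stab ((hF.core_eq_Wp h hT hz).le hw).1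

/-- All involutions of `L` are conjugate in `L`. -/
theorem conj_L {s t : G} (hs : s ∈ L) (hs2 : orderOf s = 2) (ht : t ∈ L) (ht2 : orderOf t = 2) :
    ∃ c ∈ L, c * s * c⁻¹ = t := by
  obtain ⟨t0, ht0L, ht0M, ht0⟩ := hF.exists_involution h hT
  obtain ⟨c, hc⟩ := isConj_iff.1 (TwoGroups.SE.isConj_involutions
    (se_inf h.se hF.notle ht0L ht0M ht0) (a := (⟨s, hs⟩ : L)) (b := (⟨t, ht⟩ : L))
    (by rw [Subgroup.orderOf_mk, hs2]) (by rw [Subgroup.orderOf_mk, ht2]))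
  exact ⟨c, c.2, congrArg Subtype.val hc⟩

/-- The fixed point of an involution of `L` lies in the orbit. -/
theorem involution_orbit {t : G} (ht : t ∈ L) (ht2 : orderOf t = 2) {z : G ⧸ M} (hz : t • z = z) :
    z ∈ Orb M L := by
  obtain ⟨t0, ht0L, ht0M, ht0⟩ := hF.exists_involution h hT
  obtain ⟨c, hc, e⟩ := hF.conj_L h hT ht0L ht0 ht ht2
  have h1 : t • (c : G ⧸ M) = (c : G ⧸ M) := by
    rw [smul_mk_eq_iff, ← e]
    simpa [mul_assoc] using ht0M
  exact ⟨c, hc, TwoGroups.SE.fixed_unique h.se ht2 h1 hz⟩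

/-- Swappers in `L`. -/
theorem exists_swap {z : G ⧸ M} (hz : z ∈ Orb M L) (hne : z ≠ base M) :
    ∃ u ∈ L, orderOf u = 2 ∧ u • base M = z := by
  obtain ⟨l, hl, rfl⟩ := hz
  obtain ⟨t0, ht0L, ht0M, ht0⟩ := hF.exists_involution h hT
  have hse := se_inf h.se hF.notle ht0L ht0M ht0
  have hxy : ((1 : L) : L ⧸ M.subgroupOf L) ≠ ((⟨l, hl⟩ : L) : L ⧸ M.subgroupOf L) := fun e => by
    refine hne (QuotientGroup.eq.2 ?_).symm
    simpa [mem_subgroupOf] using QuotientGroup.eq.1 e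
  have hpos : 0 < Nat.card {i : L // orderOf i = 2 ∧
      i • ((1 : L) : L ⧸ M.subgroupOf L) = ((⟨l, hl⟩ : L) : L ⧸ M.subgroupOf L)} := by
    rw [TwoGroups.SE.card_swapping hse _ _ hxy]
    haveI : Nonempty {t : L // orderOf t = 2 ∧ t ∈ M.subgroupOf L} :=
      ⟨⟨⟨t0, ht0L⟩, by rw [Subgroup.orderOf_mk, ht0], ht0M⟩⟩
    exact Nat.card_pos
  obtain ⟨⟨u, hu, hux⟩⟩ := (Nat.card_pos_iff.1 hpos).1
  refine ⟨u, u.2, by rw [orderOf_coe, hu], ?_⟩
  rw [smul_base]
  have h1 : ((u * 1 : L) : L ⧸ M.subgroupOf L) = ((⟨l, hl⟩ : L) : L ⧸ M.subgroupOf L) := hux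
  rw [mul_one] at h1
  exact QuotientGroup.eq.2 (by simpa [mem_subgroupOf] using QuotientGroup.eq.1 h1)

/-- The orbit has `|H| + 1` points; `|L|` and the point stabiliser. -/
theorem card_data : ∃ h' : ℕ, (h' = Nat.card (invSub T) ∨ h' = Nat.card (invSub T) ^ 2) ∧
    Nat.card (Orb M L) = h' + 1 ∧
    Nat.card (L ⊓ M : Subgroup G) = Nat.card (Wc L) * (h' * (Nat.card (invSub T) - 1)) ∧
    Nat.card L = Nat.card (Wc L) * ((h' + 1) * (h' * (Nat.card (invSub T) - 1))) := by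
  classical
  obtain ⟨-, -, hsimple, H, hH, e, hinv, hcases, -⟩ := hF.quot_data h hT
  have h8 := h.eight_le_invSub hT
  have hi : 2 ≤ e.invCount := by omega
  refine ⟨Nat.card H, hcases, ?_⟩
  have hq : Nat.card (invSub T) - 1 = e.invCount := by omega
  rw [hq]
  set π := QuotientGroup.mk' (Cfsg.oddCore ↥L) with hπ
  have hker : π.ker ≤ M.subgroupOf L := by
    rw [QuotientGroup.ker_mk']
    exact fun x hx => hF.le_M h hT ((mem_Wc_iff x).1 hx)
  have hidx : ((M.subgroupOf L).map π).index = (M.subgroupOf L).index :=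
    index_map_eq _ (QuotientGroup.mk'_surjective _) hker
  have horb : Nat.card (Orb M L) = (M.subgroupOf L).index := by
    rw [index_eq_card]
    refine (Nat.card_eq_of_bijective (fun q : ↥L ⧸ M.subgroupOf L =>
      (⟨((q.out : ↥L) : G), (q.out : ↥L), (q.out : ↥L).2, rfl⟩ : Orb M L)) ⟨fun p q e' => ?_, ?_⟩).symm
    · rw [← p.out_eq, ← q.out_eq]
      refine QuotientGroup.eq.2 (mem_subgroupOf.2 ?_)
      simpa using QuotientGroup.eq.1 (congrArg Subtype.val e')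
    · rintro ⟨_, l, hl, rfl⟩
      refine ⟨((⟨l, hl⟩ : ↥L) : ↥L ⧸ M.subgroupOf L), Subtype.ext (QuotientGroup.eq.2 ?_)⟩
      obtain ⟨m, hm⟩ := QuotientGroup.mk_out_eq_mul (M.subgroupOf L) (⟨l, hl⟩ : ↥L)
      rw [hm]
      simpa [mul_assoc] using M.inv_mem (mem_subgroupOf.1 m.2)
  have hpts : Nat.card (Orb M L) = Nat.card H + 1 := by
    rw [horb, ← hidx, index_eq_card, e.card_points hi]
  refine ⟨hpts, ?_⟩
  have hL : Nat.card L = Nat.card (Wc L) * ((Nat.card H + 1) * (Nat.card H * e.invCount)) := by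
    rw [← e.card_group hi, (Cfsg.oddCore ↥L).card_eq_card_quotient_mul_card_subgroup, mul_comm,
      Wc, card_map_of_injective (subtype_injective _)]
  refine ⟨?_, hL⟩
  have h1 := (M.subgroupOf L).card_mul_index
  rw [← horb, hpts, ← inf_subgroupOf_right,
    Nat.card_congr (subgroupOfEquivOfLe (inf_le_right : M ⊓ L ≤ L)).toEquiv, inf_comm, hL] at h1
  refine Nat.eq_of_mul_eq_mul_right (Nat.succ_pos (Nat.card H)) ?_
  rw [Nat.succ_eq_add_one, h1]
  ring

/-- Elements of 2-power order of `L ∩ M` are transitive on the other points of the orbit. -/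
theorem exists_two_move {y z : G ⧸ M} (hy : y ∈ Orb M L) (hz : z ∈ Orb M L) (hya : y ≠ base M)
    (hza : z ≠ base M) : ∃ t ∈ L ⊓ M, (∃ k, orderOf t = 2 ^ k) ∧ t • y = z := by
  classical
  obtain ⟨-, -, -, H, hH, e, hinv, -, -⟩ := hF.quot_data h hT
  have h8 := h.eight_le_invSub hT
  obtain ⟨l, hl, rfl⟩ := hy
  obtain ⟨l', hl', rfl⟩ := hz
  set π := QuotientGroup.mk' (Cfsg.oddCore ↥L) with hπ
  have hmem : ∀ x : ↥L, π x ∈ (M.subgroupOf L).map π ↔ (x : G) ∈ M := by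
    intro x
    refine ⟨?_, fun hx => ⟨x, hx, rfl⟩⟩
    rintro ⟨y, hy, hyx⟩
    have h2 := hF.le_M h hT ((mem_Wc_iff _).1 (QuotientGroup.eq.1 hyx))
    have := M.mul_mem (mem_subgroupOf.1 hy) h2
    rwa [Subgroup.coe_mul, Subgroup.coe_inv, mul_inv_cancel_left] at this
  have hne : ∀ k : G, ∀ hk : k ∈ L, (k : G ⧸ M) ≠ base M →
      (QuotientGroup.mk (π ⟨k, hk⟩) : (↥L ⧸ Cfsg.oddCore ↥L) ⧸ (M.subgroupOf L).map π) ≠
        QuotientGroup.mk (1 : ↥L ⧸ Cfsg.oddCore ↥L) :=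
    fun k hk hka e' => hka (QuotientGroup.eq.2 (by
      have h1 := QuotientGroup.eq.1 e'
      rw [mul_one, ← map_inv] at h1
      simpa using (hmem _).1 h1))
  obtain ⟨a, ha, hmv⟩ := e.exists_ker (by omega) (hne l hl hya) (hne l' hl' hza)
  have haH : a ∈ H := e.inH_one.1 ha
  obtain ⟨g, hgM, rfl⟩ : ∃ g : ↥L, (g : G) ∈ M ∧ π g = a := by
    obtain ⟨g, hg, hga⟩ := e.hle haH
    exact ⟨g, mem_subgroupOf.1 hg, hga⟩
  obtain ⟨c, r, hr, hcr⟩ := Nat.exists_eq_two_pow_mul_odd (orderOf_pos g).ne'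
  obtain ⟨j, hj⟩ := orderOf_two_pow_of_mem hH haH
  obtain ⟨i, hi⟩ : ∃ i : ℕ, (π g ^ r) ^ i = π g :=
    exists_pow_eq_self_of_coprime (by rw [hj]; exact (hr.coprime_two_right).pow_right j)
  have hto : orderOf ((g : G) ^ r) = 2 ^ c := by
    rw [orderOf_pow_of_dvd hr.pos.ne' (by rw [orderOf_coe, hcr]; exact dvd_mul_left _ _), orderOf_coe,
      hcr, Nat.mul_div_cancel _ hr.pos]
  refine ⟨(((g ^ r) ^ i : ↥L) : G), ⟨((g ^ r) ^ i).2, ?_⟩, ?_, ?_⟩
  · simpa using pow_mem (pow_mem hgM r) i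
  · obtain ⟨c', -, hc'⟩ := (Nat.dvd_prime_pow Nat.prime_two).1
      (hto ▸ (orderOf_pow_dvd i : orderOf (((g : G) ^ r) ^ i) ∣ _))
    exact ⟨c', by simpa using hc'⟩
  · show ((((g ^ r) ^ i : ↥L) : G) * l : G ⧸ M) = (l' : G)
    refine QuotientGroup.eq.2 ?_
    have h1 : (π g * π ⟨l, hl⟩)⁻¹ * π ⟨l', hl'⟩ ∈ (M.subgroupOf L).map π := QuotientGroup.eq.1 hmv
    have h2 : π ((g ^ r) ^ i) = π g := by rw [map_pow, map_pow, hi]
    rw [← h2, ← map_mul, ← map_inv, ← map_mul, hmem] at h1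
    exact h1

/-- Every involution centralises a subgroup normalised by `L` and centralised by one involution. -/
theorem involution_centralizes {P : Subgroup G} (hP : L ≤ normalizer (P : Set G)) {t : G}
    (ht : t ∈ L) (ht2 : orderOf t = 2) (htP : ∀ x ∈ P, t * x = x * t) {s : G} (hs : s ∈ L)
    (hs2 : orderOf s = 2) : ∀ x ∈ P, s * x = x * s := by
  obtain ⟨c, hc, e⟩ := hF.conj_L h hT ht ht2 hs hs2
  intro x hx
  have hx' : c⁻¹ * x * c ∈ P := (mem_normalizer_iff''.1 (hP hc) x).1 hx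
  have h1 := htP _ hx'
  rw [← e]
  calc c * t * c⁻¹ * x = c * (t * (c⁻¹ * x * c)) * c⁻¹ := by group
    _ = x * (c * t * c⁻¹) := by rw [h1]; group

/-- If an involution centralises `P`, then `L = C_L(P) O(L)`. -/
theorem le_centralizer_sup {P : Subgroup G} (hP : L ≤ normalizer (P : Set G)) {t : G}
    (ht : t ∈ L) (ht2 : orderOf t = 2) (htP : ∀ x ∈ P, t * x = x * t) :
    ∀ l ∈ L, ∃ c ∈ L ⊓ centralizer (P : Set G), ∃ o ∈ Wc L, l = c * o := by
  obtain ⟨-, -, hsimple, -⟩ := hF.quot_data h hT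
  set C := (centralizer (P : Set G)).subgroupOf L with hCdef
  haveI : C.Normal := by
    refine ⟨fun x hx g => mem_subgroupOf.2 (mem_centralizer_iff.2 fun p hp => ?_)⟩
    have hp' : (g : G)⁻¹ * p * g ∈ P := (mem_normalizer_iff''.1 (hP g.2) p).1 hp
    have h1 := mem_centralizer_iff.1 (mem_subgroupOf.1 hx) _ hp'
    simp only [Subgroup.coe_mul, Subgroup.coe_inv]
    calc p * ((g : G) * x * (g : G)⁻¹) = g * ((g : G)⁻¹ * p * g * x) * (g : G)⁻¹ := by group
      _ = (g : G) * x * (g : G)⁻¹ * p := by rw [h1]; group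
  set π := QuotientGroup.mk' (Cfsg.oddCore ↥L) with hπ
  haveI : (C.map π).Normal := Subgroup.Normal.map inferInstance π (QuotientGroup.mk'_surjective _)
  have htC : π ⟨t, ht⟩ ∈ C.map π :=
    ⟨⟨t, ht⟩, mem_centralizer_iff.2 fun p hp => (htP p hp).symm, rfl⟩
  have htop : C.map π = ⊤ := (IsSimpleGroup.eq_bot_or_eq_top_of_normal (C.map π) inferInstance).resolve_left
    fun e => by
      rw [e, mem_bot] at htC
      have := odd_orderOf_of_mem (odd_Wc L) ((mem_Wc_iff (⟨t, ht⟩ : ↥L)).1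
        ((QuotientGroup.eq_one_iff _).1 htC))
      rw [ht2] at this
      exact absurd this (by decide)
  intro l hl
  obtain ⟨c, hc, hcl⟩ := htop.ge (mem_top (π ⟨l, hl⟩))
  refine ⟨c, ⟨c.2, mem_subgroupOf.1 hc⟩, (c : G)⁻¹ * l, ?_, by rw [mul_inv_cancel_left]⟩
  exact (mem_Wc_iff (c⁻¹ * ⟨l, hl⟩)).1 ((QuotientGroup.eq (a := c) (b := (⟨l, hl⟩ : ↥L))).1 hcl)

/-- Elements of 2-power order centralise such a subgroup. -/
theorem two_centralizes {P : Subgroup G} (hP : L ≤ normalizer (P : Set G)) {t : G}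
    (ht : t ∈ L) (ht2 : orderOf t = 2) (htP : ∀ x ∈ P, t * x = x * t) {g : G} (hg : g ∈ L) {k : ℕ}
    (hk : orderOf g = 2 ^ k) : g ∈ centralizer (P : Set G) := by
  obtain ⟨c, hc, o, ho, e⟩ := hF.le_centralizer_sup h hT hP ht ht2 htP g hg
  set N := (centralizer (P : Set G)).subgroupOf L with hN
  haveI : N.Normal := normal_subgroupOf_of_le_normalizer (fun l hl => by
    refine mem_normalizer_iff.2 fun x => ?_
    constructor <;> intro hx <;> refine mem_centralizer_iff.2 fun p hp => ?_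
    · have hp' : l⁻¹ * p * l ∈ P := (mem_normalizer_iff''.1 (hP hl) p).1 hp
      have h1 := mem_centralizer_iff.1 hx _ hp'
      calc p * (l * x * l⁻¹) = l * (l⁻¹ * p * l * x) * l⁻¹ := by group
        _ = l * x * l⁻¹ * p := by rw [h1]; group
    · have hp' : l * p * l⁻¹ ∈ P := (mem_normalizer_iff.1 (hP hl) p).1 hp
      have h1 := mem_centralizer_iff.1 hx _ hp'
      calc p * x = l⁻¹ * (l * p * l⁻¹ * (l * x * l⁻¹)) * l := by group
        _ = x * p := by rw [h1]; group)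
  -- the image of `g` modulo `C_L(P)` has both odd and 2-power order
  have h1 : ((⟨g, hg⟩ : ↥L) : ↥L ⧸ N) = ((⟨o, Wc_le L ho⟩ : ↥L) : ↥L ⧸ N) := by
    refine (QuotientGroup.eq.2 ?_).symm
    rw [show (⟨g, hg⟩ : ↥L) = ⟨c, hc.1⟩ * ⟨o, Wc_le L ho⟩ from Subtype.ext e]
    have := Subgroup.Normal.conj_mem (inferInstance : N.Normal) ⟨c, hc.1⟩ hc.2
      (⟨o, Wc_le L ho⟩ : ↥L)⁻¹
    simpa [mul_assoc] using this
  have h2 := (orderOf_map_dvd (QuotientGroup.mk' N) (⟨g, hg⟩ : ↥L)).trans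
    (dvd_of_eq ((Subgroup.orderOf_mk g hg).trans hk))
  have h3 := (orderOf_map_dvd (QuotientGroup.mk' N) (⟨o, Wc_le L ho⟩ : ↥L)).trans
    (dvd_of_eq (Subgroup.orderOf_mk o (Wc_le L ho)))
  have h4 : ((⟨g, hg⟩ : ↥L) : ↥L ⧸ N) = 1 := orderOf_eq_one_iff.1 (Nat.eq_one_of_dvd_coprimes
    ((odd_orderOf_of_mem (odd_Wc L) ho).coprime_two_left.pow_left k) h2 (by rw [h1]; exact h3))
  exact mem_subgroupOf.1 ((QuotientGroup.eq_one_iff _).1 h4)

/-- Nested full subgroups have the same orbit. -/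
theorem orb_eq {L' : Subgroup G} (hF' : Full M T L') (hle : L' ≤ L) : Orb M L' = Orb M L := by
  classical
  obtain ⟨a, ha, hoa, -, hLa⟩ := hF.card_data h hT
  obtain ⟨b, hb, hob, -, hLb⟩ := hF'.card_data h hT
  have h8 := h.eight_le_invSub hT
  obtain ⟨m, hm⟩ := (h.invSub_elem hT).card_two_pow
  set q := Nat.card (invSub T) with hq
  have hsub : Orb M L' ⊆ Orb M L := orb_mono hle
  have hle' : b + 1 ≤ a + 1 := by
    rw [← hoa, ← hob]
    exact Nat.card_mono (Set.toFinite _) hsub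
  refine Set.eq_of_subset_of_ncard_le hsub ?_ (Set.toFinite _)
  rw [← Nat.card_coe_set_eq, ← Nat.card_coe_set_eq, hoa, hob]
  rcases ha with rfl | rfl
  · rcases hb with rfl | rfl
    · omega
    · nlinarith
  · rcases hb with rfl | rfl
    swap
    · omega
    exfalso
    have hrel : Wc L' = Wc L ⊓ L' := by
      rw [hF'.core_eq h hT, hF.core_eq h hT, inf_assoc, inf_eq_right.2 hle]
    have h1 : (Wc L).relIndex L' ∣ (Wc L).relIndex L :=
      Ctx.relIndex_dvd_of_TW hle (Wc_normalized L)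
    have hA : Nat.card (Wc L) * (Wc L).relIndex L = Nat.card L := by
      rw [← Nat.card_congr (subgroupOfEquivOfLe (Wc_le L)).toEquiv]
      exact card_mul_index _
    have hB : Nat.card (Wc L') * (Wc L).relIndex L' = Nat.card L' := by
      rw [hrel, ← Nat.card_congr (subgroupOfEquivOfLe (inf_le_right : Wc L ⊓ L' ≤ L')).toEquiv,
        inf_subgroupOf_right]
      exact card_mul_index _
    rw [hLa] at hA
    rw [hLb] at hB
    rw [Nat.eq_of_mul_eq_mul_left Nat.card_pos hA, Nat.eq_of_mul_eq_mul_left Nat.card_pos hB] at h1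
    -- `q + 1` is prime to `q` and `q ^ 2 + 1`, and to `q - 1` as both are odd
    have h2 : q + 1 ∣ (q ^ 2 + 1) * (q ^ 2 * (q - 1)) := (dvd_mul_right _ _).trans h1
    have hq1 : Odd (q + 1) := by
      refine Even.add_one ?_
      rw [hm]
      refine Nat.even_pow.2 ⟨even_two, fun e => ?_⟩
      rw [hm, e] at h8; norm_num at h8
    have hc1 : (q + 1).Coprime q := by simp
    have hc2 : (q + 1).Coprime (q - 1) := by
      refine Nat.coprime_of_dvd' fun k hk hk1 hk2 => ?_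
      have h3 := Nat.dvd_sub hk1 hk2
      rw [show q + 1 - (q - 1) = 2 by omega] at h3
      rw [(Nat.prime_dvd_prime_iff_eq hk Nat.prime_two).1 h3] at hk1
      exact absurd hk1 hq1.not_two_dvd_nat
    have hc3 : (q + 1).Coprime (q ^ 2 + 1) := by
      refine Nat.coprime_of_dvd' fun k hk hk1 hk2 => ?_
      have h3 : k ∣ q * q + 2 * q + 1 := by
        rw [show q * q + 2 * q + 1 = (q + 1) * (q + 1) by ring]
        exact hk1.mul_right _
      have h4 := Nat.dvd_sub h3 hk2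
      rw [show q * q + 2 * q + 1 - (q ^ 2 + 1) = 2 * q by rw [pow_two]; omega] at h4
      rcases hk.dvd_mul.1 h4 with h5 | h5
      · rw [(Nat.prime_dvd_prime_iff_eq hk Nat.prime_two).1 h5] at hk1
        exact absurd hk1 hq1.not_two_dvd_nat
      · have h6 := Nat.dvd_sub hk1 h5
        rw [show q + 1 - q = 1 by omega] at h6
        exact h6
    have h5 := (hc3.mul_right ((hc1.pow_right 2).mul_right hc2)).eq_one_of_dvd h2
    omega

/-- The Frattini argument: the orbit of the normaliser of a Sylow subgroup of `O(L)`. -/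
theorem frattini {p : ℕ} [Fact p.Prime] {P : Subgroup G} (hP : SylP p P (Wc L)) :
    Full M T (L ⊓ normalizer (P : Set G)) ∧ Orb M (L ⊓ normalizer (P : Set G)) = Orb M L := by
  obtain ⟨A', hA', hE, hc⟩ := hF.elem
  have horb : Orb M L ⊆ Orb M (L ⊓ normalizer (P : Set G)) := by
    rintro _ ⟨l, hl, rfl⟩
    obtain ⟨o, ho, hn⟩ := hP.frattini (Wc_normalized L hl)
    refine ⟨o * l, ⟨mul_mem (Wc_le L ho) hl, hn⟩, ?_⟩
    exact hF.core_fix h hT ⟨l, hl, rfl⟩ ho
  refine ⟨⟨fun e => hF.ne_top (top_le_iff.1 (e ▸ inf_le_left)), fun hle => hF.notle fun l hl => ?_, ?_⟩,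
    Set.Subset.antisymm (orb_mono inf_le_left) horb⟩
  · obtain ⟨k, hk, hkl⟩ := horb ⟨l, hl, rfl⟩
    have h1 := M.mul_mem (M.inv_mem (hle hk)) (M.one_mem)
    have h2 := QuotientGroup.eq.1 hkl
    have := M.mul_mem (hle hk) h2
    rwa [mul_inv_cancel_left] at this
  · have hn := (hA'.trans inf_le_left).trans (Wc_normalized L)
    obtain ⟨Q, hQ, hQA⟩ := exists_invariant_sylP (p := p) hn (hE.coprime (odd_Wc L)) (odd_Wc L)
    obtain ⟨o, ho, hoQ⟩ := hQ.exists_conj hP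
    refine ⟨cj o A', ?_, hE.cj o, by rw [card_cj, hc]⟩
    refine le_inf (le_inf ?_ ?_) ?_
    · exact (cj_mono (hA'.trans inf_le_left)).trans
        (mem_normalizer_iff_cj.1 (le_normalizer (Wc_le L ho))).le
    · rw [← hoQ, normalizer_cj]
      exact cj_mono hQA
    · exact (cj_mono (hA'.trans inf_le_right)).trans
        (mem_normalizer_iff_cj.1 (le_normalizer (hF.le_M h hT ho))).le

end Full

end CfsgLib.InvCent
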