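import Cfsg.Agent.Lib.InvCentTwoNilp.End
import Cfsg.Agent.Lib.InvCentTwoNilp.Bad
import Cfsg.Agent.Lib.InvCentTwoNilp.GoodFree
import Cfsg.Agent.Lib.ClassSizes.BrauerWielandtFour

/-!
# Coprime tools for the good primes of the final configuration (S3214)

The core avoiding the primes of a number `n`, fixed points in invariant Sylow subgroups, and the exponents of
the fixed points of an elementary 2-group all of whose involutions have equally many fixed points.
-/

set_option autoImplicit false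
set_option linter.unusedSectionVars false
set_option linter.style.haveILetI false

namespace CfsgLib.InvCent

open Subgroup CfsgLib.CIT
open CfsgLib.Signalizer (involution_sq involution_inv involution_ne_one orderOf_eq_two_of orderOf_conj)

universe u

variable {G : Type u} [Group G] [Finite G]

theorem mem_normalizer_map_char' {W : Subgroup G} (X : Subgroup ↥W) [X.Characteristic] {g : G}
    (hg : g ∈ normalizer (W : Set G)) : g ∈ normalizer (X.map W.subtype : Set G) := by
  rw [mem_normalizer_iff_cj]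
  have h1 := Subgroup.characteristic_iff_map_eq.1 (inferInstance : X.Characteristic)
    (W.normalizerMonoidHom ⟨g, hg⟩)
  show Subgroup.map (MulAut.conj g).toMonoidHom (X.map W.subtype) = _
  conv_rhs => rw [← h1]
  rw [map_map, map_map]
  rfl

/-- The largest normal subgroup of `X` of order prime to `n`, as a subgroup of `G`. -/
def Oc (n : ℕ) (X : Subgroup G) : Subgroup G :=
  (⨅ r : {r : ℕ // r.Prime ∧ r ∣ n}, Cfsg.pPrimeCore r.1 ↥X).map X.subtype

theorem Oc_le (n : ℕ) (X : Subgroup G) : Oc n X ≤ X := map_subtype_le _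

theorem normalizer_le_Oc (n : ℕ) (X : Subgroup G) :
    normalizer (X : Set G) ≤ normalizer (Oc n X : Set G) := by
  haveI : (⨅ r : {r : ℕ // r.Prime ∧ r ∣ n}, Cfsg.pPrimeCore r.1 ↥X).Characteristic :=
    characteristic_iff_comap_eq.2 fun φ => by
      rw [comap_iInf]
      exact iInf_congr fun r => characteristic_iff_comap_eq.1 inferInstance φ
  exact fun g hg => mem_normalizer_map_char' _ hg


theorem coprime_Oc {n : ℕ} (X : Subgroup G) : (Nat.card (Oc n X)).Coprime n := by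
  rw [Oc, card_map_of_injective X.subtype_injective]
  refine Nat.coprime_of_dvd fun r hr h1 h2 => ?_
  have h3 := h1.trans (card_dvd_of_le (iInf_le (fun r : {r : ℕ // r.Prime ∧ r ∣ n} =>
    Cfsg.pPrimeCore r.1 ↥X) ⟨r, hr, h2⟩))
  exact hr.one_lt.ne' (Nat.eq_one_of_dvd_coprimes (Core.coprime_card_pPrimeCore r ↥X) h3 dvd_rfl)

/-- Commutators with an involution centralising Sylow subgroups for the primes of `n` avoid these primes. -/
theorem comm_mem_Oc {n : ℕ} {X : Subgroup G} (hX : Odd (Nat.card X)) {t : G} (ht : orderOf t = 2)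
    (htX : t ∈ normalizer (X : Set G))
    (hfix : ∀ r : ℕ, r.Prime → r ∣ n → ∃ R, SylP r R X ∧ ∀ y ∈ R, t * y = y * t)
    {y : G} (hy : y ∈ X) : y⁻¹ * (t * y * t⁻¹) ∈ Oc n X := by
  classical
  refine ⟨⟨y⁻¹ * (t * y * t⁻¹), X.mul_mem (X.inv_mem hy) ((mem_normalizer_iff.1 htX y).1 hy)⟩, ?_, rfl⟩
  rw [SetLike.mem_coe, mem_iInf]
  rintro ⟨r, hr, hrn⟩
  haveI : Fact r.Prime := ⟨hr⟩
  obtain ⟨R, hR, hRt⟩ := hfix r hr hrn
  obtain ⟨S, hS⟩ := hR.exists_sylow
  haveI : Group.IsSolvable ↥X := Cfsg.Agent.S0205.result hX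
  set τ := X.normalizerMonoidHom ⟨t, htX⟩ with hτ
  have hval : ∀ a : ↥X, ((τ a : ↥X) : G) = t * a * t⁻¹ := fun _ => rfl
  have hττ : ∀ a, τ (τ a) = a := fun a => Subtype.ext (by
    rw [hval, hval, show t * (t * a * t⁻¹) * t⁻¹ = t * t * a * (t * t)⁻¹ by group, involution_sq ht]; group)
  set K := Cfsg.pPrimeCore r ↥X with hK
  have hKτ : ∀ a ∈ K, τ a ∈ K := fun a ha => by
    have e := characteristic_iff_map_eq.1 (inferInstance : K.Characteristic) τ
    exact e.le ⟨a, ha, rfl⟩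
  set q := QuotientGroup.mk' K with hq
  have hq1 : ∀ a, q a = 1 ↔ a ∈ K := fun a => QuotientGroup.eq_one_iff a
  have hsol : Group.IsSolvable (↥X ⧸ K) := Group.isSolvable_of_surjective (QuotientGroup.mk'_surjective K)
  set C := Cfsg.pCore r (↥X ⧸ K) with hC
  have hCR : ∀ s : ↥X, q s ∈ C → q (τ s) = q s := by
    intro s hs
    obtain ⟨ρ, hρ, hρs⟩ := Core.pCore_le_sylow (S.mapSurjective (QuotientGroup.mk'_surjective K)) hs
    have hρτ : τ ρ = ρ := Subtype.ext (by
      rw [hval, hRt _ (hS ▸ mem_map_of_mem X.subtype hρ), mul_inv_cancel_right])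
    have hκ : τ (ρ⁻¹ * s) ∈ K := hKτ _ ((hq1 _).1 (by
      rw [map_mul, map_inv, inv_mul_eq_one]; exact hρs))
    rw [map_mul, map_inv, hρτ] at hκ
    have := (hq1 _).2 hκ
    rw [map_mul, map_inv, inv_mul_eq_one] at this
    rw [← this]
    exact hρs
  set z : ↥X := ⟨y⁻¹ * (t * y * t⁻¹), X.mul_mem (X.inv_mem hy) ((mem_normalizer_iff.1 htX y).1 hy)⟩ with hz
  have hze : z = (⟨y, hy⟩ : ↥X)⁻¹ * τ ⟨y, hy⟩ := rfl
  show z ∈ K
  have hzC : q z ∈ centralizer (C : Set (↥X ⧸ K)) := by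
    refine mem_centralizer_iff.2 fun c hc => ?_
    obtain ⟨s, rfl⟩ := QuotientGroup.mk'_surjective K c
    set w : ↥X := ⟨y, hy⟩ with hw
    have hs' : q (w * s * w⁻¹) ∈ C := by
      rw [map_mul, map_mul, map_inv]
      exact (Core.normal_pCore r _).conj_mem _ hc _
    have e := hCR _ hs'
    rw [map_mul τ, map_mul τ, map_inv τ, map_mul q, map_mul q, map_inv q, hCR s hc, map_mul q, map_mul q,
      map_inv q] at e
    show q s * q z = q z * q s
    rw [hze, map_mul, map_inv]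
    calc q s * ((q w)⁻¹ * q (τ w)) = (q w)⁻¹ * (q w * q s * (q w)⁻¹) * q (τ w) := by group
      _ = _ := by rw [← e]; group
  have hzC' := Core.centralizer_pCore_le_of_pPrimeCore_eq_bot
    (Core.pPrimeCore_quotient_pPrimeCore r ↥X) hzC
  have e1 : q (τ z) = q z := hCR z hzC'
  have e2 : τ z = z⁻¹ := by
    rw [hze, map_mul, map_inv, hττ, mul_inv_rev, inv_inv]
  rw [e2, map_inv] at e1
  refine (hq1 z).1 (ZStar.eq_one_of_odd_of_sq ?_ ?_)
  · exact (hX.of_dvd_nat (Subgroup.card_quotient_dvd_card K)).of_dvd_nat (orderOf_dvd_natCard _)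
  · rw [pow_two]
    nth_rw 1 [← e1]
    exact inv_mul_cancel _

/-- The class of an involution under `W` is its class under `L` if the commutators lie in `L`. -/
theorem card_class {W L : Subgroup G} (hLW : L ≤ W) (hL : Odd (Nat.card L)) {b : G} (hb : orderOf b = 2)
    (h : ∀ w ∈ W, b * (w * b * w⁻¹) ∈ L) :
    Nat.card L * Nat.card (W ⊓ centralizer {b} : Subgroup G) =
      Nat.card W * Nat.card (L ⊓ centralizer {b} : Subgroup G) := by
  set S : Set G := {s | ∃ k ∈ W, k * b * k⁻¹ = s}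
  have h1 := card_eq_card_cent_mul (K := W) (t := b) (S := S) (fun k hk => ⟨k, hk, rfl⟩) fun _ hs => hs
  have h2 := card_eq_card_cent_mul (K := L) (t := b) (S := S) (fun k hk => ⟨k, hLW hk, rfl⟩) (by
    rintro _ ⟨k, hk, rfl⟩
    exact exists_conj_of_mul_mem hL hb ((orderOf_conj k b).trans hb) (h k hk))
  rw [h1, h2]
  ring

/-- Fixed points in an invariant Sylow subgroup form a Sylow subgroup of the fixed points. -/
theorem sylP_fix {p : ℕ} [hp : Fact p.Prime] {B X Q : Subgroup G} (hB : B ≤ normalizer (X : Set G))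
    (hcop : (Nat.card B).Coprime (Nat.card X)) (hodd : Odd (Nat.card X)) (hQ : SylP p Q X)
    (hQB : B ≤ normalizer (Q : Set G)) :
    SylP p (Q ⊓ centralizer (B : Set G)) (X ⊓ centralizer (B : Set G)) := by
  obtain ⟨P0, hP0⟩ := exists_sylP (p := p) (X ⊓ centralizer (B : Set G))
  have hP0B : B ≤ normalizer (P0 : Set G) := le_trans (fun b hb => mem_centralizer_iff.2 fun y hy =>
    (mem_centralizer_iff.1 (hP0.le hy).2 b hb).symm) (centralizer_le_normalizer _)
  obtain ⟨P, hP, hP0P, hPB⟩ := exists_invariant_sylP_ge hB hcop hodd (hP0.le.trans inf_le_left)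
    hP0.isPGroup hP0B
  obtain ⟨c, hc, hcP⟩ := hP.exists_centralizing_conj hQ hB hcop hodd hPB hQB
  have hle : cj c P0 ≤ Q ⊓ centralizer (B : Set G) := by
    rintro _ ⟨y, hy, rfl⟩
    exact Subgroup.mem_inf.2 ⟨hcP ▸ mem_map_of_mem _ (hP0P hy), mul_mem (mul_mem hc.2 (hP0.le hy).2) (inv_mem hc.2)⟩
  refine ⟨inf_le_inf_right _ hQ.le, le_antisymm ?_ ?_⟩
  · rw [← hP0.card]
    exact hP0.card_le (inf_le_inf_right _ hQ.le) (hQ.isPGroup.to_le inf_le_left)
  · rw [← hP0.card, ← card_cj c P0]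
    exact card_le_of_le hle

/-- The formula of Brauer and Wielandt for two commuting involutions. -/
theorem four_formula {X : Subgroup G} (hX : Odd (Nat.card X)) {t u : G} (ht : t * t = 1)
    (hu : u * u = 1) (hc : t * u = u * t) (htn : t ∈ normalizer (X : Set G))
    (hun : u ∈ normalizer (X : Set G)) :
    Nat.card X * Nat.card (X ⊓ centralizer ({t} : Set G) ⊓ centralizer ({u} : Set G) : Subgroup G) ^ 2 =
      Nat.card (X ⊓ centralizer ({t} : Set G) : Subgroup G) *
        Nat.card (X ⊓ centralizer ({u} : Set G) : Subgroup G) *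
        Nat.card (X ⊓ centralizer ({t * u} : Set G) : Subgroup G) := by
  set φ := X.normalizerMonoidHom
  have happ : ∀ (v : normalizer (X : Set G)) (x : X), ((φ v x : X) : G) = v * x * (v : G)⁻¹ :=
    fun _ _ => rfl
  have heq : ∀ (v : normalizer (X : Set G)) (x : X), φ v x = x ↔
      (x : G) ∈ centralizer ({(v : G)} : Set G) := fun v x => by
    rw [Subtype.ext_iff, happ, mul_inv_eq_iff_eq_mul, mem_centralizer_singleton_iff, eq_comm]
  have hinv : ∀ (v : normalizer (X : Set G)), (v : G) * v = 1 → ∀ x, φ v (φ v x) = x := fun v hv x => by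
    rw [← MulAut.mul_apply, ← map_mul, show v * v = 1 from Subtype.ext hv, map_one, MulAut.one_apply]
  have key := CfsgLib.ClassSizes.BWFour.brauer_wielandt hX (φ ⟨t, htn⟩) (φ ⟨u, hun⟩) (hinv _ ht)
    (hinv _ hu) fun x => by
      rw [← MulAut.mul_apply, ← map_mul, show (⟨t, htn⟩ * ⟨u, hun⟩ : normalizer (X : Set G)) =
        ⟨u, hun⟩ * ⟨t, htn⟩ from Subtype.ext hc, map_mul, MulAut.mul_apply]
  have e1 : ∀ (v : normalizer (X : Set G)) (p : X → Prop), (∀ x, p x ↔ φ v x = x) →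
      Nat.card {x : X // p x} = Nat.card (X ⊓ centralizer ({(v : G)} : Set G) : Subgroup G) :=
    fun v p hp => Nat.card_congr
      { toFun := fun x => ⟨x.1.1, x.1.2, (heq v _).1 ((hp _).1 x.2)⟩
        invFun := fun x => ⟨⟨x.1, x.2.1⟩, (hp _).2 ((heq v _).2 x.2.2)⟩
        left_inv := fun _ => rfl
        right_inv := fun _ => rfl }
  have e2 : Nat.card {x : X // φ ⟨t, htn⟩ x = x ∧ φ ⟨u, hun⟩ x = x} =
      Nat.card (X ⊓ centralizer ({t} : Set G) ⊓ centralizer ({u} : Set G) : Subgroup G) :=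
    Nat.card_congr
      { toFun := fun x => ⟨x.1.1, ⟨x.1.2, (heq _ _).1 x.2.1⟩, (heq _ _).1 x.2.2⟩
        invFun := fun x => ⟨⟨x.1, x.2.1.1⟩, (heq ⟨t, htn⟩ _).2 x.2.1.2, (heq ⟨u, hun⟩ _).2 x.2.2⟩
        left_inv := fun _ => rfl
        right_inv := fun _ => rfl }
  rwa [e2, e1 ⟨t, htn⟩ _ fun _ => Iff.rfl, e1 ⟨u, hun⟩ _ fun _ => Iff.rfl,
    e1 (⟨t, htn⟩ * ⟨u, hun⟩) _ fun _ => by rw [map_mul, MulAut.mul_apply]] at key

theorem centralizer_sup_zpowers (B : Subgroup G) (t : G) :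
    centralizer ((B ⊔ zpowers t : Subgroup G) : Set G) = centralizer (B : Set G) ⊓ centralizer ({t} : Set G) := by
  refine le_antisymm (fun y hy => ⟨mem_centralizer_iff.2 fun b hb => mem_centralizer_iff.1 hy b (mem_sup_left hb),
    mem_cent.2 (mem_centralizer_iff.1 hy t (mem_sup_right (mem_zpowers t))).symm⟩) fun y hy => ?_
  have hle : B ⊔ zpowers t ≤ centralizer ({y} : Set G) :=
    sup_le (fun b hb => mem_cent.2 (mem_centralizer_iff.1 hy.1 b hb))
      (zpowers_le.2 (mem_cent.2 (mem_cent.1 hy.2).symm))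
  exact mem_centralizer_iff.2 fun c hc => mem_cent.1 (hle hc)

theorem centralizer_zpowers_eq (t : G) :
    centralizer ((zpowers t : Subgroup G) : Set G) = centralizer ({t} : Set G) := by
  rw [← bot_sup_eq (zpowers t), centralizer_sup_zpowers,
    show centralizer ((⊥ : Subgroup G) : Set G) = ⊤ from eq_top_iff.2 fun y _ =>
      mem_centralizer_iff.2 fun b hb => by rw [mem_bot.1 hb, one_mul, mul_one], top_inf_eq]

/-- Exponents of the fixed points of the subgroups of an elementary 2-group. -/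
theorem fix_exponents {p : ℕ} [hp : Fact p.Prime] {A Q : Subgroup G} (hA : Elem A) {m : ℕ}
    (hcard : Nat.card A = 2 ^ m) (hm : 2 ≤ m) (hQ : Odd (Nat.card Q))
    (hAQ : A ≤ normalizer (Q : Set G))
    (htr : ∀ a ∈ A, a ≠ 1 → ∀ b ∈ A, b ≠ 1 →
      Nat.card (Q ⊓ centralizer ({a} : Set G) : Subgroup G) = Nat.card (Q ⊓ centralizer ({b} : Set G) : Subgroup G))
    {γ : ℕ} (hγ : (Nat.card Q).factorization p =
      γ * (2 ^ m - 1) + (Nat.card (Q ⊓ centralizer (A : Set G) : Subgroup G)).factorization p) :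
    (∀ b ∈ A, b ≠ 1 → (Nat.card Q).factorization p =
      (Nat.card (Q ⊓ centralizer ({b} : Set G) : Subgroup G)).factorization p + γ * 2 ^ (m - 1)) ∧
    ∀ B ≤ A, Nat.card B = 2 ^ (m - 1) →
      (Nat.card (Q ⊓ centralizer (B : Set G) : Subgroup G)).factorization p =
        (Nat.card (Q ⊓ centralizer (A : Set G) : Subgroup G)).factorization p + γ := by
  classical
  haveI : Fact (Nat.Prime 2) := ⟨Nat.prime_two⟩
  set v : Subgroup G → ℕ := fun X => (Nat.card X).factorization p with hv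
  set f : Subgroup G → ℕ := fun B => Nat.card (Q ⊓ centralizer (B : Set G) : Subgroup G) with hf
  have hext : ∀ B ≤ A, ∀ i, Nat.card B = 2 ^ i → ∀ e ∈ A, e ∉ B →
      Nat.card (B ⊔ zpowers e : Subgroup G) = 2 ^ (i + 1) := by
    intro B hB i hi e he heB
    have hz : zpowers e ⊓ B = ⊥ := eq_bot_iff.2 fun z hz => mem_bot.2
      ((hA.eq_or_eq_of_mem_zpowers he hz.1).resolve_right fun e' => heB (e' ▸ hz.2))
    haveI := (hA.of_le hB).isMulCommutative
    have hn : zpowers e ≤ normalizer (B : Set G) := le_trans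
      (zpowers_le.2 (mem_centralizer_iff.2 fun b hb => hA.comm (hB hb) he)) (centralizer_le_normalizer _)
    rw [sup_comm, Core.card_sup_of_disjoint _ _ hn hz, hi, Nat.card_zpowers,
      hA.orderOf_eq he fun e' => heB (e' ▸ one_mem B), pow_succ']
  have hsub : ∀ B ≤ A, ∀ i, 2 ^ i ∣ Nat.card B → ∃ B0 ≤ B, Nat.card B0 = 2 ^ i := fun B _ i hi => by
    obtain ⟨Y, hY⟩ := Sylow.exists_subgroup_card_pow_prime 2 hi
    exact ⟨Y.map B.subtype, map_subtype_le Y, by rw [card_map_of_injective B.subtype_injective, hY]⟩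
  have hstep : ∀ i, ∀ B'' ≤ A, Nat.card B'' = 2 ^ (i + 2) → ∃ B B1 B2 B3 : Subgroup G,
      B ≤ A ∧ B1 ≤ A ∧ B2 ≤ A ∧ B3 ≤ A ∧ Nat.card B = 2 ^ i ∧ Nat.card B1 = 2 ^ (i + 1) ∧
      Nat.card B2 = 2 ^ (i + 1) ∧ Nat.card B3 = 2 ^ (i + 1) ∧ f B * f B'' ^ 2 = f B1 * f B2 * f B3 := by
    intro i B'' hB'' hc
    obtain ⟨B, hBB, hBc⟩ := hsub B'' hB'' i (hc ▸ pow_dvd_pow 2 (by omega))
    obtain ⟨e1, he1, he1B⟩ : ∃ e ∈ B'', e ∉ B := by
      by_contra hno
      push Not at hno
      have := card_le_of_le (show B'' ≤ B from hno)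
      rw [hc, hBc, Nat.pow_le_pow_iff_right one_lt_two] at this
      omega
    have hB1 := hext B (hBB.trans hB'') i hBc e1 (hB'' he1) he1B
    obtain ⟨e2, he2, he2B⟩ : ∃ e ∈ B'', e ∉ B ⊔ zpowers e1 := by
      by_contra hno
      push Not at hno
      have := card_le_of_le (show B'' ≤ B ⊔ zpowers e1 from hno)
      rw [hc, hB1, Nat.pow_le_pow_iff_right one_lt_two] at this
      omega
    have he2B' : e2 ∉ B := fun h' => he2B (mem_sup_left h')
    have he3B : e1 * e2 ∉ B := fun h' => he2B (by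
      have := mul_mem (mem_sup_right (inv_mem (mem_zpowers e1))) (mem_sup_left h' : e1 * e2 ∈ B ⊔ zpowers e1)
      rwa [inv_mul_cancel_left] at this)
    have hB'A := hBB.trans hB''
    refine ⟨B, B ⊔ zpowers e1, B ⊔ zpowers e2, B ⊔ zpowers (e1 * e2), hB'A,
      sup_le hB'A (zpowers_le.2 (hB'' he1)), sup_le hB'A (zpowers_le.2 (hB'' he2)),
      sup_le hB'A (zpowers_le.2 (mul_mem (hB'' he1) (hB'' he2))), hBc, hB1,
      hext B hB'A i hBc e2 (hB'' he2) he2B', hext B hB'A i hBc _ (mul_mem (hB'' he1) (hB'' he2)) he3B, ?_⟩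
    have hnX : ∀ a ∈ A, a ∈ normalizer ((Q ⊓ centralizer (B : Set G) : Subgroup G) : Set G) := by
      intro a ha
      refine mem_normalizer_iff_cj.2 ?_
      rw [CIT.cj, map_inf_eq _ _ _ (MulAut.conj a).injective]
      refine congrArg₂ (· ⊓ ·) (mem_normalizer_iff_cj.1 (hAQ ha)) (mem_normalizer_iff_cj.1 ?_)
      have hac : a ∈ centralizer (B : Set G) := mem_centralizer_iff.2 fun b hb => hA.comm (hB'A hb) ha
      exact le_normalizer hac
    have h4 := four_formula (X := Q ⊓ centralizer (B : Set G))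
      (hQ.of_dvd_nat (card_dvd_of_le inf_le_left)) (hA _ (hB'' he1)) (hA _ (hB'' he2))
      (hA.comm (hB'' he1) (hB'' he2)) (hnX _ (hB'' he1)) (hnX _ (hB'' he2))
    have hBe : B ⊔ zpowers e1 ⊔ zpowers e2 = B'' := eq_of_le_of_card_ge
      (sup_le (sup_le hBB (zpowers_le.2 he1)) (zpowers_le.2 he2))
      (by rw [hc, hext _ (sup_le hB'A (zpowers_le.2 (hB'' he1))) (i + 1) hB1 e2 (hB'' he2) he2B])
    simp only [hf]
    rw [← hBe, centralizer_sup_zpowers, centralizer_sup_zpowers, centralizer_sup_zpowers, centralizer_sup_zpowers,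
      ← inf_assoc, ← inf_assoc, ← inf_assoc, ← inf_assoc]
    exact h4
  have huni : ∀ i, ∀ B ≤ A, ∀ B' ≤ A, Nat.card B = 2 ^ i → Nat.card B' = 2 ^ i → f B = f B' := by
    intro i
    induction i using Nat.strong_induction_on with
    | _ i ih =>
    intro B hB B' hB' hc hc'
    rcases i with _ | _ | i
    · rw [eq_bot_of_card_eq B (by simpa using hc), eq_bot_of_card_eq B' (by simpa using hc')]
    · have key : ∀ B ≤ A, Nat.card B = 2 ^ 1 → ∃ a ∈ A, a ≠ 1 ∧
          f B = Nat.card (Q ⊓ centralizer ({a} : Set G) : Subgroup G) := by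
        intro B hB hc
        obtain ⟨a, ha, ha1⟩ := (bot_or_exists_ne_one B).resolve_left fun e => by
          rw [e, card_bot] at hc; norm_num at hc
        refine ⟨a, hB ha, ha1, ?_⟩
        have e : (⊥ : Subgroup G) ⊔ zpowers a = B := eq_of_le_of_card_ge (sup_le bot_le (zpowers_le.2 ha))
          (by rw [hc, hext ⊥ bot_le 0 (by rw [card_bot]; norm_num) a (hB ha) (by rwa [mem_bot])])
        simp only [hf]
        rw [← e, bot_sup_eq, centralizer_zpowers_eq]
      obtain ⟨a, ha, ha1, e⟩ := key B hB hc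
      obtain ⟨a', ha', ha1', e'⟩ := key B' hB' hc'
      rw [e, e', htr a ha ha1 a' ha' ha1']
    · obtain ⟨C, C1, C2, C3, h0, h1, h2, h3, c0, c1, c2, c3, e⟩ := hstep i B hB hc
      obtain ⟨D, D1, D2, D3, g0, g1, g2, g3, d0, d1, d2, d3, e'⟩ := hstep i B' hB' hc'
      rw [ih i (by omega) C h0 D g0 c0 d0, ih (i + 1) (by omega) C1 h1 D1 g1 c1 d1,
        ih (i + 1) (by omega) C2 h2 D2 g2 c2 d2, ih (i + 1) (by omega) C3 h3 D3 g3 c3 d3, ← e'] at e
      exact Nat.pow_left_injective two_ne_zero (Nat.eq_of_mul_eq_mul_left Nat.card_pos e)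
  choose Bf hBf hBfc using fun i : Fin (m + 1) =>
    hsub A le_rfl i.1 (hcard ▸ pow_dvd_pow 2 (Nat.lt_succ_iff.1 i.2))
  set N : ℕ → ℤ := fun i => if h : i < m + 1 then ((f (Bf ⟨i, h⟩)).factorization p : ℤ) else 0 with hN
  have hval : ∀ i, i ≤ m → ∀ B ≤ A, Nat.card B = 2 ^ i → ((f B).factorization p : ℤ) = N i := by
    intro i hi B hB hc
    simp only [hN, dif_pos (Nat.lt_succ_of_le hi)]
    rw [huni i B hB _ (hBf _) hc (hBfc ⟨i, _⟩)]
  have hrec : ∀ i, i + 2 ≤ m → N i + 2 * N (i + 2) = 3 * N (i + 1) := by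
    intro i hi
    obtain ⟨B'', hB'', hc⟩ := hsub A le_rfl (i + 2) (hcard ▸ pow_dvd_pow 2 hi)
    obtain ⟨C, C1, C2, C3, h0, h1, h2, h3, c0, c1, c2, c3, e⟩ := hstep i B'' hB'' hc
    have e2 := congrArg (fun n : ℕ => ((n.factorization p : ℕ) : ℤ)) e
    simp only [hf] at e2
    rw [Nat.factorization_mul Nat.card_pos.ne' (pow_ne_zero _ Nat.card_pos.ne'), Nat.factorization_pow,
      Nat.factorization_mul (mul_ne_zero Nat.card_pos.ne' Nat.card_pos.ne') Nat.card_pos.ne',
      Nat.factorization_mul Nat.card_pos.ne' Nat.card_pos.ne'] at e2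
    simp only [Finsupp.add_apply, Finsupp.smul_apply, smul_eq_mul, Nat.cast_add, Nat.cast_mul,
      Nat.cast_ofNat] at e2
    have a0 := hval i (by omega) C h0 c0
    have a1 := hval (i + 1) (by omega) C1 h1 c1
    have a2 := hval (i + 1) (by omega) C2 h2 c2
    have a3 := hval (i + 1) (by omega) C3 h3 c3
    have a4 := hval (i + 2) hi B'' hB'' hc
    simp only [hf] at a0 a1 a2 a3 a4
    linarith
  set δ := N (m - 1) - N m with hδ
  have hlin : ∀ j, j ≤ m → N (m - j) - N m = δ * (2 ^ j - 1) := by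
    intro j
    induction j using Nat.strong_induction_on with
    | _ j ih =>
    intro hj
    rcases j with _ | _ | j
    · simp
    · rw [hδ]; norm_num
    · have e1 := ih j (by omega) (by omega)
      have e2 := ih (j + 1) (by omega) (by omega)
      have e3 := hrec (m - (j + 2)) (by omega)
      rw [show m - (j + 2) + 2 = m - j by omega, show m - (j + 2) + 1 = m - (j + 1) by omega] at e3
      linear_combination e3 + 3 * e2 - 2 * e1
  have h0 := hlin m le_rfl
  rw [Nat.sub_self, ← hval 0 (Nat.zero_le m) ⊥ bot_le (by rw [card_bot, pow_zero]),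
    ← hval m le_rfl A le_rfl hcard] at h0
  simp only [hf] at h0
  rw [show centralizer ((⊥ : Subgroup G) : Set G) = ⊤ from eq_top_iff.2 fun y _ =>
    mem_centralizer_iff.2 fun b hb => by rw [mem_bot.1 hb, one_mul, mul_one], inf_top_eq, hγ] at h0
  push_cast at h0
  have hpow : (1 : ℤ) < 2 ^ m := one_lt_pow₀ (by norm_num) (by omega)
  have hδγ : δ = γ := by
    refine mul_right_cancel₀ (show (2 : ℤ) ^ m - 1 ≠ 0 by omega) ?_
    rw [← h0]
    simp
  refine ⟨fun b hb hb1 => ?_, fun B hB hBc => ?_⟩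
  · have h1 := hlin (m - 1) (by omega)
    have e : zpowers b ≤ A := zpowers_le.2 hb
    rw [show m - (m - 1) = 1 by omega, ← hval 1 (by omega) (zpowers b) e
      (by rw [Nat.card_zpowers, hA.orderOf_eq hb hb1, pow_one]), ← hval m le_rfl A le_rfl hcard, hδγ] at h1
    simp only [hf, centralizer_zpowers_eq] at h1
    rw [hγ]
    obtain ⟨n, rfl⟩ : ∃ n, m = n + 1 := ⟨m - 1, by omega⟩
    simp only [Nat.add_sub_cancel] at h1 ⊢
    have hn : 1 ≤ 2 ^ (n + 1) := Nat.one_le_two_pow
    zify [hn]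
    rw [pow_succ]
    linarith
  · have h1 := hlin 1 (by omega)
    rw [← hval (m - 1) (by omega) B hB hBc, ← hval m le_rfl A le_rfl hcard, hδγ] at h1
    simp only [hf] at h1
    zify
    linarith

end CfsgLib.InvCent
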