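import Cfsg.Agent.Lib.InvCentTwoNilp.Swap
import Cfsg.Agent.Lib.InvCentTwoNilp.Par

/-!
# Tools for the primes dividing `q - 1` (S3214)

Owner: helper5.
-/

set_option autoImplicit false
set_option linter.unusedSectionVars false

namespace CfsgLib.InvCent

open Subgroup CfsgLib.CIT
open CfsgLib.Signalizer (involution_sq involution_inv involution_ne_one orderOf_eq_two_of orderOf_conj)

universe u

variable {G : Type u} [Group G] [Finite G]

theorem isPGroup_zpowers {p : ℕ} [Fact p.Prime] {x : G} {k : ℕ} (h : orderOf x = p ^ k) :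
    IsPGroup p (zpowers x) := IsPGroup.of_card (n := k) (by rw [Nat.card_zpowers, h])

theorem exists_orderOf_pow {p : ℕ} [hp : Fact p.Prime] {R : Subgroup G} (hR : IsPGroup p R) {x : G}
    (hx : x ∈ R) : ∃ k, orderOf x = p ^ k := by
  obtain ⟨k, hk⟩ := IsPGroup.iff_orderOf.1 hR ⟨x, hx⟩
  exact ⟨k, by rw [← hk, Subgroup.orderOf_mk]⟩

/-- The power of order `p` of a nontrivial `p`-element. -/
theorem exists_pow_orderOf {p : ℕ} [hp : Fact p.Prime] {x : G} {k : ℕ} (h : orderOf x = p ^ k)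
    (hx : x ≠ 1) : ∃ m : ℕ, orderOf (x ^ m) = p := by
  rcases Nat.eq_zero_or_pos k with rfl | hk0
  · exact absurd (orderOf_eq_one_iff.1 (by rw [h, pow_zero])) hx
  refine ⟨p ^ (k - 1), ?_⟩
  rw [orderOf_pow_of_dvd (pow_ne_zero _ hp.out.ne_zero) (h ▸ pow_dvd_pow p (Nat.sub_le k 1)), h,
    Nat.pow_div (Nat.sub_le k 1) hp.out.pos, show k - (k - 1) = 1 by omega, pow_one]

variable [IsSimpleGroup G] {M T : Subgroup G}

namespace Ctx

variable (h : Ctx M) {p : ℕ} [hp : Fact p.Prime]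
include h

theorem ibar_facts (hT : IsSyl T M) :
    7 ≤ Nat.card (invSub T) - 1 ∧ Odd (Nat.card (invSub T) - 1) := by
  have h8 := h.eight_le_invSub hT
  refine ⟨by omega, ?_⟩
  obtain ⟨n, hn⟩ := (h.invSub_elem hT).card_two_pow
  rw [hn]
  refine Nat.Even.sub_odd Nat.one_le_two_pow ?_ odd_one
  rw [Nat.even_pow]
  refine ⟨even_two, fun e => ?_⟩
  rw [hn, e] at h8; norm_num at h8

omit hp in
theorem ne_two_of_dvd (hT : IsSyl T M) (hd : p ∣ Nat.card (invSub T) - 1) : p ≠ 2 := fun e =>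
  ((h.ibar_facts hT).2).not_two_dvd_nat (e ▸ hd)

/-- A `p`-subgroup of `L ∩ M` fixes a further point of the orbit of a full subgroup `L`. -/
theorem exists_fixed_orbit (hT : IsSyl T M) (hp2 : p ≠ 2) {L R : Subgroup G} (hF : Full M T L)
    (hR : R ≤ L ⊓ M) (hRp : IsPGroup p R) :
    ∃ z ∈ Orb M L, z ≠ base M ∧ ∀ g ∈ R, g • z = z := by
  classical
  obtain ⟨hn, hh, hpts, -, -⟩ := hF.card_data h hT
  let S : SubMulAction ↥R (G ⧸ M) :=
    { carrier := Orb M L \ {base M}
      smul_mem' := fun g z hz => by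
        refine ⟨smul_mem_orb hz.1 (hR g.2).1, fun e => hz.2 ?_⟩
        have e' : (g : G) • z = base M := e
        show z = base M
        rw [← inv_smul_smul (g : G) z, e', smul_base_eq_iff]
        exact M.inv_mem (hR g.2).2 }
  have hcardS : ¬ p ∣ Nat.card S := by
    have e : Nat.card S = hn := by
      show Nat.card ↥(Orb M L \ {base M}) = hn
      rw [Nat.card_coe_set_eq, Set.ncard_diff_singleton_of_mem (mem_orb_base M L),
        ← Nat.card_coe_set_eq, hpts, Nat.add_sub_cancel]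
    rw [e]
    obtain ⟨m, hm⟩ := (h.invSub_elem hT).card_two_pow
    intro hd
    have : p ∣ 2 := by
      rcases hh with rfl | rfl <;> rw [hm] at hd
      · exact hp.out.dvd_of_dvd_pow hd
      · exact hp.out.dvd_of_dvd_pow (hp.out.dvd_of_dvd_pow hd)
    exact hp2 ((Nat.prime_dvd_prime_iff_eq hp.out Nat.prime_two).1 this)
  obtain ⟨⟨z, hzL, hza⟩, hz⟩ := hRp.nonempty_fixed_point_of_prime_not_dvd_card S hcardS
  exact ⟨z, hzL, hza, fun g hg => congrArg Subtype.val (hz ⟨g, hg⟩)⟩

/-- A Sylow subgroup of a two point stabiliser lies in a conjugate of a Sylow subgroup of `M`. -/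
theorem exists_conj_le {R : Subgroup G} (hR : SylP p R M) {x : G ⧸ M} {R' : Subgroup G}
    (hR' : SylP p R' (DD M x)) : ∃ m ∈ M, cj m R' ≤ R :=
  hR.exists_conj_ge (hR'.le.trans DD_le) hR'.isPGroup

/-- Two elements generating conjugate groups, one with two fixed points. -/
theorem exists_move {d d' m : G} {x x' : G ⧸ M} (hx' : x' ≠ base M) (hm : m ∈ M)
    (hd : ∀ z : G ⧸ M, d • z = z → z = base M ∨ z = x) (hd'x : d' • x' = x')
    (hpow : d ∈ zpowers (m⁻¹ * d' * m)) : m • x = x' := by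
  have hfix : d • (m⁻¹ • x') = m⁻¹ • x' := by
    have hle : zpowers (m⁻¹ * d' * m) ≤ MulAction.stabilizer G (m⁻¹ • x') := zpowers_le.2 (by
      rw [MulAction.mem_stabilizer_iff, mul_smul, mul_smul, smul_inv_smul, hd'x])
    exact hle hpow
  rcases hd _ hfix with e | e
  · exact absurd (by rw [← smul_inv_smul m x', e, smul_base_eq_iff.2 hm]) hx'
  · rw [← e, smul_inv_smul]

end Ctx

end CfsgLib.InvCent
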