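import Cfsg.Agent.Lib.InvCentTwoNilp.G4Core
import Cfsg.Agent.Lib.InvCentTwoNilp.PureGen

/-!
# The two point stabilisers of the final configuration (S3214)

`W ∩ M_x` is invariant under the swappers, the two point stabiliser is the product of it and a cyclic group of
order `q - 1` inverted by a swapper, and the swappers are counted by the class of an involution under `W`.
-/

set_option autoImplicit false
set_option linter.unusedSectionVars false
set_option linter.style.haveILetI false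

namespace CfsgLib.InvCent

open Subgroup CfsgLib.CIT
open CfsgLib.Signalizer (involution_sq involution_inv involution_ne_one orderOf_eq_two_of orderOf_conj)
open CfsgLib.TwoGroups.SE (smul_mk_eq_iff)

universe u

variable {G : Type u} [Group G] [Finite G]

/-- A subgroup lies in `S` if all its elements of prime power order do. -/
theorem le_of_prime_pow_elems {H S : Subgroup G}
    (hS : ∀ h ∈ H, ∀ p : ℕ, p.Prime → ∀ k, orderOf h = p ^ k → h ∈ S) : H ≤ S := by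
  suffices key : ∀ n : ℕ, ∀ h ∈ H, orderOf h = n → h ∈ S from fun h hh => key _ h hh rfl
  intro n
  induction n using Nat.recOnPrimeCoprime with
  | zero => exact fun h _ he => absurd he (orderOf_pos h).ne'
  | prime_pow p k hp => exact fun h hh he => hS h hh p hp k he
  | coprime a b ha1 hb1 hab iha ihb =>
    intro h hh he
    have hb : h ^ b ∈ S := iha _ (pow_mem hh b) (by
      rw [orderOf_pow_of_dvd (by omega) (he ▸ dvd_mul_left b a), he, Nat.mul_div_cancel _ (by omega)])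
    have ha : h ^ a ∈ S := ihb _ (pow_mem hh a) (by
      rw [orderOf_pow_of_dvd (by omega) (he ▸ dvd_mul_right a b), he, Nat.mul_div_cancel_left _ (by omega)])
    obtain ⟨i, j, hij⟩ := hab.isCoprime
    rw [show h = (h ^ a) ^ i * (h ^ b) ^ j by
      rw [← zpow_natCast h a, ← zpow_natCast h b, ← zpow_mul, ← zpow_mul, ← zpow_add, mul_comm (a : ℤ),
        mul_comm (b : ℤ), hij, zpow_one]]
    exact mul_mem (zpow_mem ha i) (zpow_mem hb j)

variable [IsSimpleGroup G] {M T : Subgroup G}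

namespace Ctx

variable (h : Ctx M) (hT : IsSyl T M)
include h hT

/-- An element of `M` of prime power order with a conjugate in `W` lies in `W`. -/
theorem mem_W_of_fused (pf : PureFacts M T) {d g : G} (hd : d ∈ M) {p : ℕ} (hp : p.Prime) {k : ℕ}
    (ho : orderOf d = p ^ k) (hg : g * d * g⁻¹ ∈ Wc M) : d ∈ Wc M := by
  by_cases hdvd : p ∣ Nat.card (invSub T) - 1
  · exact pf.fus p hp hdvd d hd ⟨k, ho⟩ g hg
  · haveI : ((T ⊔ Wc M).subgroupOf M).Normal := normal_subgroupOf_of_le_normalizer (h.TW_normalized hT)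
    refine mem_TW_odd hT ?_ ((orderOf_conj g d) ▸ odd_orderOf_of_mem (odd_Wc M) hg)
    have h1 := orderOf_dvd_natCard (((⟨d, hd⟩ : ↥M)) : ↥M ⧸ (T ⊔ Wc M).subgroupOf M)
    rw [← index_eq_card, show ((T ⊔ Wc M).subgroupOf M).index = Nat.card (invSub T) - 1 from
      h.relIndex_TW hT] at h1
    have h2 := (orderOf_map_dvd (QuotientGroup.mk' ((T ⊔ Wc M).subgroupOf M)) (⟨d, hd⟩ : ↥M)).trans
      (dvd_of_eq ((Subgroup.orderOf_mk d hd).trans ho))
    have h3 := Nat.eq_one_of_dvd_coprimes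
      ((hp.coprime_iff_not_dvd.2 hdvd).pow_left k) h2 h1
    rw [QuotientGroup.mk'_apply, orderOf_eq_one_iff, QuotientGroup.eq_one_iff] at h3
    exact mem_subgroupOf.1 h3

/-- `W ∩ M_x ≤ W_x`. -/
theorem stab_W_of (pf : PureFacts M T) {x : G ⧸ M} (hx : x ≠ base M) {w : G} (hw : w ∈ Wc M)
    (hwx : w • x = x) : w ∈ Wp M x := by
  obtain ⟨u, hu, hua, hux⟩ := h.exists_swapper hx.symm
  refine le_of_prime_pow_elems (H := Ux M x) (S := Wp M x) (fun d hd p hp k ho => ?_) (mem_Ux.2 ⟨hw, hwx⟩)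
  obtain ⟨hdW, hdx⟩ := mem_Ux.1 hd
  have h1 := h.mem_W_of_fused hT pf (d := u * d * u⁻¹) (g := u)
    (mem_DD_of_swap hu hua (⟨Wc_le M hdW, hdx⟩ : d ∈ DD M x)).1 hp ((orderOf_conj u d).trans ho)
    (by rwa [show u * (u * d * u⁻¹) * u⁻¹ = u * u * d * (u * u)⁻¹ by group, involution_sq hu, one_mul,
      inv_one, mul_one])
  have := swap_Wp hua h1
  rwa [show u * (u * d * u⁻¹) * u⁻¹ = u * u * d * (u * u)⁻¹ by group, involution_sq hu, one_mul,
    inv_one, mul_one] at this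

/-- Swappers normalise `W ∩ M_x`. -/
theorem swap_norm_Ux (pf : PureFacts M T) {x : G ⧸ M} (hx : x ≠ base M) {u : G} (hu : orderOf u = 2)
    (hua : u • base M = x) : u ∈ normalizer (Ux M x : Set G) := by
  have hfix : ∀ w ∈ Ux M x, u * w * u⁻¹ ∈ Ux M x := fun w hw => by
    obtain ⟨hwW, hwx⟩ := mem_Ux.1 hw
    exact mem_Ux.2 ⟨swap_Wp' hu hua (h.stab_W_of hT pf hx hwW hwx),
      (mem_DD_of_swap hu hua (⟨Wc_le M hwW, hwx⟩ : w ∈ DD M x)).2⟩
  refine mem_normalizer_iff.2 fun w => ⟨hfix w, fun hw => ?_⟩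
  have := hfix _ hw
  rwa [show u * (u * w * u⁻¹) * u⁻¹ = u * u * w * (u * u)⁻¹ by group, involution_sq hu, one_mul,
    inv_one, mul_one] at this

omit h hT in
theorem DD_norm_Ux {x : G ⧸ M} : DD M x ≤ normalizer (Ux M x : Set G) := by
  have key : ∀ d ∈ DD M x, ∀ w ∈ Ux M x, d * w * d⁻¹ ∈ Ux M x := fun d hd w hw => by
    obtain ⟨hwW, hwx⟩ := mem_Ux.1 hw
    refine mem_Ux.2 ⟨conj_mem_Wc hd.1 hwW, ?_⟩
    rw [mul_smul, mul_smul, inv_smul_eq_iff.2 hd.2.symm, hwx, hd.2]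
  intro d hd
  refine mem_normalizer_iff.2 fun w => ⟨key d hd w, fun hw => ?_⟩
  have := key d⁻¹ ((DD M x).inv_mem hd) _ hw
  rwa [show d⁻¹ * (d * w * d⁻¹) * d⁻¹⁻¹ = w by group] at this

/-- Elements of a two point stabiliser centralised by a swapper lie in `W`. -/
theorem swap_centralized (pf : PureFacts M T) {x : G ⧸ M} (hx : x ≠ base M) {u : G} (hu : orderOf u = 2)
    {c : G} (hc : c ∈ DD M x) (hcu : c * u = u * c) : c ∈ Ux M x := by
  obtain ⟨z, hz⟩ := TwoGroups.SE.exists_fixed (H := M) h.se hu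
  refine mem_Ux.2 ⟨le_of_prime_pow_elems (H := DD M x ⊓ centralizer ({u} : Set G)) (S := Wc M)
    (fun d hd p hp k ho => ?_) (mem_inf.2 ⟨hc, mem_cent.2 hcu⟩), hc.2⟩
  have ho' : Odd (orderOf d) := odd_orderOf_of_mem (h.odd_DD hx) hd.1
  have h1 := h.mem_Wp_of_centralized hu hz (mem_cent.1 hd.2) ho'
  rw [mem_Wp_iff] at h1
  exact h.mem_W_of_fused hT pf hd.1.1 hp ho (g := z.out⁻¹) (by rwa [inv_inv])

theorem card_DD {x : G ⧸ M} (hx : x ≠ base M) :
    Nat.card (DD M x) = Nat.card (Ux M x) * (Nat.card (invSub T) - 1) := by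
  haveI : ((T ⊔ Wc M).subgroupOf M).Normal :=
    normal_subgroupOf_of_le_normalizer (h.TW_normalized hT)
  let f : ↥(DD M x) →* ↥M ⧸ (T ⊔ Wc M).subgroupOf M :=
    (QuotientGroup.mk' _).comp (Subgroup.inclusion DD_le)
  have hf : Function.Surjective f := by
    intro y
    obtain ⟨m, rfl⟩ := QuotientGroup.mk_surjective y
    obtain ⟨d, hd, hdm⟩ := h.exists_DD_mod_TW hT hx m.2
    exact ⟨⟨d, hd⟩, QuotientGroup.eq.2 (mem_subgroupOf.2 hdm)⟩
  have hidx : f.ker.index = Nat.card (invSub T) - 1 := by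
    rw [Subgroup.index_ker, MonoidHom.range_eq_top.2 hf, card_top, ← index_eq_card]
    exact h.relIndex_TW hT
  have hker : f.ker = (Ux M x).subgroupOf (DD M x) := by
    ext d
    rw [MonoidHom.mem_ker, mem_subgroupOf, mem_Ux]
    refine ⟨fun e => ⟨mem_TW_odd hT (mem_subgroupOf.1 ((QuotientGroup.eq_one_iff (Subgroup.inclusion DD_le d)).1 e))
      (odd_orderOf_of_mem (h.odd_DD hx) d.2), d.2.2⟩, fun e =>
      (QuotientGroup.eq_one_iff (Subgroup.inclusion DD_le d)).2 (mem_subgroupOf.2 (mem_sup_right e.1))⟩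
  have h1 := f.ker.card_mul_index
  rw [hidx, hker, Nat.card_congr (subgroupOfEquivOfLe
    (show Ux M x ≤ DD M x from fun w hw => ⟨Wc_le M (mem_Ux.1 hw).1, (mem_Ux.1 hw).2⟩)).toEquiv] at h1
  exact h1.symm

/-- An element of order `q - 1` of a two point stabiliser, inverted by a swapper, fixing two points only. -/
theorem exists_torus (pf : PureFacts M T) {x : G ⧸ M} (hx : x ≠ base M) {u : G} (hu : orderOf u = 2)
    (hua : u • base M = x) :
    ∃ k ∈ DD M x, orderOf k = Nat.card (invSub T) - 1 ∧ u * k * u⁻¹ = k⁻¹ ∧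
      ∀ y ∈ zpowers k, y ≠ 1 → ∀ z : G ⧸ M, y • z = z → z = base M ∨ z = x := by
  classical
  set ι := Nat.card (invSub T) - 1 with hι
  set D := DD M x with hD
  have hDodd := h.odd_DD hx
  have hun : u ∈ normalizer (D : Set G) := swap_mem_normalizer hu hua
  have hUn : D ≤ normalizer (Ux M x : Set G) := DD_norm_Ux
  set U' := (Ux M x).subgroupOf D with hU'
  haveI : U'.Normal := normal_subgroupOf_of_le_normalizer hUn
  set q := QuotientGroup.mk' U' with hq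
  have hsplit : ∀ d ∈ D, ∃ c ∈ Ux M x, ∃ v ∈ D, u * v * u⁻¹ = v⁻¹ ∧ u * c = c * u ∧ d = c * v⁻¹ := by
    intro d hd
    obtain ⟨c, hc, v, hv, huc, huv, e, -⟩ := exists_centralized_mul_inverted hDodd hu hun hd
    exact ⟨c, h.swap_centralized hT pf hx hu hc huc.symm, v, hv, huv, huc, e⟩
  set σ := D.normalizerMonoidHom ⟨u, hun⟩ with hσ
  have hσv : ∀ d : ↥D, ((σ d : ↥D) : G) = u * d * u⁻¹ := fun _ => rfl
  have hinv : ∀ d : ↥D, q (σ d) = (q d)⁻¹ := by
    intro d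
    obtain ⟨c, hc, v, hv, huv, huc, e⟩ := hsplit d d.2
    have hcD : c ∈ D := ⟨Wc_le M (mem_Ux.1 hc).1, (mem_Ux.1 hc).2⟩
    have hc1 : q ⟨c, hcD⟩ = 1 := (QuotientGroup.eq_one_iff _).2 (mem_subgroupOf.2 hc)
    have e1 : d = ⟨c, hcD⟩ * ⟨v, hv⟩⁻¹ := Subtype.ext e
    have e2 : σ d = ⟨c, hcD⟩ * ⟨v, hv⟩ := Subtype.ext (by
      rw [hσv, e]
      show u * (c * v⁻¹) * u⁻¹ = c * v
      calc u * (c * v⁻¹) * u⁻¹ = (u * c) * u⁻¹ * (u * v * u⁻¹)⁻¹ := by group
        _ = c * v := by rw [huv, huc]; group)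
    rw [e2, map_mul, e1, map_mul, map_inv, hc1, one_mul, one_mul, inv_inv]
  have hab : ∀ a b : ↥D, q a * q b = q b * q a := fun a b => by
    have e := hinv (a * b)
    rw [map_mul, map_mul, hinv a, hinv b, map_mul, mul_inv_rev] at e
    have e' := congrArg (fun z => z⁻¹) e
    simp only [mul_inv_rev, inv_inv] at e'
    exact e'.symm
  obtain ⟨g, hg, hgen⟩ := h.exists_gen_mod_W (DD_le (x := x)) hDodd fun a ha b hb => by
    have e : q (⟨a, ha⟩ * ⟨b, hb⟩ * ⟨a, ha⟩⁻¹ * ⟨b, hb⟩⁻¹) = 1 := by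
      rw [map_mul, map_mul, map_mul, map_inv, map_inv, hab, mul_inv_cancel_right, mul_inv_cancel]
    exact (mem_Ux.1 (mem_subgroupOf.1 ((QuotientGroup.eq_one_iff _).1 e))).1
  obtain ⟨c, hc, v, hv, huv, huc, e⟩ := hsplit g hg
  set k0 : G := v⁻¹ with hk0
  have hk0D : k0 ∈ D := D.inv_mem hv
  have hk0i : u * k0 * u⁻¹ = k0⁻¹ := by
    rw [hk0, inv_inv]
    calc u * v⁻¹ * u⁻¹ = (u * v * u⁻¹)⁻¹ := by group
      _ = v := by rw [huv, inv_inv]
  have hgk : q ⟨g, hg⟩ = q ⟨k0, hk0D⟩ := by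
    have hcD : c ∈ D := ⟨Wc_le M (mem_Ux.1 hc).1, (mem_Ux.1 hc).2⟩
    rw [show (⟨g, hg⟩ : ↥D) = ⟨c, hcD⟩ * ⟨k0, hk0D⟩ from Subtype.ext e, map_mul,
      show q ⟨c, hcD⟩ = 1 from (QuotientGroup.eq_one_iff _).2 (mem_subgroupOf.2 hc), one_mul]
  have htop : zpowers (q ⟨k0, hk0D⟩) = ⊤ := by
    refine eq_top_iff.2 fun z _ => ?_
    obtain ⟨d, rfl⟩ := QuotientGroup.mk'_surjective U' z
    obtain ⟨i, hi⟩ := hgen d d.2
    refine mem_zpowers_iff.2 ⟨i, ?_⟩
    rw [← hgk, ← map_zpow, ← inv_mul_eq_one, ← map_inv, ← map_mul]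
    refine (QuotientGroup.eq_one_iff _).2 (mem_subgroupOf.2 (mem_Ux.2 ⟨?_, ?_⟩))
    · simpa using hi
    · exact ((⟨g, hg⟩ ^ i)⁻¹ * d : ↥D).2.2
  have hqcard : orderOf (q ⟨k0, hk0D⟩) = ι := by
    rw [← Nat.card_zpowers, htop, card_top, ← index_eq_card]
    have h1 := U'.card_mul_index
    rw [hU', Nat.card_congr (subgroupOfEquivOfLe
      (show Ux M x ≤ D from fun w hw => ⟨Wc_le M (mem_Ux.1 hw).1, (mem_Ux.1 hw).2⟩)).toEquiv,
      h.card_DD hT hx] at h1
    exact Nat.eq_of_mul_eq_mul_left Nat.card_pos h1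
  have hdvd : ι ∣ orderOf k0 := by
    rw [← hqcard]
    exact (orderOf_map_dvd q _).trans (Subgroup.orderOf_mk k0 hk0D).dvd
  have hW : ∀ j : ℕ, k0 ^ j ∈ Wc M ↔ ι ∣ j := fun j => by
    rw [← hqcard, orderOf_dvd_iff_pow_eq_one, ← map_pow, hq, QuotientGroup.mk'_apply,
      QuotientGroup.eq_one_iff, mem_subgroupOf, mem_Ux]
    exact ⟨fun h' => ⟨h', ((⟨k0, hk0D⟩ : ↥D) ^ j).2.2⟩, fun h' => h'.1⟩
  obtain ⟨mm, hmm⟩ := hdvd
  have h7 := (h.ibar_facts hT).1
  have hmm0 : mm ≠ 0 := fun e' => (orderOf_pos k0).ne' (by rw [hmm, e', mul_zero])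
  have hcop : ι.Coprime mm := by
    refine Nat.coprime_of_dvd fun r hr hrι hrm => ?_
    set j := orderOf k0 / r with hj
    have hrn : r ∣ orderOf k0 := hmm ▸ hrι.trans (dvd_mul_right ι mm)
    have hιj : ι ∣ j := by
      rw [hj, hmm, Nat.mul_div_assoc _ hrm]
      exact dvd_mul_right _ _
    have hjo : orderOf (k0 ^ j) = r := by
      rw [hj, orderOf_pow_of_dvd (Nat.div_pos (Nat.le_of_dvd (orderOf_pos k0) hrn) hr.pos).ne'
        (Nat.div_dvd_of_dvd hrn), Nat.div_div_self hrn (orderOf_pos k0).ne']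
    exact pf.real_W r hr hrι x hx u hu hua (k0 ^ j) ((hW j).2 hιj)
      (D.pow_mem hk0D j).2 hjo (by rw [← conj_pow, hk0i, inv_pow])
  set k := k0 ^ mm with hk
  have hko : orderOf k = ι := by
    rw [hk, orderOf_pow_of_dvd hmm0 (hmm ▸ dvd_mul_left _ _), hmm, Nat.mul_div_cancel _ (Nat.pos_of_ne_zero hmm0)]
  have hki : u * k * u⁻¹ = k⁻¹ := by rw [hk, ← conj_pow, hk0i, inv_pow]
  refine ⟨k, D.pow_mem hk0D mm, hko, hki, fun y hy hy1 z hz => ?_⟩
  obtain ⟨i, hi⟩ : ∃ i : ℕ, k ^ i = y := (mem_powers_iff_mem_zpowers).2 hy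
  obtain ⟨r, hr, hry⟩ := Nat.exists_prime_and_dvd (fun e' => hy1 (orderOf_eq_one_iff.1 e'))
  have hrι : r ∣ ι := hry.trans (hko ▸ hi ▸ orderOf_pow_dvd i)
  set d := y ^ (orderOf y / r) with hd
  have hdo : orderOf d = r := by
    rw [hd, orderOf_pow_of_dvd (Nat.div_pos (Nat.le_of_dvd (orderOf_pos y) hry) hr.pos).ne'
      (Nat.div_dvd_of_dvd hry), Nat.div_div_self hry (orderOf_pos y).ne']
  have hdk : d = k0 ^ (mm * i * (orderOf y / r)) := by rw [hd, ← hi, hk, ← pow_mul, ← pow_mul, mul_assoc]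
  have hdW : d ∉ Wc M := fun e' => by
    rw [hdk, hW, mul_assoc] at e'
    have h1 := hcop.dvd_of_dvd_mul_left e'
    have h2 : d = 1 := by
      rw [hd, show y ^ (orderOf y / r) = k ^ (i * (orderOf y / r)) by rw [pow_mul, hi]]
      exact orderOf_dvd_iff_pow_eq_one.1 (hko.symm ▸ h1)
    rw [h2, orderOf_one] at hdo
    exact hr.one_lt.ne hdo
  refine pf.pair r hr hrι x hx u hu hua d (hdk ▸ (D.pow_mem hk0D _).1) (hdk ▸ (D.pow_mem hk0D _).2) hdW hdo
    (by rw [hdk, ← conj_pow, hk0i, inv_pow]) z ?_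
  rw [hd]
  exact (pow_mem (MulAction.mem_stabilizer_iff.2 hz : y ∈ MulAction.stabilizer G z) _)

end Ctx

end CfsgLib.InvCent
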