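import Cfsg.Agent.Lib.InvCentTwoNilp.Common
import Cfsg.Agent.Lib.Transfer.RankTwo

/-!
# Two point stabilisers and `p`-subgroups of `M` modulo `W` (S3214)

Owner: helper5.
-/

set_option autoImplicit false
set_option linter.unusedSectionVars false

namespace CfsgLib.InvCent

open Subgroup CfsgLib.CIT
open CfsgLib.Signalizer (involution_sq involution_inv involution_ne_one orderOf_eq_two_of orderOf_conj)
open CfsgLib.TwoGroups.SE (smul_mk_eq_iff)

universe u

variable {G : Type u} [Group G]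

/-- The stabiliser in `M` of a further point. -/
def DD (M : Subgroup G) (x : G ⧸ M) : Subgroup G := M ⊓ MulAction.stabilizer G x

theorem mem_DD {M : Subgroup G} {x : G ⧸ M} {d : G} : d ∈ DD M x ↔ d ∈ M ∧ d • x = x := Iff.rfl

theorem DD_le {M : Subgroup G} {x : G ⧸ M} : DD M x ≤ M := inf_le_left

variable [Finite G] [IsSimpleGroup G] {M T : Subgroup G}

/-- Subgroups of equal order of a cyclic subgroup are equal. -/
theorem eq_of_le_zpowers {H : Type*} [Group H] [Finite H] {g : H} {A B : Subgroup H}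
    (hA : A ≤ Subgroup.zpowers g) (hB : B ≤ Subgroup.zpowers g) (h : Nat.card A = Nat.card B) : A = B := by
  classical
  set C := Subgroup.zpowers g
  have := Fintype.ofFinite ↥C
  suffices key : ∀ A' : Subgroup ↥C,
      Finset.univ.filter (fun x : ↥C => x ^ Nat.card A' = 1) = Finset.univ.filter (· ∈ A') by
    have h' : Nat.card (A.subgroupOf C) = Nat.card (B.subgroupOf C) := by
      rw [Nat.card_congr (subgroupOfEquivOfLe hA).toEquiv, h, Nat.card_congr (subgroupOfEquivOfLe hB).toEquiv]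
    have h1 := key (A.subgroupOf C)
    rw [h', key (B.subgroupOf C)] at h1
    ext x
    constructor <;> intro hx
    · have := (Finset.ext_iff.1 h1 ⟨x, hA hx⟩).2 (by simpa [mem_subgroupOf] using hx)
      simpa [mem_subgroupOf] using this
    · have := (Finset.ext_iff.1 h1 ⟨x, hB hx⟩).1 (by simpa [mem_subgroupOf] using hx)
      simpa [mem_subgroupOf] using this
  intro A'
  refine (Finset.eq_of_subset_of_card_le (fun x hx => ?_) ?_).symm
  · rw [Finset.mem_filter] at hx ⊢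
    exact ⟨Finset.mem_univ _, congrArg Subtype.val (pow_card_eq_one' (x := (⟨x, hx.2⟩ : A')))⟩
  · refine (IsCyclic.card_pow_eq_one_le Nat.card_pos).trans ?_
    rw [Nat.card_eq_fintype_card, Fintype.card_subtype]

theorem swap_mem_normalizer {M : Subgroup G} {u : G} (hu : orderOf u = 2) {x : G ⧸ M}
    (hux : u • base M = x) : u ∈ normalizer (DD M x : Set G) := by
  have hxu := smul_back hu hux
  have hfix : ∀ d ∈ DD M x, u * d * u⁻¹ ∈ DD M x := by
    intro d hd
    rw [mem_DD] at hd ⊢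
    rw [← smul_base_eq_iff] at hd ⊢
    constructor <;> rw [involution_inv hu, mul_smul, mul_smul]
    · rw [hux, hd.2, hxu]
    · rw [hxu, hd.1, hux]
  refine mem_normalizer_iff.2 fun d => ⟨hfix d, fun hd => ?_⟩
  have := hfix _ hd
  rwa [show u * (u * d * u⁻¹) * u⁻¹ = u * u * d * (u * u)⁻¹ by group, involution_sq hu, one_mul, inv_one,
    mul_one] at this

namespace Ctx

variable (h : Ctx M)
include h

theorem odd_DD {x : G ⧸ M} (hx : x ≠ base M) : Odd (Nat.card (DD M x)) :=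
  h.odd_two hx.symm (fun _ hd => smul_base_eq_iff.2 hd.1) fun _ hd => hd.2

/-- `M = D T W`. -/
theorem exists_DD_mod_TW (hT : IsSyl T M) {x : G ⧸ M} (hx : x ≠ base M) {m : G} (hm : m ∈ M) :
    ∃ d ∈ DD M x, d⁻¹ * m ∈ T ⊔ Wc M := by
  obtain ⟨a, haM, ha⟩ := Signalizer.exists_involution_of_even h.se.2.1
  have ham : m * a * m⁻¹ ∈ M := M.mul_mem (M.mul_mem hm haM) (M.inv_mem hm)
  obtain ⟨d, hda, hdx, hd⟩ := TwoGroups.SE.exists_conj_fixing h.se hx.symm ha
    (smul_base_eq_iff.2 haM) ((orderOf_conj m a).trans ha) (smul_base_eq_iff.2 ham)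
  have hdM : d ∈ M := smul_base_eq_iff.1 hda
  refine ⟨d, ⟨hdM, hdx⟩, h.mem_TW_of_conj hT (M.mul_mem (M.inv_mem hdM) hm) haM ha ?_⟩
  rw [show a * (d⁻¹ * m * a * (d⁻¹ * m)⁻¹) = a * (d⁻¹ * (m * a * m⁻¹) * d) by group, ← hd,
    show a * (d⁻¹ * (d * a * d⁻¹) * d) = a * a by group, involution_sq ha]
  exact one_mem _

/-- A Sylow `p`-subgroup of a two point stabiliser lies outside `W` for `p ∣ q - 1`. -/
theorem not_sylP_DD_le_W (hT : IsSyl T M) {p : ℕ} [hp : Fact p.Prime]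
    (hdvd : p ∣ Nat.card (invSub T) - 1) {x : G ⧸ M} (hx : x ≠ base M) {R : Subgroup G}
    (hR : SylP p R (DD M x)) : ¬ R ≤ Wc M := by
  intro hle
  haveI : ((T ⊔ Wc M).subgroupOf M).Normal :=
    normal_subgroupOf_of_le_normalizer (h.TW_normalized hT)
  let f : ↥(DD M x) →* ↥M ⧸ (T ⊔ Wc M).subgroupOf M :=
    (QuotientGroup.mk' _).comp (Subgroup.inclusion DD_le)
  have hf : Function.Surjective f := by
    intro y
    obtain ⟨m, rfl⟩ := QuotientGroup.mk_surjective y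
    obtain ⟨d, hd, hdm⟩ := h.exists_DD_mod_TW hT hx m.2
    exact ⟨⟨d, hd⟩, QuotientGroup.eq.2 (mem_subgroupOf.2 hdm)⟩
  have hidx : f.ker.index = Nat.card (invSub T) - 1 := by
    rw [Subgroup.index_ker, MonoidHom.range_eq_top.2 hf, card_top, ← index_eq_card]
    exact h.relIndex_TW hT
  obtain ⟨S, hS⟩ := hR.exists_sylow
  have hSk : (S : Subgroup ↥(DD M x)) ≤ f.ker := fun d hd =>
    (QuotientGroup.eq_one_iff _).2 (mem_subgroupOf.2 (mem_sup_right (hle (hS ▸ mem_map_of_mem _ hd))))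
  exact S.not_dvd_index ((hidx.symm ▸ hdvd).trans (index_dvd_of_le hSk))

theorem mem_W_of_mem_TW (hT : IsSyl T M) {y : G} (hy : y ∈ T ⊔ Wc M) (ho : Odd (orderOf y)) :
    y ∈ Wc M := mem_TW_odd hT hy ho

/-- In a `p`-subgroup of `M` there is only one subgroup of order `p` modulo `W`. -/
theorem mod_W_unique {p : ℕ} [hp : Fact p.Prime] (hp2 : p ≠ 2) {R : Subgroup G} (hR : R ≤ M)
    (hRp : IsPGroup p R) {x y : G} (hx : x ∈ R) (hxW : x ∉ Wc M) (hxp : x ^ p ∈ Wc M) (hy : y ∈ R)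
    (hyp : y ^ p ∈ Wc M) : ∃ j : ℤ, (x ^ j)⁻¹ * y ∈ Wc M := by
  classical
  haveI : ((Wc M).subgroupOf R).Normal :=
    normal_subgroupOf_of_le_normalizer (hR.trans (Wc_normalized M))
  set π := QuotientGroup.mk' ((Wc M).subgroupOf R) with hπ
  have hodd : ∀ g ∈ R, Odd (orderOf g) := fun g hg => by
    obtain ⟨k, hk⟩ := IsPGroup.iff_orderOf.1 hRp ⟨g, hg⟩
    rw [Subgroup.orderOf_mk] at hk
    rw [hk]; exact (hp.out.odd_of_ne_two hp2).pow
  have hker : ∀ g : ↥R, π g = 1 ↔ (g : G) ∈ Wc M := fun g =>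
    (QuotientGroup.eq_one_iff g).trans mem_subgroupOf
  -- commuting classes
  have hcomm : ∀ a b : ↥R, π a * π b = π b * π a → π a ^ p = 1 → π a ≠ 1 → π b ^ p = 1 →
      π b ∈ Subgroup.zpowers (π a) := by
    intro a b hab hap ha1 hbp
    set X := Subgroup.zpowers (π a) ⊔ Subgroup.zpowers (π b) with hX
    set Y := (X.comap π).map R.subtype with hY
    have hYR : Y ≤ R := map_subtype_le _
    have hC : IsMulCommutative X := by
      rw [hX, zpowers_eq_closure, zpowers_eq_closure, ← Subgroup.closure_union]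
      exact isMulCommutative_closure (by
        intro s hs t ht
        rcases hs with rfl | rfl <;> rcases ht with rfl | rfl
        exacts [rfl, hab, hab.symm, rfl])
    have hYab : ∀ s ∈ Y, ∀ t ∈ Y, s * t * s⁻¹ * t⁻¹ ∈ Wc M := by
      rintro _ ⟨s, hs, rfl⟩ _ ⟨t, ht, rfl⟩
      refine (hker (s * t * s⁻¹ * t⁻¹)).1 ?_
      have e : π s * π t = π t * π s := congrArg Subtype.val
        (hC.is_comm.comm (⟨π s, hs⟩ : X) ⟨π t, ht⟩)
      simp only [map_mul, map_inv]
      rw [e, mul_inv_cancel_right, mul_inv_cancel]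
    obtain ⟨g, hg, hgen⟩ := h.exists_gen_mod_W (hYR.trans hR)
      ((hRp.to_le hYR).exists_card_eq.elim fun k hk => hk ▸ (hp.out.odd_of_ne_two hp2).pow) hYab
    obtain ⟨i, hi⟩ := hgen _ ⟨a, mem_sup_left (mem_zpowers _), rfl⟩
    obtain ⟨j, hj⟩ := hgen _ ⟨b, mem_sup_right (mem_zpowers _), rfl⟩
    set g' : ↥R := ⟨g, hYR hg⟩
    have hai : π a = π g' ^ i := by
      rw [← map_zpow, ← inv_mul_eq_one.1 (show (π (g' ^ i))⁻¹ * π a = 1 by
        rw [← map_inv, ← map_mul]; exact (hker _).2 hi)]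
    have hbj : π b = π g' ^ j := by
      rw [← map_zpow, ← inv_mul_eq_one.1 (show (π (g' ^ j))⁻¹ * π b = 1 by
        rw [← map_inv, ← map_mul]; exact (hker _).2 hj)]
    have hga : π a ∈ Subgroup.zpowers (π g') := hai ▸ zpow_mem (mem_zpowers _) i
    have hgb : π b ∈ Subgroup.zpowers (π g') := hbj ▸ zpow_mem (mem_zpowers _) j
    by_cases hb1 : π b = 1
    · rw [hb1]; exact one_mem _
    have he : Subgroup.zpowers (π b) = Subgroup.zpowers (π a) :=
      eq_of_le_zpowers (zpowers_le.2 hgb) (zpowers_le.2 hga)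
        (by rw [Nat.card_zpowers, Nat.card_zpowers, orderOf_eq_prime hbp hb1, orderOf_eq_prime hap ha1])
    exact he ▸ mem_zpowers _
  have hQp : IsPGroup p (↥R ⧸ (Wc M).subgroupOf R) := hRp.to_quotient _
  set a : ↥R := ⟨x, hx⟩
  set b : ↥R := ⟨y, hy⟩
  have ha1 : π a ≠ 1 := fun e => hxW ((hker a).1 e)
  have hap : π a ^ p = 1 := by rw [← map_pow]; exact (hker _).2 hxp
  have hbp : π b ^ p = 1 := by rw [← map_pow]; exact (hker _).2 hyp
  haveI : Nontrivial (↥R ⧸ (Wc M).subgroupOf R) := ⟨⟨π a, 1, ha1⟩⟩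
  haveI := hQp.center_nontrivial
  obtain ⟨⟨c, hc⟩, hco⟩ := exists_prime_orderOf_dvd_card' (G := Subgroup.center (↥R ⧸ (Wc M).subgroupOf R)) p
    (by
      obtain ⟨k, hk⟩ := (hQp.to_subgroup (Subgroup.center _)).exists_card_eq
      rw [hk]
      refine dvd_pow_self p fun e => ?_
      rw [e, pow_zero] at hk
      exact absurd hk Finite.one_lt_card.ne')
  rw [Subgroup.orderOf_mk] at hco
  obtain ⟨c', rfl⟩ := QuotientGroup.mk'_surjective ((Wc M).subgroupOf R) c
  have hc1 : π c' ≠ 1 := fun e => by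
    rw [show QuotientGroup.mk' _ c' = π c' from rfl, e, orderOf_one] at hco
    exact hp.out.one_lt.ne hco
  have hcp : π c' ^ p = 1 := hco ▸ pow_orderOf_eq_one _
  have h1 := hcomm c' a ((Subgroup.mem_center_iff.1 hc _).symm) hcp hc1 hap
  have h2 := hcomm c' b ((Subgroup.mem_center_iff.1 hc _).symm) hcp hc1 hbp
  have he : Subgroup.zpowers (π a) = Subgroup.zpowers (π c') :=
    eq_of_le_of_card_ge (zpowers_le.2 h1)
      (by rw [Nat.card_zpowers, Nat.card_zpowers, orderOf_eq_prime hap ha1, orderOf_eq_prime hcp hc1])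
  rw [← he] at h2
  obtain ⟨j, hj⟩ := mem_zpowers_iff.1 h2
  refine ⟨j, (hker ((a ^ j)⁻¹ * b)).1 ?_⟩
  rw [map_mul, map_inv, map_zpow, hj, inv_mul_cancel]

/-- `p`-subgroups of `M` are cyclic modulo `W`. -/
theorem comm_mem_W {p : ℕ} [hp : Fact p.Prime] (hp2 : p ≠ 2) {R : Subgroup G} (hR : R ≤ M)
    (hRp : IsPGroup p R) {x y : G} (hx : x ∈ R) (hy : y ∈ R) : x * y * x⁻¹ * y⁻¹ ∈ Wc M := by
  classical
  haveI : ((Wc M).subgroupOf R).Normal :=
    normal_subgroupOf_of_le_normalizer (hR.trans (Wc_normalized M))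
  set π := QuotientGroup.mk' ((Wc M).subgroupOf R) with hπ
  have hker : ∀ g : ↥R, π g = 1 ↔ (g : G) ∈ Wc M := fun g =>
    (QuotientGroup.eq_one_iff g).trans mem_subgroupOf
  haveI : IsCyclic (↥R ⧸ (Wc M).subgroupOf R) :=
    Transfer.isCyclic_of_unique_order_p hp2 (hRp.to_quotient _) fun u v hu hu1 hv => by
      obtain ⟨a, rfl⟩ := QuotientGroup.mk_surjective u
      obtain ⟨b, rfl⟩ := QuotientGroup.mk_surjective v
      obtain ⟨j, hj⟩ := h.mod_W_unique hp2 hR hRp a.2 (fun e => hu1 ((hker a).2 e))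
        ((hker (a ^ p)).1 (by rw [map_pow]; exact hu)) b.2 ((hker (b ^ p)).1 (by rw [map_pow]; exact hv))
      refine mem_zpowers_iff.2 ⟨j, ?_⟩
      have := (hker ((a ^ j)⁻¹ * b)).2 hj
      rwa [map_mul, map_inv, map_zpow, inv_mul_eq_one] at this
  refine (hker (⟨x, hx⟩ * ⟨y, hy⟩ * ⟨x, hx⟩⁻¹ * ⟨y, hy⟩⁻¹)).1 ?_
  let _ := IsCyclic.commGroup (α := ↥R ⧸ (Wc M).subgroupOf R)
  simp only [map_mul, map_inv]
  rw [mul_comm (π ⟨x, hx⟩) (π ⟨y, hy⟩), mul_inv_cancel_right, mul_inv_cancel]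

theorem isSolvable_M : Group.IsSolvable M := by
  obtain ⟨T, hT, -⟩ := exists_isSyl (bot_le : (⊥ : Subgroup G) ≤ M) IsPGroup.of_bot
  haveI : ((T ⊔ Wc M).subgroupOf M).Normal :=
    normal_subgroupOf_of_le_normalizer (h.TW_normalized hT)
  haveI : ((Wc M).subgroupOf (T ⊔ Wc M)).Normal :=
    normal_subgroupOf_of_le_normalizer (sup_le (T_le_norm hT) le_normalizer)
  have h1 : Group.IsSolvable ↥(T ⊔ Wc M) := by
    haveI : Group.IsSolvable ((Wc M).subgroupOf (T ⊔ Wc M)) := Cfsg.Agent.S0205.result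
      (by rw [Nat.card_congr (subgroupOfEquivOfLe (le_sup_right : Wc M ≤ T ⊔ Wc M)).toEquiv]
          exact odd_Wc M)
    haveI : Fact (Nat.Prime 2) := ⟨Nat.prime_two⟩
    have hq : IsPGroup 2 (↥(T ⊔ Wc M) ⧸ (Wc M).subgroupOf (T ⊔ Wc M)) := by
      intro z
      obtain ⟨g, rfl⟩ := QuotientGroup.mk_surjective z
      obtain ⟨hgM, k, hk⟩ := h.exists_pow_mem_W hT g.2
      refine ⟨k, ?_⟩
      rw [← QuotientGroup.mk_pow, QuotientGroup.eq_one_iff, mem_subgroupOf]
      refine (mk_eq_one_iff ((⟨g, hgM⟩ : ↥M) ^ 2 ^ k)).1 ?_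
      rw [QuotientGroup.mk_pow, ← hk]
      exact pow_orderOf_eq_one _
    haveI := hq.isNilpotent
    exact Group.isSolvable_of_ker_le_range ((Wc M).subgroupOf (T ⊔ Wc M)).subtype
      (QuotientGroup.mk' ((Wc M).subgroupOf (T ⊔ Wc M))) (by simp)
  haveI : Group.IsSolvable ((T ⊔ Wc M).subgroupOf M) :=
    Group.isSolvable_of_isSolvable_injective (f := (subgroupOfEquivOfLe (sup_le hT.1 (Wc_le M))).toMonoidHom)
      (subgroupOfEquivOfLe (sup_le hT.1 (Wc_le M))).injective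
  haveI : Group.IsSolvable (↥M ⧸ (T ⊔ Wc M).subgroupOf M) := Cfsg.Agent.S0205.result (by
    rw [← index_eq_card]
    show Odd ((T ⊔ Wc M).relIndex M)
    rw [h.relIndex_TW hT]
    obtain ⟨n, hn⟩ := (h.invSub_elem hT).card_two_pow
    rw [hn]
    refine Nat.Even.sub_odd Nat.one_le_two_pow ?_ odd_one
    rw [Nat.even_pow]
    refine ⟨even_two, fun e => ?_⟩
    have := h.eight_le_invSub hT
    rw [hn, e] at this; norm_num at this)
  exact Group.isSolvable_of_ker_le_range ((T ⊔ Wc M).subgroupOf M).subtype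
    (QuotientGroup.mk' ((T ⊔ Wc M).subgroupOf M)) (by simp)

end Ctx

end CfsgLib.InvCent
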