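import Cfsg.Agent.Lib.InvCentTwoNilp.MainRed
import Cfsg.Agent.Lib.InvCentTwoNilp.Base

/-!
# The classification from the nonexistence of a minimal configuration (S3214)
-/

set_option autoImplicit false

namespace CfsgLib.InvCent

universe u

/-- A simple non-abelian group all of whose involution centralisers have normal 2-complements is known. -/
theorem main {G : Type u} [Group G] [Finite G] [IsSimpleGroup G] (hno : NoCtx.{u})
    (hna : ¬ IsMulCommutative G) (hI : TwoNilpCent G) :
    (∃ (F : Type) (_ : Field F) (_ : Fintype F), 3 < Fintype.card F ∧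
        Nonempty (G ≃* Matrix.ProjectiveSpecialLinearGroup (Fin 2) F)) ∨
      Cfsg.Lie.IsoSuzuki G ∨ Nonempty (G ≃* ↥(alternatingGroup (Fin 7))) ∨
      (∃ (F : Type) (_ : Field F) (_ : Fintype F), Fintype.card F = 4 ∧
        Nonempty (G ≃* Matrix.ProjectiveSpecialLinearGroup (Fin 3) F)) :=
  main_of_pstmt (pStmt hno G) hna hI

end CfsgLib.InvCent
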