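import Cfsg.Agent.Lib.InvCentTwoNilp.Signalizer
import Cfsg.Agent.Lib.InvCentTwoNilp.CITOdd

/-!
# The setting: a strongly embedded subgroup carrying the `θ(t)` (S3214)

Owner: helper5.  `W = O(M)`, `T` a Sylow 2-subgroup of `M`, `A = invSub T`.  Modulo `W` the subgroup `M` has a normal
Sylow 2-subgroup with central involutions, permuted regularly by the odd part.
-/

set_option autoImplicit false
set_option linter.unusedSectionVars false

namespace CfsgLib.InvCent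

open Subgroup CfsgLib.CIT
open CfsgLib.Signalizer (involution_sq involution_inv involution_ne_one orderOf_eq_two_of orderOf_conj)

universe u

variable {G : Type u} [Group G]

section Generic

/-- An element of odd order inverted by an element of odd order is trivial. -/
theorem real_eq_one {x k : G} (hk : Odd (orderOf k)) (hx : Odd (orderOf x))
    (h : k * x * k⁻¹ = x⁻¹) : x = 1 := by
  obtain ⟨n, hn⟩ := hk
  have h2 : ∀ j : ℕ, k ^ (2 * j) * x * (k ^ (2 * j))⁻¹ = x := by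
    intro j
    induction j with
    | zero => simp
    | succ j ih =>
      calc k ^ (2 * (j + 1)) * x * (k ^ (2 * (j + 1)))⁻¹
          = k * (k * (k ^ (2 * j) * x * (k ^ (2 * j))⁻¹) * k⁻¹) * k⁻¹ := by
            rw [show 2 * (j + 1) = 2 * j + 1 + 1 by ring, pow_succ', pow_succ']; group
        _ = k * x⁻¹ * k⁻¹ := by rw [ih, h]
        _ = x := by rw [← conj_inv, h, inv_inv]
  have h3 : x = x⁻¹ := by
    have := h2 n
    calc x = k ^ orderOf k * x * (k ^ orderOf k)⁻¹ := by rw [pow_orderOf_eq_one]; group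
      _ = k * (k ^ (2 * n) * x * (k ^ (2 * n))⁻¹) * k⁻¹ := by rw [hn, pow_succ']; group
      _ = x⁻¹ := by rw [this, h]
  exact eq_one_of_odd_of_sq' hx h3
where
  eq_one_of_odd_of_sq' {x : G} (hx : Odd (orderOf x)) (h3 : x = x⁻¹) : x = 1 :=
    ZStar.eq_one_of_odd_of_sq hx (by rw [pow_two]; nth_rw 2 [h3]; exact mul_inv_cancel x)

/-- Involutions in one coset of a subgroup of odd order are conjugate under it. -/
theorem exists_conj_of_mul_mem {W : Subgroup G} (hW : Odd (Nat.card W)) {a b : G} (ha : orderOf a = 2)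
    (hb : orderOf b = 2) (h : a * b ∈ W) : ∃ v ∈ W, v * a * v⁻¹ = b := by
  have ho : Odd (orderOf (a * b)) := odd_orderOf_of_mem' hW h
  obtain ⟨n, hn⟩ := ho
  refine ⟨(a * b) ^ n, pow_mem h n, ?_⟩
  have h1 : a * ((a * b) ^ n)⁻¹ = (a * b) ^ n * a := by
    rw [← zpow_natCast, ← zpow_neg, Signalizer.mul_pair_zpow ha hb, neg_neg]
  rw [mul_assoc, h1, ← mul_assoc, ← pow_add]
  have h2 : (a * b) ^ (n + n) * (a * b) = 1 := by
    rw [← pow_succ, show n + n + 1 = 2 * n + 1 by ring, ← hn, pow_orderOf_eq_one]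
  rw [eq_inv_of_mul_eq_one_left h2, mul_inv_rev, involution_inv ha, involution_inv hb, mul_assoc,
    involution_sq ha, mul_one]
where
  odd_orderOf_of_mem' {H : Subgroup G} (hH : Odd (Nat.card H)) {g : G} (hg : g ∈ H) :
      Odd (orderOf g) := hH.of_dvd_nat (H.orderOf_dvd_natCard hg)

theorem se_conj_mem {M : Subgroup G} [Finite G] (hM : Cfsg.IsStronglyEmbedded M) {t g : G}
    (ht : t ∈ M) (h2 : orderOf t = 2) (hg : g * t * g⁻¹ ∈ M) : g ∈ M :=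
  ((Signalizer.stronglyEmbedded_iff_conj M).1 hM).2.2 t ht h2 g hg

theorem se_sylow [Finite G] {M T : Subgroup G} (hM : Cfsg.IsStronglyEmbedded M) (hT : IsSyl T M) :
    IsSyl T ⊤ := by
  refine ⟨le_top, hT.2.1, fun Q hle _ hQ => ?_⟩
  by_contra hne
  obtain ⟨t, htM, ht⟩ : ∃ t ∈ M, orderOf t = 2 := Signalizer.exists_involution_of_even hM.2.1
  obtain ⟨T', hT', htT'⟩ := exists_isSyl (zpowers_le.2 htM)
    (IsPGroup.of_card (p := 2) (n := 1) (by rw [Nat.card_zpowers, ht, pow_one]))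
  obtain ⟨m, hm, hme⟩ := hT'.exists_conj hT
  have hs : m * t * m⁻¹ ∈ T := hme ▸ conj_mem_cj.2 (htT' (mem_zpowers t))
  obtain ⟨n, hnQ, hnT, hnN⟩ := exists_normalizing hQ (lt_of_le_of_ne hle fun e => hne (by rw [e]))
  have hnM : n ∈ M := se_conj_mem hM (hT.1 hs) ((orderOf_conj m t).trans ht)
    (hT.1 ((mem_normalizer_iff.1 hnN _).1 hs))
  exact hnT ((hT.2.2 (T ⊔ zpowers n) le_sup_left (sup_le hT.1 (zpowers_le.2 hnM))
    (hQ.to_le (sup_le hle (zpowers_le.2 hnQ)))) ▸ mem_sup_right (mem_zpowers n))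

/-- Proper overgroups of strongly embedded subgroups are strongly embedded. -/
theorem se_overgroup [Finite G] {M L : Subgroup G} (hM : Cfsg.IsStronglyEmbedded M) (hle : M ≤ L)
    (hL : L ≠ ⊤) : Cfsg.IsStronglyEmbedded L := by
  haveI : Fact (Nat.Prime 2) := ⟨Nat.prime_two⟩
  obtain ⟨T, hT, -⟩ := exists_isSyl (bot_le : (⊥ : Subgroup G) ≤ M) IsPGroup.of_bot
  have hTt := se_sylow hM hT
  have hTL : IsSyl T L := ⟨hT.1.trans hle, hT.2.1, fun Q h1 _ h2 => hTt.2.2 Q h1 le_top h2⟩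
  have hin : ∀ t ∈ L, orderOf t = 2 → ∃ l ∈ L, l * t * l⁻¹ ∈ M := by
    intro t ht h2
    obtain ⟨T', hT', htT'⟩ := exists_isSyl (zpowers_le.2 ht)
      (IsPGroup.of_card (p := 2) (n := 1) (by rw [Nat.card_zpowers, h2, pow_one]))
    obtain ⟨l, hl, hle'⟩ := hT'.exists_conj hTL
    exact ⟨l, hl, hT.1 (hle' ▸ conj_mem_cj.2 (htT' (mem_zpowers t)))⟩
  rw [Signalizer.stronglyEmbedded_iff_conj]
  refine ⟨hL, even_iff_two_dvd.2 ((even_iff_two_dvd.1 hM.2.1).trans (card_dvd_of_le hle)),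
    fun t ht h2 g hg => ?_⟩
  obtain ⟨l, hl, hlM⟩ := hin t ht h2
  obtain ⟨k, hk, hkM⟩ := hin _ hg ((orderOf_conj g t).trans h2)
  have h := se_conj_mem hM hlM ((orderOf_conj l t).trans h2) (g := k * g * l⁻¹)
    (by convert hkM using 1; group)
  rw [show g = k⁻¹ * (k * g * l⁻¹) * l by group]
  exact mul_mem (mul_mem (inv_mem hk) (hle h)) hl

end Generic

/-- The odd core of a subgroup, in the ambient group. -/
def Wc (M : Subgroup G) : Subgroup G := (Cfsg.oddCore ↥M).map M.subtype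

theorem Wc_le (M : Subgroup G) : Wc M ≤ M := map_subtype_le _

/-- The statement proved by induction on the order of the group. -/
def PStmt (G : Type u) [Group G] : Prop :=
  Cfsg.oddCore G = ⊥ → TwoNilpCent G → ∀ M : Subgroup G, Cfsg.IsStronglyEmbedded M →
    (∃ A ≤ M, Elem A ∧ 8 ≤ Nat.card A) → (∀ t ∈ M, orderOf t = 2 → theta t ≤ Wc M) →
    Cfsg.oddCore ↥M = ⊥

/-- A minimal configuration, to be refuted. -/
structure Ctx (M : Subgroup G) : Prop where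
  hI : TwoNilpCent G
  hna : ¬ IsMulCommutative G
  se : Cfsg.IsStronglyEmbedded M
  theta_le : ∀ t ∈ M, orderOf t = 2 → theta t ≤ Wc M
  elem : ∃ A ≤ M, Elem A ∧ 8 ≤ Nat.card A
  Wne : Wc M ≠ ⊥
  norm : normalizer (Wc M : Set G) = M
  ih : ∀ (H : Type u) [Group H] [Finite H], Nat.card H < Nat.card G → PStmt H

/-- The subgroup generated by the elements of square one of `T`. -/
def invSub (T : Subgroup G) : Subgroup G := closure {x | x ∈ T ∧ x * x = 1}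

variable [Finite G]

theorem odd_Wc (M : Subgroup G) : Odd (Nat.card (Wc M)) := by
  rw [Wc, card_map_of_injective (subtype_injective _)]
  exact ZStar.odd_card_oddCore _

theorem Wc_normalized (M : Subgroup G) : M ≤ normalizer (Wc M : Set G) := by
  refine le_trans (le_of_eq ?_) (le_normalizer_map _)
  rw [normalizer_eq_top_iff.2 (inferInstance : (Cfsg.oddCore _).Normal), ← MonoidHom.range_eq_map,
    range_subtype]

theorem conj_mem_Wc {M : Subgroup G} {m w : G} (hm : m ∈ M) (hw : w ∈ Wc M) :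
    m * w * m⁻¹ ∈ Wc M :=
  (mem_normalizer_iff.1 (Wc_normalized M hm) w).1 hw

theorem le_Wc {M X : Subgroup G} (hX : X ≤ M) (hn : M ≤ normalizer (X : Set G))
    (hodd : Odd (Nat.card X)) : X ≤ Wc M := by
  haveI : (X.subgroupOf M).Normal := normal_subgroupOf_of_le_normalizer hn
  intro x hx
  exact ⟨⟨x, hX hx⟩, ZStar.le_oddCore inferInstance
    (by rw [Nat.card_congr (subgroupOfEquivOfLe hX).toEquiv]; exact hodd) hx, rfl⟩

theorem mem_Wc_iff {M : Subgroup G} (x : ↥M) : x ∈ Cfsg.oddCore ↥M ↔ (x : G) ∈ Wc M :=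
  ⟨fun h => ⟨x, h, rfl⟩, fun ⟨y, hy, e⟩ => by
    have : y = x := Subtype.ext e
    exact this ▸ hy⟩

theorem mk_eq_one_iff {M : Subgroup G} (x : ↥M) : (x : ↥M ⧸ Cfsg.oddCore ↥M) = 1 ↔ (x : G) ∈ Wc M :=
  (QuotientGroup.eq_one_iff x).trans (mem_Wc_iff x)

namespace Ctx

variable [IsSimpleGroup G] {M : Subgroup G} (h : Ctx M)
include h

theorem cent_le {t : G} (ht : t ∈ M) (h2 : orderOf t = 2) : centralizer ({t} : Set G) ≤ M :=
  Signalizer.stronglyEmbedded_centralizer h.se ht h2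

theorem theta_eq {t : G} (ht : t ∈ M) (h2 : orderOf t = 2) :
    theta t = Wc M ⊓ centralizer ({t} : Set G) :=
  le_antisymm (le_inf (h.theta_le t ht h2) (InvCent.theta_le t))
    (h.hI.le_theta h2 inf_le_right ((odd_Wc M).of_dvd_nat (card_dvd_of_le inf_le_left)))

theorem ne_top_of_le_M {X : Subgroup G} (hX : X ≤ M) : X ≠ ⊤ :=
  fun e => h.se.1 (top_le_iff.1 (e ▸ hX))

omit h in
/-- Normalisers of proper nontrivial subgroups are proper. -/
theorem normalizer_ne_top {X : Subgroup G} (h1 : X ≠ ⊥) (h2 : X ≠ ⊤) :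
    normalizer (X : Set G) ≠ ⊤ := fun e =>
  ((normalizer_eq_top_iff.1 e).eq_bot_or_eq_top).elim h1 h2

/-- The quotient `M / W`: CIT with the odd transitive subgroup; hence the structure. -/
theorem quot_struct :
    CIT (↥M ⧸ Cfsg.oddCore ↥M) ∧
      (∀ t : ↥M ⧸ Cfsg.oddCore ↥M, orderOf t = 2 → t ∈ Cfsg.pCore 2 (↥M ⧸ Cfsg.oddCore ↥M) ∧
        ∀ c ∈ Cfsg.pCore 2 (↥M ⧸ Cfsg.oddCore ↥M), c * t = t * c) ∧
      ∀ g : ↥M ⧸ Cfsg.oddCore ↥M, (∃ k, orderOf g = 2 ^ k) →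
        g ∈ Cfsg.pCore 2 (↥M ⧸ Cfsg.oddCore ↥M) := by
  classical
  haveI : Fact (Nat.Prime 2) := ⟨Nat.prime_two⟩
  have hodd := ZStar.odd_card_oddCore (↥M)
  have hC : CIT (↥M ⧸ Cfsg.oddCore ↥M) := by
    intro x hx
    obtain ⟨t, ht, rfl⟩ := TwoNilpCent.exists_involution_lift hodd hx
    have ht' : orderOf (t : G) = 2 := by rw [orderOf_coe, ht]
    rintro ⟨y, hy⟩
    obtain ⟨c, rfl⟩ := QuotientGroup.mk_surjective y
    -- move `c` into the centraliser of `t`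
    have h1 : (t : G) * ((c : G) * t * (c : G)⁻¹) ∈ Wc M := by
      have e : ((t * (c * t * c⁻¹) : ↥M) : ↥M ⧸ Cfsg.oddCore ↥M) = 1 := by
        have hc : (c : ↥M ⧸ Cfsg.oddCore ↥M) * t = t * c := mem_cent.1 hy
        rw [QuotientGroup.mk_mul, QuotientGroup.mk_mul, QuotientGroup.mk_mul, hc,
          QuotientGroup.mk_inv, mul_inv_cancel_right, ← pow_two]
        have := pow_orderOf_eq_one (t : ↥M ⧸ Cfsg.oddCore ↥M)
        rwa [hx] at this
      exact (mk_eq_one_iff _).1 e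
    obtain ⟨v, hv, hvt⟩ := exists_conj_of_mul_mem (odd_Wc M) ht' ((orderOf_conj _ _).trans ht') h1
    have hcomm : v⁻¹ * (c : G) * t = t * (v⁻¹ * (c : G)) := by
      calc v⁻¹ * (c : G) * t = v⁻¹ * ((c : G) * t * (c : G)⁻¹) * c := by group
        _ = t * (v⁻¹ * c) := by rw [← hvt]; group
    obtain ⟨P⟩ : Nonempty (Sylow 2 ↥(centralizer ({(t : G)} : Set G))) := inferInstance
    obtain ⟨u, hu, s, hs, e⟩ := h.hI.exists_mul ht' ⟨P, rfl⟩ hcomm
    have hsM : s ∈ M := h.cent_le t.2 ht' (map_subtype_le _ hs)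
    obtain ⟨k, hk⟩ := orderOf_two_pow_of_mem (P.2.map _) hs
    refine ⟨k, Subtype.ext ?_⟩
    show ((c : ↥M) : ↥M ⧸ Cfsg.oddCore ↥M) ^ 2 ^ k = 1
    have hcs : ((c : ↥M) : ↥M ⧸ Cfsg.oddCore ↥M) = ((⟨s, hsM⟩ : ↥M) : ↥M ⧸ Cfsg.oddCore ↥M) := by
      rw [← inv_mul_eq_one, ← QuotientGroup.mk_inv, ← QuotientGroup.mk_mul, mk_eq_one_iff]
      show (c : G)⁻¹ * s ∈ Wc M
      have e' : (c : G) = v * u * s := by rw [mul_assoc, ← e]; group
      rw [show (c : G)⁻¹ * s = s⁻¹ * (v * u)⁻¹ * s⁻¹⁻¹ by rw [e']; group]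
      exact conj_mem_Wc (inv_mem hsM) (inv_mem (mul_mem hv (h.theta_le _ t.2 ht' hu)))
    rw [hcs, ← QuotientGroup.mk_pow, show (⟨s, hsM⟩ : ↥M) ^ 2 ^ k = 1 from Subtype.ext (by
      show s ^ 2 ^ k = 1
      rw [← hk]; exact pow_orderOf_eq_one s), QuotientGroup.mk_one]
  obtain ⟨g, hg⟩ : ∃ g : G, g ∉ M := by
    by_contra hno
    push Not at hno
    exact h.se.1 (eq_top_iff.2 fun g _ => hno g)
  set D0 : Subgroup ↥M := (M ⊓ cj g M).subgroupOf M with hD0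
  have hD0odd : Odd (Nat.card D0) := by
    rw [Nat.card_congr (subgroupOfEquivOfLe inf_le_left).toEquiv]
    exact h.se.2.2 g hg
  obtain ⟨E, hEM, hE, hE8⟩ := h.elem
  refine ⟨hC, CITOdd.structure_theorem hC (Core.pPrimeCore_quotient_pPrimeCore 2 ↥M)
    (D := D0.map (QuotientGroup.mk' (Cfsg.oddCore ↥M))) (hD0odd.of_dvd_nat (card_map_dvd _ _))
    ?_ (E := (E.subgroupOf M).map (QuotientGroup.mk' (Cfsg.oddCore ↥M))) ?_ ?_⟩
  · intro a b ha hb
    obtain ⟨s, hs, rfl⟩ := TwoNilpCent.exists_involution_lift hodd ha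
    obtain ⟨t, ht, rfl⟩ := TwoNilpCent.exists_involution_lift hodd hb
    have hxy : ((1 : G) : G ⧸ M) ≠ (g : G ⧸ M) := fun e => hg (by simpa using QuotientGroup.eq.1 e)
    obtain ⟨d, hdx, hdy, hd⟩ := TwoGroups.SE.exists_conj_fixing h.se hxy
      (s := (s : G)) (t := (t : G)) (by rw [orderOf_coe, hs])
      ((TwoGroups.SE.smul_mk_eq_iff _ 1).2 (by simpa using s.2)) (by rw [orderOf_coe, ht])
      ((TwoGroups.SE.smul_mk_eq_iff _ 1).2 (by simpa using t.2))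
    have hdM : d ∈ M := by simpa using (TwoGroups.SE.smul_mk_eq_iff d 1).1 hdx
    refine ⟨_, ⟨⟨d, hdM⟩, ⟨hdM, mem_cj.2 ((TwoGroups.SE.smul_mk_eq_iff d g).1 hdy)⟩, rfl⟩, ?_⟩
    show ((⟨d, hdM⟩ * s * ⟨d, hdM⟩⁻¹ : ↥M) : ↥M ⧸ Cfsg.oddCore ↥M) = t
    congr 1
    exact Subtype.ext hd
  · rintro _ ⟨x, hx, rfl⟩
    rw [← map_mul, show x * x = 1 from Subtype.ext (hE _ hx), map_one]
  · have e : Nat.card ((E.subgroupOf M).map (QuotientGroup.mk' (Cfsg.oddCore ↥M))) =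
        Nat.card (E.subgroupOf M) := by
      refine (Nat.card_eq_of_bijective (fun x : E.subgroupOf M =>
        (⟨_, (x : ↥M), x.2, rfl⟩ : (E.subgroupOf M).map (QuotientGroup.mk' (Cfsg.oddCore ↥M))))
        ⟨fun x y e => ?_, fun ⟨_, x, hx, he⟩ => ⟨⟨x, hx⟩, Subtype.ext he⟩⟩).symm
      have e1 : (((x : ↥M)⁻¹ * y : ↥M) : ↥M ⧸ Cfsg.oddCore ↥M) = 1 := by
        have e2 : ((x : ↥M) : ↥M ⧸ Cfsg.oddCore ↥M) = ((y : ↥M) : ↥M ⧸ Cfsg.oddCore ↥M) :=
          congrArg Subtype.val e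
        rw [QuotientGroup.mk_mul, QuotientGroup.mk_inv, e2, inv_mul_cancel]
      have h1 := (mk_eq_one_iff _).1 e1
      refine Subtype.ext (inv_mul_eq_one.1 (Subtype.ext (?_ : ((x : ↥M)⁻¹ * y : G) = 1)))
      exact ZStar.eq_one_of_odd_of_sq (odd_orderOf_of_mem (odd_Wc M) h1)
        (by rw [pow_two]; exact hE _ (mul_mem (inv_mem x.2) y.2))
    rw [e, Nat.card_congr (subgroupOfEquivOfLe hEM).toEquiv]
    exact hE8

section Sylow

variable {T : Subgroup G} (hT : IsSyl T M)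
include hT

omit h in
theorem inf_W : T ⊓ Wc M = ⊥ := by
  refine eq_bot_iff.2 fun x hx => mem_bot.2 ?_
  exact eq_one_of_odd_of_pGroup hT.2.1 hx.1 (odd_orderOf_of_mem (odd_Wc M) hx.2)

omit h in
theorem eq_one_of_mem {x : G} (h1 : x ∈ T) (h2 : x ∈ Wc M) : x = 1 :=
  mem_bot.1 ((inf_W hT).le ⟨h1, h2⟩)

omit h in
theorem T_le_norm : T ≤ normalizer (Wc M : Set G) := hT.1.trans (Wc_normalized M)

/-- The preimage of `O₂(M / W)` is `T W`. -/
theorem mem_TW_of_mk {m : G} (hm : m ∈ M)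
    (hmQ : ((⟨m, hm⟩ : ↥M) : ↥M ⧸ Cfsg.oddCore ↥M) ∈ Cfsg.pCore 2 (↥M ⧸ Cfsg.oddCore ↥M)) :
    m ∈ T ⊔ Wc M := by
  haveI : Fact (Nat.Prime 2) := ⟨Nat.prime_two⟩
  obtain ⟨P, hP⟩ := hT.subgroupOf
  have h1 := Core.pCore_le_sylow (P.mapSurjective (QuotientGroup.mk'_surjective (Cfsg.oddCore ↥M))) hmQ
  obtain ⟨τ, hτ, hτm⟩ := h1
  have hτT : (τ : G) ∈ T := hP ▸ Subgroup.mem_map_of_mem M.subtype hτ
  have h2 : (τ : G)⁻¹ * m ∈ Wc M := by
    refine (mk_eq_one_iff (τ⁻¹ * ⟨m, hm⟩)).1 ?_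
    rw [QuotientGroup.mk_mul, QuotientGroup.mk_inv, inv_mul_eq_one]
    exact hτm
  rw [show m = (τ : G) * ((τ : G)⁻¹ * m) by group]
  exact mul_mem (mem_sup_left hτT) (mem_sup_right h2)

omit h in
theorem orderOf_mk_of_mem {t : G} (htM : t ∈ M) (ht : orderOf t = 2) :
    orderOf ((⟨t, htM⟩ : ↥M) : ↥M ⧸ Cfsg.oddCore ↥M) = 2 := by
  refine orderOf_eq_two_of (fun e => ?_) ?_
  · exact absurd (odd_orderOf_of_mem (odd_Wc M) ((mk_eq_one_iff _).1 e)) (by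
      show ¬ Odd (orderOf t)
      rw [ht]; decide)
  · rw [← QuotientGroup.mk_mul, show (⟨t, htM⟩ : ↥M) * ⟨t, htM⟩ = 1 from
      Subtype.ext (involution_sq ht), QuotientGroup.mk_one]

/-- Every involution of `M` lies in `T W`. -/
theorem involution_mem_TW {t : G} (htM : t ∈ M) (ht : orderOf t = 2) : t ∈ T ⊔ Wc M :=
  h.mem_TW_of_mk hT htM (h.quot_struct.2.1 _ (orderOf_mk_of_mem hT htM ht)).1

/-- Elements of 2-power order lie in `T W`. -/
theorem two_mem_TW {g : G} (hg : g ∈ M) {k : ℕ} (hk : orderOf g = 2 ^ k) : g ∈ T ⊔ Wc M := by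
  refine h.mem_TW_of_mk hT hg (h.quot_struct.2.2 _ ?_)
  obtain ⟨j, -, hj⟩ := (Nat.dvd_prime_pow Nat.prime_two).1
    (hk ▸ (orderOf_map_dvd (QuotientGroup.mk' (Cfsg.oddCore ↥M)) (⟨g, hg⟩ : ↥M)).trans
      (dvd_of_eq (Subgroup.orderOf_mk g hg)))
  exact ⟨j, hj⟩

theorem TW_normalized : M ≤ normalizer ((T ⊔ Wc M : Subgroup G) : Set G) := by
  intro m hm
  have hle : ∀ m ∈ M, ∀ x ∈ T ⊔ Wc M, m * x * m⁻¹ ∈ T ⊔ Wc M := by
    intro m hm x hx
    obtain ⟨τ, hτ, w, hw, rfl⟩ := (Core.mem_sup_iff_mul (T_le_norm hT)).1 hx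
    obtain ⟨k, hk⟩ := orderOf_two_pow_of_mem hT.2.1 hτ
    rw [show m * (τ * w) * m⁻¹ = m * τ * m⁻¹ * (m * w * m⁻¹) by group]
    exact mul_mem (h.two_mem_TW hT (mul_mem (mul_mem hm (hT.1 hτ)) (inv_mem hm))
      ((orderOf_conj m τ).trans hk)) (mem_sup_right (conj_mem_Wc hm hw))
  refine mem_normalizer_iff.2 fun x => ⟨hle m hm x, fun hx => ?_⟩
  have := hle m⁻¹ (inv_mem hm) _ hx
  rwa [show m⁻¹ * (m * x * m⁻¹) * m⁻¹⁻¹ = x by group] at this

omit h in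
theorem mem_TW_odd {g : G} (hg : g ∈ T ⊔ Wc M) (ho : Odd (orderOf g)) : g ∈ Wc M := by
  obtain ⟨τ, hτ, w, hw, rfl⟩ := (Core.mem_sup_iff_mul (T_le_norm hT)).1 hg
  obtain ⟨k, hk⟩ := orderOf_two_pow_of_mem hT.2.1 hτ
  have hgM : τ * w ∈ M := mul_mem (hT.1 hτ) (Wc_le M hw)
  have e : ((⟨τ * w, hgM⟩ : ↥M) : ↥M ⧸ Cfsg.oddCore ↥M) =
      ((⟨τ, hT.1 hτ⟩ : ↥M) : ↥M ⧸ Cfsg.oddCore ↥M) := by
    rw [show (⟨τ * w, hgM⟩ : ↥M) = ⟨τ, hT.1 hτ⟩ * ⟨w, Wc_le M hw⟩ from rfl, QuotientGroup.mk_mul,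
      (mk_eq_one_iff (⟨w, Wc_le M hw⟩ : ↥M)).2 hw, mul_one]
  have h1 := (orderOf_map_dvd (QuotientGroup.mk' (Cfsg.oddCore ↥M)) (⟨τ * w, hgM⟩ : ↥M)).trans
    (dvd_of_eq (Subgroup.orderOf_mk _ hgM))
  have h2 := (orderOf_map_dvd (QuotientGroup.mk' (Cfsg.oddCore ↥M)) (⟨τ, hT.1 hτ⟩ : ↥M)).trans
    (dvd_of_eq ((Subgroup.orderOf_mk _ (hT.1 hτ)).trans hk))
  have h3 : ((⟨τ * w, hgM⟩ : ↥M) : ↥M ⧸ Cfsg.oddCore ↥M) = 1 := by
    refine orderOf_eq_one_iff.1 (Nat.eq_one_of_dvd_coprimes (ho.coprime_two_left.pow_left k) ?_ h1)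
    rw [e]; exact h2
  exact (mk_eq_one_iff (⟨τ * w, hgM⟩ : ↥M)).1 h3

/-- Involutions of `T` are central in `T`. -/
theorem comm_T {t c : G} (ht : orderOf t = 2) (htT : t ∈ T) (hc : c ∈ T) : c * t = t * c := by
  obtain ⟨k, hk⟩ := orderOf_two_pow_of_mem hT.2.1 hc
  have h1 := (h.quot_struct.2.1 _ (orderOf_mk_of_mem hT (hT.1 htT) ht)).2
    ((⟨c, hT.1 hc⟩ : ↥M) : ↥M ⧸ Cfsg.oddCore ↥M) (h.quot_struct.2.2 _ (by
      obtain ⟨j, -, hj⟩ := (Nat.dvd_prime_pow Nat.prime_two).1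
        (hk ▸ (orderOf_map_dvd (QuotientGroup.mk' (Cfsg.oddCore ↥M)) (⟨c, hT.1 hc⟩ : ↥M)).trans
          (dvd_of_eq (Subgroup.orderOf_mk c (hT.1 hc))))
      exact ⟨j, hj⟩))
  rw [← QuotientGroup.mk_mul, ← QuotientGroup.mk_mul, ← inv_mul_eq_one, ← QuotientGroup.mk_inv,
    ← QuotientGroup.mk_mul, mk_eq_one_iff] at h1
  exact inv_mul_eq_one.1 (eq_one_of_mem hT (mul_mem (inv_mem (mul_mem hc htT)) (mul_mem htT hc)) h1)

theorem mem_invSub {x : G} : x ∈ invSub T ↔ x ∈ T ∧ x * x = 1 := by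
  refine ⟨fun hx => ?_, fun hx => subset_closure hx⟩
  induction hx using closure_induction with
  | mem y hy => exact hy
  | one => exact ⟨one_mem T, one_mul 1⟩
  | mul a b _ _ iha ihb =>
    refine ⟨mul_mem iha.1 ihb.1, ?_⟩
    by_cases ha1 : a = 1
    · subst ha1; simpa using ihb.2
    have hab : b * a = a * b := h.comm_T hT (orderOf_eq_two_of ha1 iha.2) iha.1 ihb.1
    calc a * b * (a * b) = a * (b * a) * b := by group
      _ = 1 := by rw [hab, ← mul_assoc, iha.2, one_mul, ihb.2]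
  | inv a _ iha => exact ⟨inv_mem iha.1, by rw [← mul_inv_rev, iha.2, inv_one]⟩

theorem invSub_le : invSub T ≤ T := fun _ hx => ((h.mem_invSub hT).1 hx).1

theorem invSub_elem : Elem (invSub T) := fun _ hx => ((h.mem_invSub hT).1 hx).2

theorem mem_invSub_of {t : G} (htT : t ∈ T) (ht : orderOf t = 2) : t ∈ invSub T :=
  (h.mem_invSub hT).2 ⟨htT, involution_sq ht⟩

theorem eight_le_invSub : 8 ≤ Nat.card (invSub T) := by
  obtain ⟨E, hEM, hE, h8⟩ := h.elem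
  obtain ⟨T', hT', hET'⟩ := exists_isSyl hEM hE.isPGroup
  obtain ⟨m, -, hme⟩ := hT'.exists_conj hT
  refine h8.trans ((card_cj m E).ge.trans (card_le_of_le fun x hx => (h.mem_invSub hT).2
    ⟨hme ▸ cj_mono hET' hx, hE.cj m x hx⟩))

/-- Every involution of `M` is conjugate under `W` to an element of `A`. -/
theorem exists_conj_invSub {t : G} (htM : t ∈ M) (ht : orderOf t = 2) :
    ∃ v ∈ Wc M, v * t * v⁻¹ ∈ invSub T ∧ v * t * v⁻¹ ≠ 1 := by
  obtain ⟨τ, hτ, w, hw, e⟩ :=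
    (Core.mem_sup_iff_mul (T_le_norm hT)).1 (h.involution_mem_TW hT htM ht)
  have hτ2 : τ * τ = 1 := by
    refine eq_one_of_mem hT (mul_mem hτ hτ) ?_
    have hτM := hT.1 hτ
    have h2 : τ * w * (τ * w) = 1 := by rw [← e]; exact involution_sq ht
    have h3 : τ * τ = w⁻¹ * (τ⁻¹ * w * τ)⁻¹ := by
      calc τ * τ = (τ * w * (τ * w)) * (w⁻¹ * (τ⁻¹ * w * τ)⁻¹) := by group
        _ = _ := by rw [h2, one_mul]
    rw [h3]
    refine mul_mem (inv_mem hw) (inv_mem ?_)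
    have := conj_mem_Wc (inv_mem hτM) hw
    rwa [inv_inv] at this
  have hτ1 : τ ≠ 1 := by
    rintro rfl
    rw [one_mul] at e
    have := odd_orderOf_of_mem (odd_Wc M) hw
    rw [← e, ht] at this
    exact absurd this (by decide)
  have hτo := orderOf_eq_two_of hτ1 hτ2
  obtain ⟨v, hv, hvt⟩ := exists_conj_of_mul_mem (odd_Wc M) hτo ht (by
    rw [e, ← mul_assoc, hτ2, one_mul]; exact hw)
  refine ⟨v⁻¹, inv_mem hv, ?_⟩
  rw [show v⁻¹ * t * v⁻¹⁻¹ = τ by rw [← hvt]; group]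
  exact ⟨h.mem_invSub_of hT hτ hτo, hτ1⟩

/-- Distinct elements of `A` lie in distinct cosets of `W`. -/
theorem invSub_eq_of_mul_mem {a b : G} (ha : a ∈ invSub T) (hb : b ∈ invSub T) (hab : a * b ∈ Wc M) :
    a = b := by
  have h1 := eq_one_of_mem hT (h.invSub_le hT (mul_mem ha hb)) hab
  rw [mul_eq_one_iff_eq_inv] at h1
  rw [h1, inv_eq_of_mul_eq_one_right (h.invSub_elem hT _ hb)]

/-- An element moving an involution inside its coset of `W` lies in `T W`. -/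
theorem mem_TW_of_conj {m t : G} (hm : m ∈ M) (htM : t ∈ M) (ht : orderOf t = 2)
    (hmt : t * (m * t * m⁻¹) ∈ Wc M) : m ∈ T ⊔ Wc M := by
  have htq := orderOf_mk_of_mem hT htM ht
  have hc : ((⟨m, hm⟩ : ↥M) : ↥M ⧸ Cfsg.oddCore ↥M) ∈
      centralizer ({((⟨t, htM⟩ : ↥M) : ↥M ⧸ Cfsg.oddCore ↥M)} : Set _) := by
    rw [mem_cent]
    have e := (mk_eq_one_iff (⟨t, htM⟩ * (⟨m, hm⟩ * ⟨t, htM⟩ * ⟨m, hm⟩⁻¹) : ↥M)).2 hmt
    simp only [QuotientGroup.mk_mul, QuotientGroup.mk_inv] at e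
    rw [mul_eq_one_iff_eq_inv', involution_inv htq, mul_inv_eq_iff_eq_mul] at e
    exact e
  obtain ⟨k, hk⟩ := orderOf_two_pow_of_mem (h.quot_struct.1 _ htq) hc
  exact h.mem_TW_of_mk hT hm (h.quot_struct.2.2 _ ⟨k, hk⟩)

end Sylow

/-- An abelian subgroup of odd order of `M / W` is cyclic. -/
theorem exists_gen_mod_W {X : Subgroup G} (hX : X ≤ M) (hodd : Odd (Nat.card X))
    (hab : ∀ x ∈ X, ∀ y ∈ X, x * y * x⁻¹ * y⁻¹ ∈ Wc M) :
    ∃ g ∈ X, ∀ x ∈ X, ∃ i : ℤ, (g ^ i)⁻¹ * x ∈ Wc M := by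
  classical
  haveI : Fact (Nat.Prime 2) := ⟨Nat.prime_two⟩
  obtain ⟨hC, hinv, -⟩ := h.quot_struct
  set π := QuotientGroup.mk' (Cfsg.oddCore ↥M) with hπ
  set Y := (X.subgroupOf M).map π with hY
  have hYodd : Odd (Nat.card Y) := hodd.of_dvd_nat (by
    refine (card_map_dvd _ _).trans (dvd_of_eq ?_)
    exact Nat.card_congr (subgroupOfEquivOfLe hX).toEquiv)
  haveI hYc : IsMulCommutative Y := by
    refine ⟨⟨?_⟩⟩
    rintro ⟨_, x, hx, rfl⟩ ⟨_, y, hy, rfl⟩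
    refine Subtype.ext ?_
    show π x * π y = π y * π x
    have e := (mk_eq_one_iff (x * y * x⁻¹ * y⁻¹)).2 (hab _ hx _ hy)
    rw [← mul_inv_eq_one, mul_inv_rev]
    calc π x * π y * ((π x)⁻¹ * (π y)⁻¹) = π (x * y * x⁻¹ * y⁻¹) := by
          simp only [map_mul, map_inv, mul_assoc]
      _ = 1 := e
  by_cases hcy : IsCyclic Y
  · obtain ⟨⟨_, g, hg, rfl⟩, hgen⟩ := IsCyclic.exists_generator (α := Y)
    refine ⟨(g : G), hg, fun x hx => ?_⟩
    obtain ⟨i, hi⟩ := mem_zpowers_iff.1 (hgen ⟨π ⟨x, hX hx⟩, ⟨x, hX hx⟩, hx, rfl⟩)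
    refine ⟨i, (mk_eq_one_iff ((g ^ i)⁻¹ * ⟨x, hX hx⟩)).1 ?_⟩
    rw [QuotientGroup.mk_mul, QuotientGroup.mk_inv, inv_mul_eq_one, QuotientGroup.mk_zpow]
    exact congrArg Subtype.val hi
  · exfalso
    set K := Cfsg.pCore 2 (↥M ⧸ Cfsg.oddCore ↥M) with hK
    have hKp : IsPGroup 2 K := Core.isPGroup_pCore 2 _
    have hcop : (Nat.card Y).Coprime (Nat.card K) := by
      obtain ⟨n, hn⟩ := hKp.exists_card_eq
      rw [hn]
      exact (Nat.coprime_two_right.2 hYodd).pow_right n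
    have h1 := Cfsg.Agent.S0058.result Y K hcy (le_normalizer_of_normal) hcop
    have hKb : K = ⊥ := by
      rw [← h1]
      refine le_bot_iff.1 (iSup₂_le fun y hy => ?_)
      intro k hk
      exact mem_bot.2 (hC.eq_one_of_mem (odd_orderOf_of_mem hYodd hy.1) hy.2 hKp hk.1
        (mem_cent.1 hk.2).symm)
    obtain ⟨t, htM, ht⟩ := Signalizer.exists_involution_of_even h.se.2.1
    obtain ⟨T, hT, -⟩ := exists_isSyl (bot_le : (⊥ : Subgroup G) ≤ M) IsPGroup.of_bot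
    have ht' := orderOf_mk_of_mem hT htM ht
    have h2 := (hinv _ ht').1
    rw [hKb, mem_bot] at h2
    exact involution_ne_one ht' h2

/-- An element of odd order of `M` conjugate in `M` to its inverse lies in `W`. -/
theorem mem_W_of_real {x k : G} (hx : x ∈ M) (hk : k ∈ M) (ho : Odd (orderOf x))
    (hinv : k * x * k⁻¹ = x⁻¹) : x ∈ Wc M := by
  haveI : Fact (Nat.Prime 2) := ⟨Nat.prime_two⟩
  obtain ⟨T, hT, -⟩ := exists_isSyl (bot_le : (⊥ : Subgroup G) ≤ M) IsPGroup.of_bot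
  obtain ⟨e, m, hm, he⟩ := Nat.exists_eq_two_pow_mul_odd (orderOf_pos k).ne'
  -- the 2-part `k ^ m` still inverts `x`
  have hkm : k ^ m * x * (k ^ m)⁻¹ = x⁻¹ := by
    obtain ⟨n, hn⟩ := hm
    have h2 : ∀ j : ℕ, k ^ (2 * j) * x * (k ^ (2 * j))⁻¹ = x := by
      intro j
      induction j with
      | zero => simp
      | succ j ih =>
        calc k ^ (2 * (j + 1)) * x * (k ^ (2 * (j + 1)))⁻¹
            = k * (k * (k ^ (2 * j) * x * (k ^ (2 * j))⁻¹) * k⁻¹) * k⁻¹ := by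
              rw [show 2 * (j + 1) = 2 * j + 1 + 1 by ring, pow_succ', pow_succ']; group
          _ = k * x⁻¹ * k⁻¹ := by rw [ih, hinv]
          _ = x := by rw [← conj_inv, hinv, inv_inv]
    rw [hn, pow_succ']
    calc k * k ^ (2 * n) * x * (k * k ^ (2 * n))⁻¹
        = k * (k ^ (2 * n) * x * (k ^ (2 * n))⁻¹) * k⁻¹ := by group
      _ = x⁻¹ := by rw [h2, hinv]
  have hko : orderOf (k ^ m) = 2 ^ e := by
    rw [orderOf_pow_of_dvd (Odd.pos hm).ne' (he ▸ dvd_mul_left _ _), he,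
      Nat.mul_div_cancel _ (Odd.pos hm)]
  have hkT := h.two_mem_TW hT (pow_mem hk m) hko
  -- `x ^ 2` lies in `T W`
  have hx2 : x * x ∈ T ⊔ Wc M := by
    have h1 := (mem_normalizer_iff.1 (h.TW_normalized hT hx) _).1 hkT
    have h4 : x * x = x * (k ^ m) * x⁻¹ * (k ^ m)⁻¹ := by
      calc x * x = x * (x⁻¹)⁻¹ := by group
        _ = x * ((k ^ m) * x * (k ^ m)⁻¹)⁻¹ := by rw [hkm]
        _ = _ := by group
    rw [h4]
    exact mul_mem h1 (inv_mem hkT)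
  obtain ⟨n, hn⟩ := ho
  have hxp : x = (x * x) ^ (n + 1) := by
    rw [← pow_two, ← pow_mul, show 2 * (n + 1) = 2 * n + 1 + 1 by ring, pow_succ, ← hn,
      pow_orderOf_eq_one, one_mul]
  refine mem_TW_odd hT ?_ ⟨n, hn⟩
  rw [hxp]
  exact pow_mem hx2 _

/-- Elements of `T W` are 2-elements modulo `W`. -/
theorem exists_pow_mem_W {T : Subgroup G} (hT : IsSyl T M) {g : G} (hg : g ∈ T ⊔ Wc M) :
    ∃ (hgM : g ∈ M) (k : ℕ), orderOf ((⟨g, hgM⟩ : ↥M) : ↥M ⧸ Cfsg.oddCore ↥M) = 2 ^ k := by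
  obtain ⟨τ, hτ, w, hw, rfl⟩ := (Core.mem_sup_iff_mul (T_le_norm hT)).1 hg
  obtain ⟨k, hk⟩ := orderOf_two_pow_of_mem hT.2.1 hτ
  have hgM : τ * w ∈ M := mul_mem (hT.1 hτ) (Wc_le M hw)
  obtain ⟨j, -, hj⟩ := (Nat.dvd_prime_pow Nat.prime_two).1
    (hk ▸ (orderOf_map_dvd (QuotientGroup.mk' (Cfsg.oddCore ↥M)) (⟨τ, hT.1 hτ⟩ : ↥M)).trans
      (dvd_of_eq (Subgroup.orderOf_mk τ (hT.1 hτ))))
  refine ⟨hgM, j, ?_⟩
  rw [show (⟨τ * w, hgM⟩ : ↥M) = ⟨τ, hT.1 hτ⟩ * ⟨w, Wc_le M hw⟩ from rfl, QuotientGroup.mk_mul,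
    (mk_eq_one_iff (⟨w, Wc_le M hw⟩ : ↥M)).2 hw, mul_one]
  exact hj

/-- Elements of `T W` fix every involution of `M` modulo `W`. -/
theorem mul_conj_mem_W {T : Subgroup G} (hT : IsSyl T M) {n t : G} (hn : n ∈ T ⊔ Wc M) (htM : t ∈ M)
    (ht : orderOf t = 2) : t * (n * t * n⁻¹) ∈ Wc M := by
  obtain ⟨hnM, k, hk⟩ := h.exists_pow_mem_W hT hn
  obtain ⟨-, hinv, h2⟩ := h.quot_struct
  have htq := orderOf_mk_of_mem hT htM ht
  have hc := (hinv _ htq).2 _ (h2 _ ⟨k, hk⟩)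
  refine (mk_eq_one_iff (⟨t, htM⟩ * (⟨n, hnM⟩ * ⟨t, htM⟩ * ⟨n, hnM⟩⁻¹) : ↥M)).1 ?_
  simp only [QuotientGroup.mk_mul, QuotientGroup.mk_inv]
  rw [hc, mul_inv_cancel_right]
  exact involution_sq htq

/-- The involutions of a subgroup `H ≤ M`, up to conjugation under `H ∩ W`. -/
theorem exists_reps {T : Subgroup G} (hT : IsSyl T M) {H : Subgroup G} (hH : H ≤ M) :
    ∃ A' : Subgroup G, A' ≤ H ∧ Elem A' ∧
      (∀ t ∈ H, orderOf t = 2 → ∃ v ∈ H ⊓ Wc M, v * t * v⁻¹ ∈ A') ∧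
      ∃ w ∈ Wc M, cj w A' ≤ invSub T := by
  classical
  haveI : Fact (Nat.Prime 2) := ⟨Nat.prime_two⟩
  obtain ⟨TH, hTH, -⟩ := exists_isSyl (bot_le : (⊥ : Subgroup G) ≤ H) IsPGroup.of_bot
  have hTW : ∀ x ∈ TH, x ∈ T ⊔ Wc M := fun x hx => by
    obtain ⟨k, hk⟩ := orderOf_two_pow_of_mem hTH.2.1 hx
    exact h.two_mem_TW hT (hH (hTH.1 hx)) hk
  have hTsyl : IsSyl T (T ⊔ Wc M) :=
    ⟨le_sup_left, hT.2.1, fun Q h1 h2 h3 => hT.2.2 Q h1 (h2.trans (sup_le hT.1 (Wc_le M))) h3⟩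
  obtain ⟨T', hT', hle'⟩ := exists_isSyl hTW hTH.2.1
  obtain ⟨c, hc, hce⟩ := hT'.exists_conj hTsyl
  obtain ⟨τ, hτ, w, hw, rfl⟩ := (Core.mem_sup_iff_mul (T_le_norm hT)).1 hc
  have hwT : cj w TH ≤ T := by
    have h1 : cj (τ * w) TH ≤ T := hce ▸ cj_mono hle'
    rw [cj_mul, cj_le_iff] at h1
    rwa [mem_normalizer_iff_cj.1 (le_normalizer (inv_mem hτ))] at h1
  refine ⟨cj w⁻¹ (invSub T ⊓ cj w TH), ?_, ((h.invSub_elem hT).of_le inf_le_left).cj _,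
    fun t ht h2 => ?_, w, hw, ?_⟩
  · exact (cj_mono inf_le_right).trans ((cj_inv_cj w TH).le.trans hTH.1)
  · set K := H ⊓ (T ⊔ Wc M) with hK
    have hTK : IsSyl TH K :=
      ⟨le_inf hTH.1 hTW, hTH.2.1, fun Q h1 h2 h3 => hTH.2.2 Q h1 (h2.trans inf_le_left) h3⟩
    have htK : t ∈ K := ⟨ht, h.involution_mem_TW hT (hH ht) h2⟩
    obtain ⟨T'', hT'', htT''⟩ := exists_isSyl (zpowers_le.2 htK)
      (IsPGroup.of_card (p := 2) (n := 1) (by rw [Nat.card_zpowers, h2, pow_one]))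
    obtain ⟨d, hd, hde⟩ := hT''.exists_conj hTK
    -- `d` is a product of elements of `TH` and `H ∩ W`
    haveI : ((Wc M).subgroupOf K).Normal :=
      normal_subgroupOf_of_le_normalizer ((inf_le_left.trans hH).trans (Wc_normalized M))
    obtain ⟨P, hP⟩ := hTK.subgroupOf
    have hq : IsPGroup 2 (↥K ⧸ (Wc M).subgroupOf K) := by
      intro y
      obtain ⟨g, rfl⟩ := QuotientGroup.mk_surjective y
      obtain ⟨hgM, k, hk⟩ := h.exists_pow_mem_W hT g.2.2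
      refine ⟨k, ?_⟩
      rw [← QuotientGroup.mk_pow, QuotientGroup.eq_one_iff, mem_subgroupOf]
      refine (mk_eq_one_iff ((⟨g, hgM⟩ : ↥M) ^ 2 ^ k)).1 ?_
      rw [QuotientGroup.mk_pow, ← hk]
      exact pow_orderOf_eq_one _
    have htop : (⊤ : Subgroup (↥K ⧸ (Wc M).subgroupOf K)) ≤
        (P.mapSurjective (QuotientGroup.mk'_surjective ((Wc M).subgroupOf K)) : Subgroup _) :=
      ((P.mapSurjective (QuotientGroup.mk'_surjective _)).3
        (hq.to_subgroup ⊤) le_top).le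
    obtain ⟨s, hs, hse⟩ := htop (mem_top ((⟨d, hd⟩ : ↥K) : ↥K ⧸ (Wc M).subgroupOf K))
    have hsT : (s : G) ∈ TH := hP ▸ Subgroup.mem_map_of_mem K.subtype hs
    have hv : (s : G)⁻¹ * d ∈ Wc M := by
      have := QuotientGroup.eq.1 hse
      rwa [mem_subgroupOf] at this
    refine ⟨(s : G)⁻¹ * d, mem_inf.2 ⟨H.mul_mem (H.inv_mem (hTH.1 hsT)) (mem_inf.1 hd).1, hv⟩, ?_⟩
    have h3 : (s : G)⁻¹ * d * t * ((s : G)⁻¹ * d)⁻¹ ∈ TH := by
      rw [show (s : G)⁻¹ * d * t * ((s : G)⁻¹ * d)⁻¹ = (s : G)⁻¹ * (d * t * d⁻¹) * s by group]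
      exact mul_mem (mul_mem (inv_mem hsT) (hde ▸ conj_mem_cj.2 (htT'' (mem_zpowers t)))) hsT
    rw [mem_cj, inv_inv]
    refine ⟨(h.mem_invSub hT).2 ⟨hwT (conj_mem_cj.2 h3), ?_⟩, conj_mem_cj.2 h3⟩
    exact involution_sq ((orderOf_conj w _).trans ((orderOf_conj _ t).trans h2))
  · rw [cj_cj_inv]
    exact inf_le_left

/-- The classes modulo `W` of the involutions of `H ≤ M`, all conjugate in `H`, form the orbit of a
section of `M / T W`. -/
theorem card_reps {T : Subgroup G} (hT : IsSyl T M) {H A' : Subgroup G} (hH : H ≤ M) (hA' : A' ≤ H)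
    (hE : Elem A') (hrep : ∀ t ∈ H, orderOf t = 2 → ∃ v ∈ H ⊓ Wc M, v * t * v⁻¹ ∈ A')
    (hne : A' ≠ ⊥)
    (htr : ∀ s ∈ H, orderOf s = 2 → ∀ t ∈ H, orderOf t = 2 → ∃ c ∈ H, c * s * c⁻¹ = t) :
    (T ⊔ Wc M).relIndex H = Nat.card A' - 1 := by
  classical
  obtain ⟨a0, ha0, ha01⟩ := (bot_or_exists_ne_one A').resolve_left hne
  have ha0o := hE.orderOf_eq ha0 ha01
  have hinvol : ∀ c ∈ H, orderOf (c * a0 * c⁻¹) = 2 := fun c _ => (orderOf_conj c a0).trans ha0o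
  have hex : ∀ c : ↥H, ∃ a : {a : ↥A' // (a : G) ≠ 1},
      (c : G) * a0 * (c : G)⁻¹ * (a.1 : G) ∈ Wc M := by
    intro c
    have hcH : (c : G) * a0 * (c : G)⁻¹ ∈ H := mul_mem (mul_mem c.2 (hA' ha0)) (inv_mem c.2)
    obtain ⟨v, hv, hva⟩ := hrep _ hcH (hinvol _ c.2)
    refine ⟨⟨⟨_, hva⟩, fun e => involution_ne_one (hinvol _ c.2) (conj_eq_one_iff.1 e)⟩, ?_⟩
    set t := (c : G) * a0 * (c : G)⁻¹ with htdef
    show t * (v * t * v⁻¹) ∈ Wc M
    rw [show t * (v * t * v⁻¹) = t * v * t⁻¹ * (t * t) * v⁻¹ by group,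
      involution_sq (hinvol _ c.2), mul_one]
    exact mul_mem (conj_mem_Wc (hH hcH) hv.2) (inv_mem hv.2)
  choose f hf using hex
  have huniq : ∀ a b : {a : ↥A' // (a : G) ≠ 1}, (a.1 : G) * (b.1 : G) ∈ Wc M → a = b := by
    intro a b hab
    have h1 : (a.1 : G) * (b.1 : G) = 1 := ZStar.eq_one_of_odd_of_sq
      (odd_orderOf_of_mem (odd_Wc M) hab) (by rw [pow_two]; exact hE _ (mul_mem a.1.2 b.1.2))
    refine Subtype.ext (Subtype.ext ?_)
    rw [mul_eq_one_iff_eq_inv] at h1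
    rw [h1, inv_eq_of_mul_eq_one_right (hE _ b.1.2)]
  have hWc : ∀ c : ↥H, ∀ a : {a : ↥A' // (a : G) ≠ 1},
      (c : G) * a0 * (c : G)⁻¹ * (a.1 : G) ∈ Wc M → f c = a := by
    intro c a hca
    refine huniq _ _ ?_
    have := mul_mem (inv_mem (hf c)) hca
    rwa [mul_inv_rev, inv_eq_of_mul_eq_one_right (hE _ (f c).1.2), mul_assoc,
      inv_mul_cancel_left] at this
  set N := (T ⊔ Wc M).subgroupOf H with hN
  have hbij : Function.Bijective fun q : ↥H ⧸ N => f q.out := by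
    constructor
    · intro p q e
      have e' : f p.out = f q.out := e
      rw [← p.out_eq, ← q.out_eq]
      refine QuotientGroup.eq.2 ?_
      rw [mem_subgroupOf]
      set c : G := ((p.out : ↥H) : G)
      set d : G := ((q.out : ↥H) : G)
      have h1 : c * a0 * c⁻¹ * (d * a0 * d⁻¹) ∈ Wc M := by
        have h2 := hf q.out
        rw [← e'] at h2
        have h4 := mul_mem (hf p.out) (inv_mem h2)
        rw [show ∀ x y a : G, x * a * (y * a)⁻¹ = x * y⁻¹ by intros; group] at h4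
        rwa [show (d * a0 * d⁻¹)⁻¹ = d * a0 * d⁻¹ from
          involution_inv (hinvol _ q.out.2)] at h4
      refine h.mem_TW_of_conj hT (hH (mul_mem (inv_mem p.out.2) q.out.2)) (hH (hA' ha0)) ha0o ?_
      have := conj_mem_Wc (inv_mem (hH p.out.2)) h1
      convert this using 1
      show a0 * (c⁻¹ * d * a0 * (c⁻¹ * d)⁻¹) = c⁻¹ * (c * a0 * c⁻¹ * (d * a0 * d⁻¹)) * c⁻¹⁻¹
      group
    · intro a
      obtain ⟨c, hc, hca⟩ := htr a0 (hA' ha0) ha0o _ (hA' a.1.2) (hE.orderOf_eq a.1.2 a.2)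
      refine ⟨((⟨c, hc⟩ : ↥H) : ↥H ⧸ N), hWc _ _ ?_⟩
      obtain ⟨n, hn⟩ := QuotientGroup.mk_out_eq_mul N (⟨c, hc⟩ : ↥H)
      rw [hn, ← hca]
      show c * (n : ↥H) * a0 * (c * (n : ↥H))⁻¹ * (c * a0 * c⁻¹) ∈ Wc M
      have h1 := conj_mem_Wc (hH hc) (inv_mem (h.mul_conj_mem_W hT
        (t := a0) (mem_subgroupOf.1 n.2) (hH (hA' ha0)) ha0o))
      convert h1 using 1
      rw [mul_inv_rev a0, involution_inv ha0o, show (((n : ↥H) : G) * a0 * ((n : ↥H) : G)⁻¹)⁻¹ =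
        ((n : ↥H) : G) * a0 * ((n : ↥H) : G)⁻¹ from involution_inv ((orderOf_conj _ a0).trans ha0o)]
      group
  rw [relIndex, index_eq_card, Nat.card_eq_of_bijective _ hbij]
  haveI : Fintype ↥A' := Fintype.ofFinite _
  rw [Nat.card_eq_fintype_card, Nat.card_eq_fintype_card, Fintype.card_subtype_compl]
  congr 1
  exact Fintype.card_eq_one_iff.2 ⟨⟨1, rfl⟩, fun y => Subtype.ext (Subtype.ext y.2)⟩

omit h in
theorem relIndex_dvd_of_TW {X H : Subgroup G} (hH : H ≤ M) (hX : M ≤ normalizer (X : Set G)) :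
    X.relIndex H ∣ X.relIndex M := by
  haveI : (X.subgroupOf M).Normal := normal_subgroupOf_of_le_normalizer hX
  rw [← relIndex_subgroupOf hH]
  exact relIndex_dvd_index_of_normal _ _

/-- The involutions of `M` are all conjugate in `M`. -/
theorem conj_M {s t : G} (hsM : s ∈ M) (hs : orderOf s = 2) (htM : t ∈ M) (ht : orderOf t = 2) :
    ∃ c ∈ M, c * s * c⁻¹ = t := by
  obtain ⟨g, hg⟩ : ∃ g : G, g ∉ M := by
    by_contra hno
    push Not at hno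
    exact h.se.1 (eq_top_iff.2 fun g _ => hno g)
  have hxy : ((1 : G) : G ⧸ M) ≠ (g : G ⧸ M) := fun e => hg (by simpa using QuotientGroup.eq.1 e)
  obtain ⟨d, hdx, -, hd⟩ := TwoGroups.SE.exists_conj_fixing h.se hxy hs
    ((TwoGroups.SE.smul_mk_eq_iff _ 1).2 (by simpa using hsM)) ht
    ((TwoGroups.SE.smul_mk_eq_iff _ 1).2 (by simpa using htM))
  exact ⟨d, by simpa using (TwoGroups.SE.smul_mk_eq_iff d 1).1 hdx, hd⟩

/-- `|M : T W| = q - 1`. -/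
theorem relIndex_TW {T : Subgroup G} (hT : IsSyl T M) :
    (T ⊔ Wc M).relIndex M = Nat.card (invSub T) - 1 := by
  refine h.card_reps hT le_rfl ((h.invSub_le hT).trans hT.1) (h.invSub_elem hT) (fun t ht h2 => ?_)
    (fun e => ?_) fun s hs hs2 t ht ht2 => h.conj_M hs hs2 ht ht2
  · obtain ⟨v, hv, hva, -⟩ := h.exists_conj_invSub hT ht h2
    exact ⟨v, ⟨Wc_le M hv, hv⟩, hva⟩
  · have := h.eight_le_invSub hT
    rw [e, card_bot] at this
    omega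

end Ctx

end CfsgLib.InvCent
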