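import Cfsg.Agent.Lib.InvCentTwoNilp.RankTwo
import Cfsg.Agent.Lib.InvCentTwoNilp.Setup
import Cfsg.Agent.Lib.InvCentTwoNilp.CITEmb
import Cfsg.Agent.Lib.CIT.SuzukiRecog.General
import Cfsg.Agent.Lib.OddLocal.Final.OddOrder
import Cfsg.Agent.S0483
import Cfsg.Agent.Lib.Partition.Main

/-!
# S3214 modulo the statement `PStmt` on strongly embedded subgroups

Rank at most two is `rank_two_cases` (Gorenstein-Walter).  In rank at least three the signalizer gives either a CIT
group, classified in `Lib/CIT`, or a strongly embedded subgroup with non-trivial odd core, against `PStmt`.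
-/

set_option autoImplicit false

namespace CfsgLib.InvCent

open Subgroup

universe u

open CIT in
/-- The simple CIT groups without TI Sylow 2-subgroups. -/
theorem simple_cit_nonTI {G : Type*} [Group G] [Finite G] [IsSimpleGroup G] (hna : ¬ IsMulCommutative G)
    (hC : CIT G) (hTI : ¬ TISylow G) : IsPSLTwoCIT G ∨ IsPSLThreeFour G := by
  have hL := localTI hC
  obtain ⟨T, W, A, q, h⟩ := exists_pair hC (simple_noCore hna) hL hTI
  have hq4 := h.q_le_four hC hL
  have hq1 := h.left.one_lt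
  obtain ⟨j, hj⟩ := (h.left.syl.2.1.to_le (inf_le_left.trans h.le_T.2 : A ⊓ W ≤ T)).exists_card_eq
  rw [h.card_inter] at hj
  obtain rfl | rfl : q = 2 ∨ q = 4 := by
    have : q ≠ 3 := fun e => by
      rcases Nat.eq_zero_or_pos j with rfl | hpos
      · norm_num at hj; omega
      · have : 2 ∣ q := hj ▸ dvd_pow_self 2 hpos.ne'
        omega
    omega
  · exact Or.inl (simple_pair_two hna hC h)
  · exact Or.inr (Four.isPSLThreeFour ⟨hC, hL, h, h.sylow_of_simple hna hC hL⟩)

theorem main_of_pstmt {G : Type u} [Group G] [Finite G] [IsSimpleGroup G]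
    (hP : PStmt G) (hna : ¬ IsMulCommutative G) (hI : TwoNilpCent G) :
    (∃ (F : Type) (_ : Field F) (_ : Fintype F), 3 < Fintype.card F ∧
        Nonempty (G ≃* Matrix.ProjectiveSpecialLinearGroup (Fin 2) F)) ∨
      Cfsg.Lie.IsoSuzuki G ∨ Nonempty (G ≃* ↥(alternatingGroup (Fin 7))) ∨
      (∃ (F : Type) (_ : Field F) (_ : Fintype F), Fintype.card F = 4 ∧
        Nonempty (G ≃* Matrix.ProjectiveSpecialLinearGroup (Fin 3) F)) := by
  classical
  have : Fact (Nat.Prime 2) := ⟨Nat.prime_two⟩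
  by_cases h2 : Cfsg.PRankLE 2 2 G
  · rcases rank_two_cases (fun X _ _ _ S n hn he => Cfsg.Agent.S0483.result S n hn he) hna hI h2 with h | h
    exacts [Or.inl h, Or.inr (Or.inr (Or.inl h))]
  have heven : 2 ∣ Nat.card G := by
    rw [← even_iff_two_dvd, ← Nat.not_odd_iff_even]
    intro ho
    have := CfsgLib.OddLocal.FTFinal.odd_order_solvable ho
    rcases (inferInstance : (commutator G).Normal).eq_bot_or_eq_top with h | h
    · exact hna ⟨⟨fun a b => mem_center_iff.1 (((commutator_eq_bot_iff_center_eq_top G).1 h) ▸ mem_top b) a⟩⟩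
    · exact (Group.IsSolvable.commutator_lt_top_of_nontrivial G).ne h
  have hO : Cfsg.oddCore G = ⊥ := by
    rcases (inferInstance : (Cfsg.oddCore G).Normal).eq_bot_or_eq_top with h | h
    · exact h
    · have := ZStar.odd_card_oddCore G
      rw [h, card_top] at this
      exact absurd heven this.not_two_dvd_nat
  unfold Cfsg.PRankLE at h2
  push Not at h2
  obtain ⟨E0, hc, hE2, hE4⟩ := h2
  have hE0 : Elem E0 := fun x hx => by rw [← pow_two]; exact hE2 x hx
  have h8 : 8 ≤ Nat.card E0 := by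
    obtain ⟨k, hk⟩ := hE0.isPGroup.exists_card_eq
    rw [hk] at hE4 ⊢
    calc 8 = 2 ^ 3 := rfl
      _ ≤ 2 ^ k := Nat.pow_le_pow_right two_pos (by
        by_contra hlt
        have := Nat.pow_le_pow_right two_pos (show k ≤ 2 by omega)
        omega)
  rcases exists_strongly_embedded hna hI hE0 h8 with hθ | ⟨M, hM, hMO, hθ, A, hA⟩
  swap
  · exact absurd (hP hO hI M hM ⟨A, hA⟩ hθ) hMO
  have hC := hI.cit hθ
  have hns : ¬ Group.IsSolvable G := fun h => by
    rcases (inferInstance : (commutator G).Normal).eq_bot_or_eq_top with h' | h'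
    · exact hna ⟨⟨fun a b => mem_center_iff.1 (((commutator_eq_bot_iff_center_eq_top G).1 h') ▸ mem_top b) a⟩⟩
    · exact (Group.IsSolvable.commutator_lt_top_of_nontrivial G).ne h'
  by_cases hTI : CIT.TISylow G
  · obtain ⟨T, hZ⟩ := CIT.simple_ti_zassenhaus hna hC heven hTI
    rcases CIT.SuzukiRecog.zassenhaus_iso hZ with ⟨F, iF, iFt, ⟨e⟩⟩ | hS
    · refine Or.inl ⟨F, iF, iFt, ?_, ⟨e⟩⟩
      exact Partition.four_le_card hns e
    · exact Or.inr (Or.inl hS)
  rcases simple_cit_nonTI hna hC hTI with ⟨F, iF, iFt, -, ⟨e⟩⟩ | h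
  · exact Or.inl ⟨F, iF, iFt, Partition.four_le_card hns e, ⟨e⟩⟩
  · exact Or.inr (Or.inr (Or.inr h))

end CfsgLib.InvCent
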