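import Cfsg.Agent.Lib.InvCentTwoNilp.Full

/-!
# Points, swappers and maximality in a minimal configuration (S3214)

Owner: helper5.
-/

set_option autoImplicit false
set_option linter.unusedSectionVars false

namespace CfsgLib.InvCent

open Subgroup CfsgLib.CIT
open CfsgLib.Signalizer (involution_sq involution_inv involution_ne_one orderOf_eq_two_of orderOf_conj)
open CfsgLib.TwoGroups.SE (smul_mk_eq_iff)

universe u

variable {G : Type u} [Group G]

theorem fix_iff_out {M : Subgroup G} {g : G} {z : G ⧸ M} : g • z = z ↔ z.out⁻¹ * g * z.out ∈ M := by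
  conv_lhs => rw [← QuotientGroup.out_eq' z]
  exact smul_mk_eq_iff g _

theorem mem_Wp_iff {M : Subgroup G} {g : G} {z : G ⧸ M} : g ∈ Wp M z ↔ z.out⁻¹ * g * z.out ∈ Wc M :=
  mem_cj

theorem smul_back {M : Subgroup G} {u : G} (hu : orderOf u = 2) {x y : G ⧸ M} (h : u • x = y) :
    u • y = x := by
  rw [← h, ← mul_smul, involution_sq hu, one_smul]

/-- An element of odd order fixing a two-element set fixes both. -/
theorem smul_eq_of_swap {M : Subgroup G} {g : G} (hg : Odd (orderOf g)) {x y : G ⧸ M} (hxy : g • x = y)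
    (hyx : g • y = x) : g • x = x := by
  obtain ⟨n, hn⟩ := hg
  have h2 : ∀ j : ℕ, (g ^ (2 * j)) • x = x := by
    intro j
    induction j with
    | zero => simp
    | succ j ih =>
      rw [show 2 * (j + 1) = 1 + (1 + 2 * j) by ring, pow_add, pow_add, pow_one, mul_smul, mul_smul,
        ih, hxy, hyx]
  have h3 : g ^ (2 * n + 1) • x = x := by rw [← hn, pow_orderOf_eq_one, one_smul]
  rw [pow_succ', mul_smul, h2] at h3
  exact h3

/-- An odd group normalised by an involution: each element is centralised times inverted. -/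
theorem exists_centralized_mul_inverted [Finite G] {S : Subgroup G} (hS : Odd (Nat.card S)) {u : G}
    (hu : orderOf u = 2) (huS : u ∈ normalizer (S : Set G)) {s : G} (hs : s ∈ S) :
    ∃ c ∈ S, ∃ v ∈ S, u * c = c * u ∧ u * v * u⁻¹ = v⁻¹ ∧ s = c * v⁻¹ ∧
      v ∈ zpowers (s⁻¹ * (u * s * u⁻¹)) := by
  have hui := involution_inv hu
  set w := s⁻¹ * (u * s * u⁻¹) with hw
  have hwS : w ∈ S := S.mul_mem (S.inv_mem hs) ((mem_normalizer_iff.1 huS s).1 hs)
  obtain ⟨n, hn⟩ := odd_orderOf_of_mem hS hwS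
  have hinv : u * w * u⁻¹ = w⁻¹ := by
    rw [hw, hui]
    calc u * (s⁻¹ * (u * s * u)) * u = u * s⁻¹ * u * s * (u * u) := by group
      _ = u⁻¹ * s⁻¹ * u⁻¹ * s := by rw [involution_sq hu, mul_one, hui]
      _ = _ := by group
  set v := w ^ (n + 1) with hv
  have hvv : v * v = w := by
    rw [hv, ← pow_add, show n + 1 + (n + 1) = 2 * n + 1 + 1 by ring, pow_succ, ← hn, pow_orderOf_eq_one,
      one_mul]
  have hvi : u * v * u⁻¹ = v⁻¹ := by rw [hv, ← conj_pow, hinv, inv_pow]
  refine ⟨s * v, S.mul_mem hs (pow_mem hwS _), v, pow_mem hwS _, ?_, hvi, by group,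
    pow_mem (mem_zpowers w) _⟩
  have h1 : u * (s * v) * u⁻¹ = s * v := by
    calc u * (s * v) * u⁻¹ = u * s * u⁻¹ * (u * v * u⁻¹) := by group
      _ = s * w * v⁻¹ := by rw [hvi, hw]; group
      _ = s * v := by rw [← hvv]; group
  calc u * (s * v) = u * (s * v) * u⁻¹ * u := by group
    _ = s * v * u := by rw [h1]

namespace Ctx

variable [Finite G] [IsSimpleGroup G] {M : Subgroup G} (h : Ctx M)
include h

/-- The centraliser of an involution fixes its fixed point. -/
theorem cent_fix {t g : G} (ht : orderOf t = 2) {z : G ⧸ M} (hz : t • z = z) (hg : g * t = t * g) :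
    g • z = z :=
  TwoGroups.SE.fixed_unique h.se ht
    (by rw [← mul_smul, ← hg, mul_smul, hz]) hz

omit h in
theorem conj_out {z : G ⧸ M} (g : G) : orderOf (z.out⁻¹ * g * z.out) = orderOf g :=
  TwoGroups.SE.orderOf_conj' _ _

/-- Odd elements centralising an involution lie in `W` at its fixed point. -/
theorem mem_Wp_of_centralized {t x : G} (ht : orderOf t = 2) {z : G ⧸ M} (hz : t • z = z)
    (hx : x * t = t * x) (ho : Odd (orderOf x)) : x ∈ Wp M z := by
  rw [mem_Wp_iff]
  refine h.theta_le _ (fix_iff_out.1 hz) ((conj_out t).trans ht) ?_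
  refine h.hI.mem_theta ((conj_out t).trans ht) ?_ ((conj_out x).symm ▸ ho)
  calc z.out⁻¹ * x * z.out * (z.out⁻¹ * t * z.out) = z.out⁻¹ * (x * t) * z.out := by group
    _ = z.out⁻¹ * t * z.out * (z.out⁻¹ * x * z.out) := by rw [hx]; group

/-- Odd elements inverted inside a point stabiliser lie in `W` at that point. -/
theorem mem_Wp_of_real {x k : G} {z : G ⧸ M} (hx : x • z = z) (hk : k • z = z) (ho : Odd (orderOf x))
    (hinv : k * x * k⁻¹ = x⁻¹) : x ∈ Wp M z := by
  rw [mem_Wp_iff]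
  refine h.mem_W_of_real (fix_iff_out.1 hx) (fix_iff_out.1 hk) ((conj_out x).symm ▸ ho) ?_
  calc z.out⁻¹ * k * z.out * (z.out⁻¹ * x * z.out) * (z.out⁻¹ * k * z.out)⁻¹
      = z.out⁻¹ * (k * x * k⁻¹) * z.out := by group
    _ = (z.out⁻¹ * x * z.out)⁻¹ := by rw [hinv]; group

/-- An odd group fixing a point and normalised by an involution fixing it lies in `W` at that point. -/
theorem le_Wp_of_invariant {S : Subgroup G} (hS : Odd (Nat.card S)) {z : G ⧸ M}
    (hSz : ∀ s ∈ S, s • z = z) {u : G} (hu : orderOf u = 2) (huz : u • z = z)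
    (huS : u ∈ normalizer (S : Set G)) : S ≤ Wp M z := by
  intro s hs
  obtain ⟨c, hc, v, hv, huc, huv, e, -⟩ := exists_centralized_mul_inverted hS hu huS hs
  rw [e]
  exact mul_mem (h.mem_Wp_of_centralized hu huz huc.symm (odd_orderOf_of_mem hS hc))
    (inv_mem (h.mem_Wp_of_real (hSz v hv) huz (odd_orderOf_of_mem hS hv) huv))

/-- An odd group normalised by a noncyclic elementary group fixing a point lies in `W` at that point. -/
theorem le_Wp_of_normalized {A X : Subgroup G} {z : G ⧸ M} (hAz : ∀ e ∈ A, e • z = z) (hA : Elem A)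
    (h4 : 4 ≤ Nat.card A) (hn : A ≤ normalizer (X : Set G)) (hX : Odd (Nat.card X)) : X ≤ Wp M z := by
  have h1 : cj z.out⁻¹ X ≤ Wc M := by
    refine h.le_W_of_normalized (A := cj z.out⁻¹ A) ?_ (hA.cj _) (by rw [card_cj]; exact h4)
      (by rw [normalizer_cj]; exact cj_mono hn) (by rw [card_cj]; exact hX)
    intro e he
    rw [mem_cj, inv_inv] at he
    have := fix_iff_out.1 (hAz _ he)
    convert this using 1
    group
  exact (cj_le_iff.1 h1).trans_eq (by rw [Wp, inv_inv])

/-- Commuting involutions fix the same point. -/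
theorem fix_of_commute {s t : G} (hs : orderOf s = 2) (ht : orderOf t = 2) (hst : s * t = t * s)
    {z : G ⧸ M} (hz : s • z = z) : t • z = z := h.cent_fix hs hz hst.symm

/-- A swapper. -/
theorem exists_swapper {x y : G ⧸ M} (hxy : x ≠ y) : ∃ u : G, orderOf u = 2 ∧ u • x = y ∧ u • y = x := by
  obtain ⟨t, htM, ht⟩ := Signalizer.exists_involution_of_even h.se.2.1
  have hpos : 0 < Nat.card {i : G // orderOf i = 2 ∧ i • x = y} := by
    rw [TwoGroups.SE.card_swapping h.se x y hxy]
    haveI : Nonempty {t : G // orderOf t = 2 ∧ t ∈ M} := ⟨⟨t, ht, htM⟩⟩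
    exact Nat.card_pos
  obtain ⟨⟨u, hu, hux⟩⟩ := (Nat.card_pos_iff.1 hpos).1
  exact ⟨u, hu, hux, smul_back hu hux⟩

theorem exists_ne_base : ∃ x : G ⧸ M, x ≠ base M := by
  by_contra hno
  push Not at hno
  exact h.se.1 (eq_top_iff.2 fun g _ => by simpa [base] using QuotientGroup.eq.1 (hno (g : G ⧸ M)).symm)

/-- Two point stabilisers have odd order. -/
theorem odd_two {D : Subgroup G} {x y : G ⧸ M} (hxy : x ≠ y) (hx : ∀ d ∈ D, d • x = x)
    (hy : ∀ d ∈ D, d • y = y) : Odd (Nat.card D) := by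
  rw [← Nat.not_even_iff_odd]
  intro he
  haveI : Fact (Nat.Prime 2) := ⟨Nat.prime_two⟩
  obtain ⟨d, hd⟩ := exists_prime_orderOf_dvd_card' (G := ↥D) 2 (even_iff_two_dvd.1 he)
  have := TwoGroups.SE.odd_orderOf_of_fixes (H := M) h.se hxy (hx d d.2) (hy d d.2)
  rw [orderOf_coe, hd] at this
  exact absurd this (by decide)

omit h in
theorem elem_cj_le {T : Subgroup G} (hT : IsSyl T M) {g : G} {L : Subgroup G}
    (h' : cj g T ≤ L) : cj g (invSub T) ≤ L :=
  (cj_mono (closure_le T |>.2 fun _ hx => hx.1)).trans h'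

/-- `M` is a maximal subgroup. -/
theorem maximal {L : Subgroup G} (hML : M ≤ L) (hL : L ≠ ⊤) : L = M := by
  by_contra hne
  obtain ⟨T, hT, -⟩ := exists_isSyl (bot_le : (⊥ : Subgroup G) ≤ M) IsPGroup.of_bot
  have hF : Full M T L := ⟨hL, fun hle => hne (le_antisymm hle hML), invSub T,
    le_inf ((h.invSub_le hT).trans (hT.1.trans hML)) ((h.invSub_le hT).trans hT.1),
    h.invSub_elem hT, rfl⟩
  refine hne (le_antisymm ?_ hML)
  rw [← h.norm]
  have e := hF.core_eq h hT
  rw [inf_eq_left.2 ((Wc_le M).trans hML)] at e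
  exact e ▸ Wc_normalized L

theorem coatom : IsCoatom M :=
  ⟨h.se.1, fun L hL => by_contra fun hne => hL.ne (h.maximal hL.le hne).symm⟩

/-- A nontrivial subgroup normalised by `M`, inside `M`, has normaliser `M`. -/
theorem normalizer_eq {X : Subgroup G} (hX1 : X ≠ ⊥) (hX : X ≤ M)
    (hn : M ≤ normalizer (X : Set G)) : normalizer (X : Set G) = M :=
  h.maximal hn (normalizer_ne_top hX1 (h.ne_top_of_le_M hX))

end Ctx

end CfsgLib.InvCent
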