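import Cfsg.Agent.Lib.InvCentTwoNilp.PureGen
import Cfsg.Agent.Lib.InvCentTwoNilp.Bad

/-!
# A bad prime dividing `q - 1`: the abelian Sylow subgroup (S3214)

Owner: helper5.
-/

set_option autoImplicit false
set_option linter.unusedSectionVars false

namespace CfsgLib.InvCent

open Subgroup CfsgLib.CIT
open CfsgLib.Signalizer (involution_sq involution_inv involution_ne_one orderOf_eq_two_of orderOf_conj)

universe u

variable {G : Type u} [Group G]

/-- A Sylow `p`-subgroup of `G` inside `M`, with its second fixed point and a swapper. -/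
structure BadData (M : Subgroup G) (p : ℕ) (R : Subgroup G) (y : G ⧸ M) (v : G) : Prop where
  sylR : SylP p R M
  top : SylP p R ⊤
  comm : ∀ a ∈ R, ∀ b ∈ R, a * b = b * a
  cent2 : ∀ g ∈ normalizer ((R ⊓ Wc M : Subgroup G) : Set G), ∀ k : ℕ, orderOf g = 2 ^ k →
    g ∈ centralizer ((R ⊓ Wc M : Subgroup G) : Set G)
  normW : normalizer (R : Set G) ≤ normalizer ((R ⊓ Wc M : Subgroup G) : Set G)
  fix_pair : ∀ x : G ⧸ M, (∀ g ∈ R, g • x = x) → x = base M ∨ x = y
  yne : y ≠ base M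
  two : orderOf v = 2
  swap : v • base M = y
  vnorm : v ∈ normalizer (R : Set G)
  Ry : R ≤ DD M y

variable [Finite G] [IsSimpleGroup G] {M T : Subgroup G}

namespace Ctx

variable (h : Ctx M) (hT : IsSyl T M) {p : ℕ} [hp : Fact p.Prime]
include h hT

theorem exists_badData (hd : p ∣ Nat.card (invSub T) - 1) (hW : p ∣ Nat.card (Wc M)) :
    ∃ R y v, BadData M p R y v := by
  classical
  have hp2 := h.ne_two_of_dvd hT hd
  obtain ⟨P, hP⟩ := exists_sylP (p := p) (Wc M)
  have hP1 : P ≠ ⊥ := fun e => by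
    have h1 := hP.card
    rw [e, card_bot] at h1
    have h2 := (Nat.Prime.dvd_iff_one_le_factorization hp.out Nat.card_pos.ne').1 hW
    exact absurd h1.symm (Nat.one_lt_pow (by omega) hp.out.one_lt).ne'
  have hbad : ¬ normalizer (P : Set G) ≤ M := fun hg => h.not_good_of_dvd hT hP hP1 hg hd
  obtain ⟨hcyc, hcent⟩ := h.bad_spec hT hP hbad
  obtain ⟨T', hT', hTP, hF, hPL⟩ := h.full_normalizer hT hP hP1 hbad
  set L := normalizer (P : Set G) with hL
  obtain ⟨R, hR, hPR⟩ := exists_sylP_ge (hP.le.trans (Wc_le M)) hP.isPGroup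
  have hRW : R ⊓ Wc M = P := (hP.eq_of_le (le_inf hPR hP.le) inf_le_right
    (hR.isPGroup.to_le inf_le_left)).symm
  have hnormM : ∀ n ∈ normalizer (R : Set G), n ∈ M → n ∈ L := fun n hn hnM => by
    rw [hL, mem_normalizer_iff_cj, ← hRW, CIT.cj, map_inf_eq _ _ _ (MulAut.conj n).injective]
    congr 1
    · exact mem_normalizer_iff_cj.1 hn
    · exact mem_normalizer_iff_cj.1 (Wc_normalized M hnM)
  have hRL : R ≤ L := fun g hg => hnormM g (le_normalizer hg) (hR.le hg)
  obtain ⟨y, hyL, hya, hyfix⟩ := h.exists_fixed_orbit hT' hp2 hF (le_inf hRL hR.le) hR.isPGroup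
  have hRy : R ≤ DD M y := fun g hg => ⟨hR.le hg, hyfix g hg⟩
  -- `P` is central in `R`
  have hcentral : ∀ r ∈ R, ∀ x ∈ P, r * x = x * r := by
    obtain ⟨t, ht, htM, ht2⟩ := hF.exists_involution h hT'
    have htc : ∀ x ∈ P, t * x = x * t := fun x hx =>
      (mem_centralizer_iff.1 (hcent t ht 1 (by rw [ht2, pow_one])) x hx).symm
    intro r hr
    obtain ⟨c, hc, o, ho, e⟩ := hF.le_centralizer_sup h hT' le_rfl ht ht2 htc r (hRL hr)
    let f : ↥L →* MulAut P := P.normalizerMonoidHom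
    have hfc : ∀ (g : ↥L), (g : G) ∈ centralizer (P : Set G) → f g = 1 := fun g hg =>
      MulEquiv.ext fun x => Subtype.ext (by
        show (g : G) * x * (g : G)⁻¹ = x
        rw [← mem_centralizer_iff.1 hg x x.2, mul_inv_cancel_right])
    have hfr : f ⟨r, hRL hr⟩ = f ⟨o, Wc_le L ho⟩ := by
      rw [show (⟨r, hRL hr⟩ : ↥L) = ⟨c, hc.1⟩ * ⟨o, Wc_le L ho⟩ from Subtype.ext e, map_mul,
        hfc ⟨c, hc.1⟩ hc.2, one_mul]
    set W0 := (Wc L).subgroupOf L with hW0
    have hPker : P.subgroupOf L ≤ f.ker := fun g hg => hfc g (mem_centralizer_iff.2 fun x hx => by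
      have hcm := hcyc
      obtain ⟨⟨x0, hx0⟩, hgen⟩ := IsCyclic.exists_generator (α := P)
      obtain ⟨i, hi⟩ := mem_zpowers_iff.1 (hgen ⟨(g : G), hg⟩)
      obtain ⟨j, hj⟩ := mem_zpowers_iff.1 (hgen ⟨x, hx⟩)
      have hi' : x0 ^ i = (g : G) := congrArg Subtype.val hi
      have hj' : x0 ^ j = x := congrArg Subtype.val hj
      rw [← hi', ← hj']
      exact ((Commute.refl x0).zpow_zpow j i).eq)
    have hPs : SylP p P (Wc L) := by
      have h1 : Wc L = Wc M ⊓ L := hF.core_eq h hT'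
      exact hP.of_le hPL (h1.le.trans inf_le_left)
    have hcop : ¬ p ∣ Nat.card (W0.map f) := by
      intro hdv
      rw [← relIndex_ker] at hdv
      have h1 := hdv.trans (relIndex_dvd_of_le_left (L := W0) hPker)
      rw [relIndex_subgroupOf (Wc_le L)] at h1
      obtain ⟨S, hS⟩ := hPs.exists_sylow
      refine S.not_dvd_index ?_
      have : (S : Subgroup ↥(Wc L)) = P.subgroupOf (Wc L) := by
        rw [← hS, Subgroup.subgroupOf, comap_map_eq_self_of_injective (subtype_injective _)]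
      rw [this]
      exact h1
    obtain ⟨k, hk⟩ := exists_orderOf_pow hR.isPGroup hr
    have h1 : orderOf (f ⟨r, hRL hr⟩) ∣ p ^ k := hk ▸ (orderOf_map_dvd f _).trans
      (dvd_of_eq (Subgroup.orderOf_mk r (hRL hr)))
    have h2 : orderOf (f ⟨r, hRL hr⟩) ∣ Nat.card (W0.map f) :=
      hfr ▸ Subgroup.orderOf_dvd_natCard _ ⟨⟨o, Wc_le L ho⟩, ho, rfl⟩
    have h3 := orderOf_eq_one_iff.1 (Nat.eq_one_of_dvd_coprimes
      (((hp.out.coprime_iff_not_dvd).2 hcop).pow_left k) h1 h2)
    intro x hx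
    have h4 : r * x * r⁻¹ = x := congrArg Subtype.val (show f ⟨r, hRL hr⟩ ⟨x, hx⟩ = ⟨x, hx⟩ by rw [h3]; rfl)
    exact mul_inv_eq_iff_eq_mul.1 h4
  have hcomm : ∀ a ∈ R, ∀ b ∈ R, a * b = b * a := by
    obtain ⟨g, hg, hgen⟩ := h.exists_gen_mod_W hR.le
      ((h.odd_DD hya).of_dvd_nat (card_dvd_of_le hRy)) fun a ha b hb => h.comm_mem_W hp2 hR.le hR.isPGroup ha hb
    intro a ha b hb
    obtain ⟨i, hi⟩ := hgen a ha
    obtain ⟨j, hj⟩ := hgen b hb
    set w := (g ^ i)⁻¹ * a with hw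
    set w' := (g ^ j)⁻¹ * b with hw'
    have hwP : w ∈ P := hRW ▸ ⟨R.mul_mem (R.inv_mem (zpow_mem hg i)) ha, hi⟩
    have hwP' : w' ∈ P := hRW ▸ ⟨R.mul_mem (R.inv_mem (zpow_mem hg j)) hb, hj⟩
    have c1 : Commute (g ^ i) w' := hcentral _ (zpow_mem hg i) _ hwP'
    have c2 : Commute (g ^ j) w := hcentral _ (zpow_mem hg j) _ hwP
    have c3 : Commute w w' := hcentral _ (hPR hwP) _ hwP'
    have c4 : Commute (g ^ i) (g ^ j) := (Commute.refl g).zpow_zpow i j
    have : Commute (g ^ i * w) (g ^ j * w') :=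
      ((c4.mul_right c1).mul_left (c2.symm.mul_right c3))
    have e1 : g ^ i * w = a := by rw [hw]; group
    have e2 : g ^ j * w' = b := by rw [hw']; group
    rw [e1, e2] at this
    exact this.eq
  -- the fixed points
  have hfix2 : ∀ x : G ⧸ M, (∀ g ∈ R, g • x = x) → x = base M ∨ x = y := by
    intro x hx
    by_cases hxa : x = base M
    · exact Or.inl hxa
    refine Or.inr (h.subsingleton_fix (S := R) ((h.odd_DD hya).of_dvd_nat (card_dvd_of_le hRy))
      (fun c hle => ?_) (fun s hs => smul_base_eq_iff.2 (hR.le hs)) (fun x' hx' hfix => ?_) hxa hya hx hyfix)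
    · have hPc : SylP p (cj c.out P) (Wp M c) := hP.cj c.out
      have h1 := hPc.card_le hle hR.isPGroup
      rw [card_cj] at h1
      refine h.not_sylP_DD_le_W hT hd hya (hR.of_le hRy DD_le) ?_
      rw [← eq_of_le_of_card_ge hPR h1]
      exact hP.le
    · have hRx : R ≤ DD M x' := fun g hg => ⟨hR.le hg, hfix g hg⟩
      obtain ⟨u, R', hu, hua, hR', hle, huR⟩ := h.exists_invariant_swapper hp2 hx' hRx hR.isPGroup
      refine ⟨u, ?_, hu, hua⟩
      rw [hR.eq_of_le hle (hR'.le.trans DD_le) hR'.isPGroup]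
      exact huR
  -- a swapper in `L` normalising `R`
  obtain ⟨u0, hu0L, hu0, hu0a⟩ := hF.exists_swap h hT' hyL hya
  set D := L ⊓ DD M y with hD
  have hu0D : u0 ∈ normalizer (D : Set G) := by
    rw [mem_normalizer_iff_cj, CIT.cj, hD, map_inf_eq _ _ _ (MulAut.conj u0).injective]
    congr 1
    · exact mem_normalizer_iff_cj.1 (le_normalizer hu0L)
    · exact mem_normalizer_iff_cj.1 (swap_mem_normalizer hu0 hu0a)
  have hDodd : Odd (Nat.card D) := (h.odd_DD hya).of_dvd_nat (card_dvd_of_le inf_le_right)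
  obtain ⟨R0, hR0, hR0u⟩ := exists_invariant_sylP (p := p) (zpowers_le.2 hu0D)
    (by rw [Nat.card_zpowers, hu0]; exact hDodd.coprime_two_left) hDodd
  obtain ⟨d, hdD, hde⟩ := hR0.exists_conj (hR.of_le (le_inf hRL hRy) (inf_le_right.trans DD_le))
  set v := d * u0 * d⁻¹ with hv
  have hvR : v ∈ normalizer (R : Set G) := by
    rw [← hde, normalizer_cj, hv, conj_mem_cj]
    exact hR0u (mem_zpowers u0)
  have hva : v • base M = y := by
    rw [hv, mul_smul, mul_smul, smul_base_eq_iff.2 (M.inv_mem hdD.2.1), hu0a]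
    exact hdD.2.2
  have hvL : v ∈ L := L.mul_mem (L.mul_mem hdD.1 hu0L) (L.inv_mem hdD.1)
  have hv2 : orderOf v = 2 := (orderOf_conj d u0).trans hu0
  have hvy := smul_back hv2 hva
  -- `R` is a Sylow subgroup of `G`
  have htop : SylP p R ⊤ := by
    refine sylP_of_normalizer ?_
    rw [top_inf_eq]
    obtain ⟨Q, hQ, hRQ⟩ := exists_sylP_ge (le_normalizer : R ≤ normalizer (R : Set G)) hR.isPGroup
    have hQM : Q ≤ M := by
      intro g hg
      have hgN := hQ.le hg
      obtain ⟨k, hk⟩ := exists_orderOf_pow hQ.isPGroup hg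
      have hodd : Odd (orderOf g) := hk ▸ (hp.out.odd_of_ne_two hp2).pow
      have hmem : ∀ x : G ⧸ M, (∀ r ∈ R, r • x = x) → ∀ r ∈ R, r • (g • x) = g • x := by
        intro x hx r hr
        rw [← mul_smul, show r * g = g * (g⁻¹ * r * g) by group, mul_smul,
          hx _ ((mem_normalizer_iff''.1 hgN r).1 hr)]
      rw [← smul_base_eq_iff]
      rcases hfix2 _ (hmem (base M) fun r hr => smul_base_eq_iff.2 (hR.le hr)) with e | e
      · exact e
      rcases hfix2 _ (hmem y hyfix) with e' | e'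
      · exact smul_eq_of_swap hodd e e'
      · exact absurd (MulAction.injective g (e'.trans e.symm)) hya
    have e := hR.eq_of_le hRQ hQM hQ.isPGroup
    rw [← e] at hQ
    exact hQ
  -- `N(R)` normalises `P`
  have hnorm : normalizer (R : Set G) ≤ L := by
    intro n hn
    by_cases hnM : n ∈ M
    · exact hnormM n hn hnM
    have hmove : ∀ r ∈ R, r • (n • base M) = n • base M := fun r hr => by
      rw [← mul_smul, show r * n = n * (n⁻¹ * r * n) by group, mul_smul,
        smul_base_eq_iff.2 (hR.le ((mem_normalizer_iff''.1 hn r).1 hr))]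
    have e : n • base M = y :=
      (hfix2 _ hmove).resolve_left fun e => hnM (smul_base_eq_iff.1 e)
    have h1 : v * n ∈ M := by rw [← smul_base_eq_iff, mul_smul, e, hvy]
    have h2 := L.mul_mem (L.inv_mem hvL) (hnormM _ (mul_mem hvR hn) h1)
    rwa [inv_mul_cancel_left] at h2
  refine ⟨R, y, v, hR, htop, hcomm, ?_, ?_, hfix2, hya, hv2, hva, hvR, hRy⟩
  · rw [hRW]; exact hcent
  · rw [hRW]; exact hnorm

end Ctx

end CfsgLib.InvCent
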