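import Cfsg.Agent.Lib.InvCentTwoNilp.UnitarySylow.False
import Cfsg.Agent.Lib.TwoGroups.SemiDihedralFusion
import Cfsg.Agent.Lib.TwoGroups.WreathedConclusions
import Cfsg.Agent.Lib.GW.Statement
import Cfsg.Agent.S0516
import Cfsg.Agent.Lib.TwoGroups.MapEquiv

/-!
# Simple groups of 2-rank at most two with 2-nilpotent involution centralisers (S3214)

Given Gorenstein-Walter they are `PSL(2, q)` or `A₇`.
-/

set_option autoImplicit false

namespace CfsgLib.InvCent

open Subgroup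

variable {G : Type*} [Group G] [Finite G]

/-- An element of `C(z)` moving an element of `S` inside `S` acts on it as an element of `S`. -/
theorem TwoNilpCent.exists_conj_eq (hI : TwoNilpCent G) {S : Sylow 2 G} {z g x : G} (hz : orderOf z = 2)
    (hSz : (S : Subgroup G) ≤ centralizer ({z} : Set G)) (hg : g * z = z * g)
    (hx : x ∈ (S : Subgroup G)) (hgx : g * x * g⁻¹ ∈ (S : Subgroup G)) :
    ∃ s ∈ (S : Subgroup G), g * x * g⁻¹ = s * x * s⁻¹ := by
  obtain ⟨u, hu, s, hs, rfl⟩ := hI.exists_mul hz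
    ⟨S.subtype hSz, by rw [Sylow.coe_subtype, map_subgroupOf_eq_of_le hSz]⟩ hg
  refine ⟨s, hs, ?_⟩
  set y := s * x * s⁻¹ with hy
  have hyS : y ∈ (S : Subgroup G) := mul_mem (mul_mem hs hx) (inv_mem hs)
  have e : u * s * x * (u * s)⁻¹ = u * y * u⁻¹ := by rw [hy]; group
  rw [e] at hgx ⊢
  have h1 : u * y * u⁻¹ * y⁻¹ ∈ theta z := by
    rw [show u * y * u⁻¹ * y⁻¹ = u * (y * u⁻¹ * y⁻¹) by group]
    exact mul_mem hu ((mem_normalizer_iff.1 (le_normalizer_theta z (hSz hyS)) _).1 (inv_mem hu))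
  have h2 : u * y * u⁻¹ * y⁻¹ = 1 := by
    obtain ⟨k, hk⟩ := S.isPGroup' ⟨_, mul_mem hgx (inv_mem hyS)⟩
    have hk' : (u * y * u⁻¹ * y⁻¹) ^ 2 ^ k = 1 := congrArg Subtype.val hk
    obtain ⟨j, -, hj⟩ := (Nat.dvd_prime_pow Nat.prime_two).1 (orderOf_dvd_of_pow_eq_one hk')
    have h := odd_orderOf_of_mem (odd_card_theta z) h1
    rcases j with _ | j
    · exact orderOf_eq_one_iff.1 (by rw [hj, pow_zero])
    · rw [hj] at h
      exact absurd h (Nat.not_odd_iff_even.2 ⟨2 ^ j, by ring⟩)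
  exact mul_inv_eq_one.1 h2

open CfsgLib.TwoGroups in
theorem quasidihedral_false (hI : TwoNilpCent G) (hG : ∀ H : Subgroup G, H.index ≠ 2) {S : Sylow 2 G}
    (hQ : Cfsg.IsQuasiDihedral (S : Subgroup G)) : False := by
  obtain ⟨m, f, hf, hS⟩ := SemiDihedral.exists_model hQ
  obtain ⟨g, hg⟩ := isConj_iff.1 (SemiDihedral.fourFused_of_no_index_two hf hS hG)
  set z := f (SemiDihedral.rot (SemiDihedral.h m)) with hzdef
  have hz : orderOf z = 2 := by
    rw [hzdef, orderOf_injective f hf]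
    exact (SemiDihedral.orderOf_eq_two_iff _).2 (Or.inl rfl)
  have h1 : f (SemiDihedral.ref 1) * f (SemiDihedral.ref 1) = z := by
    rw [← map_mul, SemiDihedral.ref_sq, mul_one]
  have h2 : f (SemiDihedral.rot (SemiDihedral.q m)) * f (SemiDihedral.rot (SemiDihedral.q m)) = z := by
    rw [← map_mul, SemiDihedral.rot_mul_rot, SemiDihedral.q_add_q]
  have hgz : g * z = z * g := by
    rw [← mul_inv_eq_iff_eq_mul]
    conv_lhs => rw [← h1, show g * (f (SemiDihedral.ref 1) * f (SemiDihedral.ref 1)) * g⁻¹ =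
      g * f (SemiDihedral.ref 1) * g⁻¹ * (g * f (SemiDihedral.ref 1) * g⁻¹) by group, hg, h2]
  obtain ⟨s, hs, he⟩ := hI.exists_conj_eq hz (SemiDihedral.sylow_le_centralizer_h hS) hgz
    (hS ▸ ⟨_, rfl⟩ : f (SemiDihedral.ref 1) ∈ (S : Subgroup G)) (by rw [hg, ← hS]; exact ⟨_, rfl⟩)
  rw [hg, ← hS] at *
  obtain ⟨v, rfl⟩ := hs
  rw [← map_inv, ← map_mul, ← map_mul] at he
  have h := congrArg SemiDihedral.e (hf he)
  simp [SemiDihedral.mul_def, SemiDihedral.inv_def] at h

open CfsgLib.TwoGroups in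
theorem wreathed_false (hI : TwoNilpCent G) (hG : ∀ H : Subgroup G, H.index ≠ 2) {S : Sylow 2 G}
    (hW : Cfsg.IsWreathed (S : Subgroup G)) : False := by
  obtain ⟨m, f, -, hf, hS⟩ := WreathTwo.exists_model hW
  have h6 := WreathTwo.relIndex_levG_six hf hS (WreathTwo.outerFused_of_no_index_two hf hS hG)
  obtain ⟨g, hgN, hodd, ⟨k, hk⟩, -⟩ := WreathTwo.exists_odd_levG hf hS (by rw [h6]; norm_num)
  set c := f (WreathTwo.u (WreathTwo.h m) (WreathTwo.h m)) with hcdef
  have hc : orderOf c = 2 := WreathTwo.orderOf_c0 hf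
  have hgc : g * c = c * g := mul_inv_eq_iff_eq_mul.1 (WreathTwo.conj_c0_of_mem_normalizer_levG hf hS hgN)
  have hgθ := hI.mem_theta hc hgc hodd
  have hSc : (S : Subgroup G) ≤ centralizer ({c} : Set G) := WreathTwo.sylow_le_centralizer_c0 hS
  have hfix : ∀ x ∈ WreathTwo.levG f, g * x * g⁻¹ = x := by
    intro x hx
    have hxS : x ∈ (S : Subgroup G) := WreathTwo.mapG_le_sylow hS _ hx
    have hgxS : g * x * g⁻¹ ∈ (S : Subgroup G) :=
      WreathTwo.mapG_le_sylow hS _ ((mem_normalizer_iff.1 hgN x).1 hx)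
    have h1 : g * x * g⁻¹ * x⁻¹ ∈ theta c := by
      rw [show g * x * g⁻¹ * x⁻¹ = g * (x * g⁻¹ * x⁻¹) by group]
      exact mul_mem hgθ ((mem_normalizer_iff.1 (le_normalizer_theta c (hSc hxS)) _).1 (inv_mem hgθ))
    exact mul_inv_eq_one.1 (UnitarySylow.Ctx.theta_disjoint h1 (mul_mem hgxS (inv_mem hxS)))
  refine WreathTwo.four0_ne_fourW 0 (Subgroup.map_injective hf ?_)
  rw [← hk]
  refine (le_antisymm ?_ ?_)
  all_goals
    intro y hy
    have hcent : ∀ y ∈ WreathTwo.levG f, g ^ k * y * (g ^ k)⁻¹ = y := fun y hy => by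
      have h : Commute g y := mul_inv_eq_iff_eq_mul.1 (hfix y hy)
      rw [(h.pow_left k).eq, mul_inv_cancel_right]
  · obtain ⟨_, ⟨v, hv, rfl⟩, rfl⟩ := hy
    exact ⟨v, hv, (hcent _ ⟨v, WreathTwo.four0_le_lev 0 hv, rfl⟩).symm⟩
  · obtain ⟨v, hv, rfl⟩ := hy
    exact ⟨_, ⟨v, hv, rfl⟩, hcent _ ⟨v, WreathTwo.four0_le_lev 0 hv, rfl⟩⟩

universe u

/-- A simple group of 2-rank at most two whose involution centralisers are 2-nilpotent. -/
theorem rank_two_cases (gw : GW.GWStatement.{u}) {G : Type u} [Group G] [Finite G] [IsSimpleGroup G]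
    (hna : ¬ IsMulCommutative G) (hI : TwoNilpCent G) (h2 : Cfsg.PRankLE 2 2 G) :
    (∃ (F : Type) (_ : Field F) (_ : Fintype F), 3 < Fintype.card F ∧
        Nonempty (G ≃* Matrix.ProjectiveSpecialLinearGroup (Fin 2) F)) ∨
      Nonempty (G ≃* ↥(alternatingGroup (Fin 7))) := by
  classical
  have : Fact (Nat.Prime 2) := ⟨Nat.prime_two⟩
  have hidx : ∀ H : Subgroup G, H.index ≠ 2 := by
    intro H hH
    rcases (normal_of_index_eq_two hH).eq_bot_or_eq_top with e | e
    · rw [e, index_bot] at hH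
      have := isCyclic_of_prime_card hH
      let _ := IsCyclic.commGroup (α := G)
      exact hna ⟨⟨mul_comm⟩⟩
    · rw [e, index_top] at hH; omega
  have hperf : Group.IsPerfect G := ⟨((inferInstance : (commutator G).Normal).eq_bot_or_eq_top).resolve_left
    fun h => hna ⟨⟨fun a b => mem_center_iff.1 (((commutator_eq_bot_iff_center_eq_top G).1 h) ▸ mem_top b) a⟩⟩⟩
  have heven : Even (Nat.card G) := by
    by_contra hne
    have := Cfsg.Agent.S0205.result (Nat.not_even_iff_odd.1 hne)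
    exact (Group.IsSolvable.commutator_lt_top_of_nontrivial G).ne hperf.commutator_eq_top
  have hO : Cfsg.oddCore G = ⊥ := by
    rcases (inferInstance : (Cfsg.oddCore G).Normal).eq_bot_or_eq_top with h | h
    · exact h
    · have := ZStar.odd_card_oddCore G
      rw [h, card_top] at this
      exact absurd heven (Nat.not_even_iff_odd.2 this)
  have hiso : ∀ z : G, ¬ Cfsg.IsIsolatedInvolution z := by
    intro z hz
    have hcen : center G = ⊥ := (inferInstance : (center G).Normal).eq_bot_or_eq_top.resolve_right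
      fun h => hna ⟨⟨fun a b => mem_center_iff.1 (h ▸ mem_top b) a⟩⟩
    have h1 : z ∈ center G := mem_center_iff.2 fun g => by
      have h := ZStar.mem_oddCore_of_isolated hz g
      rw [hO, mem_bot, mul_inv_eq_one, mul_inv_eq_iff_eq_mul] at h
      exact h.symm
    rw [hcen, mem_bot] at h1
    have h3 := hz.1
    rw [h1, orderOf_one] at h3
    omega
  obtain ⟨S⟩ : Nonempty (Sylow 2 G) := inferInstance
  let _ : Fintype (GaloisField 2 4) := Fintype.ofFinite _
  have hF : Fintype.card (GaloisField 2 4) = 16 := by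
    rw [← Nat.card_eq_fintype_card, GaloisField.card 2 4 (by norm_num)]; norm_num
  obtain ⟨P⟩ : Nonempty (Sylow 2 (Cfsg.PSU 3 (GaloisField 2 4) 4)) := inferInstance
  rcases Cfsg.Agent.S0516.result hna h2 S hF P with ⟨k, hk, hD⟩ | h | h | ⟨⟨e⟩⟩
  · have e : G ⧸ Cfsg.oddCore G ≃* G :=
      (QuotientGroup.quotientMulEquivOfEq hO).trans QuotientGroup.quotientBot
    rcases gw G S k hk hD with ⟨F, iF, iFt, -, h3, ⟨e'⟩⟩ | h7
    · exact Or.inl ⟨F, iF, iFt, h3, ⟨e.symm.trans e'⟩⟩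
    · obtain ⟨e'⟩ := h7; exact Or.inr ⟨e.symm.trans e'⟩
  · exact (quasidihedral_false hI hidx h).elim
  · exact (wreathed_false hI hidx h).elim
  · exfalso
    let _ := Fintype.ofFinite G
    have K : UnitarySylow.Ctx S := ⟨hI, (UnitarySylow.u34_sylow hF P).of_equiv e, hiso⟩
    obtain ⟨n, C⟩ := K.exists_Cycle
    exact K.false_of_cycle C

end CfsgLib.InvCent
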