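import Cfsg.Agent.Lib.InvCentTwoNilp.Basic
import Cfsg.Agent.Lib.InvCentTwoNilp.CITOdd
import Cfsg.Agent.Lib.Core.TwoTimesPSL.NormalFour
import Cfsg.Agent.Lib.Transfer.ThompsonTransfer
import Cfsg.Agent.Lib.Core.Nilpotent
import Cfsg.Agent.Lib.Signalizer.Embedded
import Cfsg.Agent.S0217
import Cfsg.Agent.S0058

/-!
# The signalizer functor `t ↦ θ(t)` and the strongly embedded subgroup (S3214)

Owner: helper5.
-/

set_option autoImplicit false

namespace CfsgLib.InvCent

open Subgroup CfsgLib.CIT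
open CfsgLib.Signalizer (involution_sq involution_inv involution_ne_one orderOf_eq_two_of orderOf_conj)

variable {G : Type*} [Group G] [Finite G]

/-- An elementary abelian 2-subgroup (every element squares to one). -/
def Elem (A : Subgroup G) : Prop := ∀ x ∈ A, x * x = 1

omit [Finite G] in
theorem Elem.comm {A : Subgroup G} (hA : Elem A) {x y : G} (hx : x ∈ A) (hy : y ∈ A) :
    x * y = y * x := by
  have h := inv_eq_of_mul_eq_one_right (hA _ (A.mul_mem hx hy))
  rw [mul_inv_rev, inv_eq_of_mul_eq_one_right (hA _ hx), inv_eq_of_mul_eq_one_right (hA _ hy)] at h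
  exact h.symm

omit [Finite G] in
theorem Elem.isElementary {A : Subgroup G} (hA : Elem A) : Cfsg.IsElementaryAbelian 2 A :=
  ⟨⟨⟨fun a b => Subtype.ext (hA.comm a.2 b.2)⟩⟩, fun a ha => by rw [pow_two]; exact hA a ha⟩

omit [Finite G] in
theorem Elem.of_le {A B : Subgroup G} (hA : Elem A) (h : B ≤ A) : Elem B := fun x hx => hA x (h hx)

omit [Finite G] in
theorem Elem.sup {A B : Subgroup G} (hA : Elem A) (hB : Elem B)
    (hc : ∀ a ∈ A, ∀ b ∈ B, a * b = b * a) : Elem (A ⊔ B) := fun x hx => by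
  have h := (CIT.elementary_sup hA.isElementary hB.isElementary hc).2 x hx
  rwa [pow_two] at h

theorem Elem.isPGroup {A : Subgroup G} (hA : Elem A) : IsPGroup 2 A := fun x =>
  ⟨1, Subtype.ext (by simpa [pow_two] using hA x x.2)⟩

omit [Finite G] in
theorem Elem.cj {A : Subgroup G} (hA : Elem A) (g : G) : Elem (cj g A) := fun x hx => by
  have h := hA _ (mem_cj.1 hx)
  calc x * x = g * (g⁻¹ * x * g * (g⁻¹ * x * g)) * g⁻¹ := by group
    _ = 1 := by rw [h]; group

omit [Finite G] in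
theorem Elem.orderOf_eq {A : Subgroup G} (hA : Elem A) {x : G} (hx : x ∈ A) (h1 : x ≠ 1) :
    orderOf x = 2 := orderOf_eq_two_of h1 (hA x hx)

theorem Elem.four_le {A : Subgroup G} (hA : Elem A) (h : 3 ≤ Nat.card A) : 4 ≤ Nat.card A := by
  obtain ⟨n, hn⟩ := IsPGroup.iff_card.1 (hA.isPGroup)
  rw [hn] at h ⊢
  have h2 : 2 ≤ n := by
    by_contra h'
    have : 2 ^ n ≤ 2 ^ 1 := Nat.pow_le_pow_right two_pos (by omega)
    omega
  calc 4 = 2 ^ 2 := rfl
    _ ≤ 2 ^ n := Nat.pow_le_pow_right two_pos h2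

/-- The join of the `θ(a)`. -/
def gen (A : Subgroup G) : Subgroup G := ⨆ a : {a : G // a ∈ A ∧ a ≠ 1}, theta (a : G)

theorem le_gen {A : Subgroup G} {a : G} (ha : a ∈ A) (ha1 : a ≠ 1) : theta a ≤ gen A :=
  le_iSup (fun a : {a : G // a ∈ A ∧ a ≠ 1} => theta (a : G)) ⟨a, ha, ha1⟩

theorem gen_mono {A B : Subgroup G} (h : B ≤ A) : gen B ≤ gen A :=
  iSup_le fun b => le_gen (h b.2.1) b.2.2

theorem gen_cj (g : G) (A : Subgroup G) : gen (cj g A) = cj g (gen A) := by
  refine le_antisymm (iSup_le fun a => ?_) ?_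
  · have h := mem_cj.1 a.2.1
    have h1 : g⁻¹ * (a : G) * g ≠ 1 := fun e => a.2.2 (by
      calc (a : G) = g * (g⁻¹ * a * g) * g⁻¹ := by group
        _ = 1 := by rw [e]; group)
    have e : (a : G) = g * (g⁻¹ * a * g) * g⁻¹ := by group
    rw [e, theta_map_conj]
    exact cj_mono (le_gen h h1)
  · rw [cj_le_iff]
    refine iSup_le fun a => ?_
    rw [← cj_le_iff, CIT.cj, ← theta_map_conj]
    exact le_gen (conj_mem_cj.2 a.2.1) fun e => a.2.2 (conj_eq_one_iff.1 e)

namespace TwoNilpCent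

variable (hI : TwoNilpCent G)
include hI

theorem gen_spec {A : Subgroup G} (hA : Elem A) (h8 : 8 ≤ Nat.card A) :
    Odd (Nat.card (gen A)) ∧
      ∀ a ∈ A, a ≠ 1 → gen A ⊓ centralizer ({a} : Set G) = theta a := by
  haveI : Fact (Nat.Prime 2) := ⟨Nat.prime_two⟩
  have h := Cfsg.Agent.S0217.result (p := 2) A (fun a ha b hb => hA.comm ha hb)
    (fun a ha => by rw [pow_two]; exact hA a ha) (by norm_num; exact h8) theta
    (fun a _ _ => theta_le a) (fun a _ _ h2 => (odd_card_theta a).not_two_dvd_nat h2)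
    (fun a ha _ b hb x hx =>
      (mem_normalizer_iff.1 (le_normalizer_theta a (mem_cent.2 (hA.comm hb ha))) x).1 hx)
    (fun a _ _ => isSolvable_theta a) (fun a _ _ b hb hb1 => hI.balance (hA.orderOf_eq hb hb1))
  exact ⟨Nat.not_even_iff_odd.1 fun he => h.1 he.two_dvd, h.2⟩

/-- Any subgroup of order four generates the same. -/
theorem gen_eq_of_le {A B : Subgroup G} (hA : Elem A) (h8 : 8 ≤ Nat.card A) (hBA : B ≤ A)
    (h4 : 4 ≤ Nat.card B) : gen B = gen A := by
  obtain ⟨hodd, hC⟩ := hI.gen_spec hA h8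
  refine le_antisymm (gen_mono hBA) ?_
  haveI : IsMulCommutative B := (hA.of_le hBA).isElementary.1
  have hnc : ¬ IsCyclic B := by
    intro hc
    obtain ⟨g, hg⟩ := IsCyclic.exists_ofOrder_eq_natCard (α := B)
    have h1 : orderOf g ≤ 2 := orderOf_le_of_pow_eq_one two_pos (Subtype.ext (by
      show (g : G) ^ 2 = 1
      rw [pow_two]; exact hA _ (hBA g.2)))
    omega
  have hn : B ≤ normalizer (gen A : Set G) := by
    refine hBA.trans fun b hb => ?_
    rw [mem_normalizer_iff_cj, ← gen_cj]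
    congr 1
    exact mem_normalizer_iff_cj.1 (le_normalizer hb)
  have hcop : (Nat.card B).Coprime (Nat.card (gen A)) := by
    obtain ⟨n, hn'⟩ := IsPGroup.iff_card.1 (hA.of_le hBA).isPGroup
    rw [hn']
    exact Nat.Coprime.pow_left n (Nat.coprime_two_left.2 hodd)
  rw [← Cfsg.Agent.S0058.result B (gen A) hnc hn hcop]
  refine iSup₂_le fun b hb => ?_
  rw [hC b (hBA hb.1) hb.2]
  exact le_gen hb.1 hb.2

end TwoNilpCent

/-- The data of a normal four-group in a Sylow 2-subgroup. -/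
structure FourData (T : Sylow 2 G) (E : Subgroup G) : Prop where
  le : E ≤ (T : Subgroup G)
  elem : Elem E
  card : Nat.card E = 4
  norm : (T : Subgroup G) ≤ normalizer (E : Set G)
  idx : ∀ X : Subgroup G, X ≤ (T : Subgroup G) → (centralizer (E : Set G)).relIndex X ≤ 2

theorem exists_fourData (T : Sylow 2 G) {E0 : Subgroup G} (hE0 : Elem E0)
    (hT : E0 ≤ (T : Subgroup G)) (h8 : 8 ≤ Nat.card E0) : ∃ E, FourData T E := by
  obtain ⟨U, hU, hU2, hU4, hUi⟩ := Core.TwoTimesPSL.exists_normal_four T.2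
    (E := E0.subgroupOf (T : Subgroup G)) (fun x hx => Subtype.ext (hE0 _ hx))
    (by rw [Nat.card_congr (subgroupOfEquivOfLe hT).toEquiv]; exact h8)
  haveI := hU
  refine ⟨U.map (T : Subgroup G).subtype, map_subtype_le _, ?_, ?_, ?_, fun X hX => ?_⟩
  · rintro _ ⟨x, hx, rfl⟩
    exact congrArg Subtype.val (hU2 x hx)
  · rw [card_map_of_injective (subtype_injective _), hU4]
  · refine le_trans (le_of_eq ?_) (le_normalizer_map _)
    rw [normalizer_eq_top_iff.2 hU, ← MonoidHom.range_eq_map, range_subtype]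
  · have e : centralizer (U : Set (T : Subgroup G)) =
        (centralizer ((U.map (T : Subgroup G).subtype : Subgroup G) : Set G)).subgroupOf
          (T : Subgroup G) := by
      ext x
      simp only [mem_centralizer_iff, mem_subgroupOf]
      constructor
      · rintro h _ ⟨y, hy, rfl⟩
        exact congrArg Subtype.val (h y hy)
      · exact fun h y hy => Subtype.ext (h _ ⟨y, hy, rfl⟩)
    have hT2 : (centralizer ((U.map (T : Subgroup G).subtype : Subgroup G) : Set G)).relIndex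
        (T : Subgroup G) ≤ 2 := by
      rw [relIndex, ← e]; exact hUi
    refine (relIndex_le_of_le_right hX ?_).trans hT2
    exact Subgroup.index_ne_zero_of_finite

namespace FourData

variable {T : Sylow 2 G} {E : Subgroup G} (h : FourData T E)
include h

theorem exists_central : ∃ z ∈ E, z ≠ 1 ∧ ∀ x ∈ (T : Subgroup G), x * z = z * x := by
  haveI : Fact (Nat.Prime 2) := ⟨Nat.prime_two⟩
  haveI : (E.subgroupOf (T : Subgroup G)).Normal := normal_subgroupOf_of_le_normalizer h.norm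
  haveI : Nontrivial (E.subgroupOf (T : Subgroup G)) := by
    rw [← Finite.one_lt_card_iff_nontrivial, Nat.card_congr (subgroupOfEquivOfLe h.le).toEquiv,
      h.card]
    norm_num
  obtain ⟨z, hz1, hzc⟩ : ∃ z ∈ E.subgroupOf (T : Subgroup G) ⊓ center _, z ≠ 1 :=
    haveI := T.2.isNilpotent
    (bot_or_exists_ne_one _).resolve_left
      (Core.inf_center_ne_bot_of_isNilpotent _ ((nontrivial_iff_ne_bot _).1 ‹_›))
  exact ⟨z, hz1.1, fun e => hzc (Subtype.ext e), fun x hx =>
    congrArg Subtype.val (mem_center_iff.1 hz1.2 ⟨x, hx⟩)⟩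

theorem four_le_inter {A : Subgroup G} (hA : A ≤ (T : Subgroup G)) (h8 : 8 ≤ Nat.card A) :
    4 ≤ Nat.card (A ⊓ centralizer (E : Set G) : Subgroup G) := by
  have h1 := ((centralizer (E : Set G)).subgroupOf A).card_mul_index
  rw [← inf_subgroupOf_left, Nat.card_congr
    (subgroupOfEquivOfLe (inf_le_left : A ⊓ centralizer (E : Set G) ≤ A)).toEquiv,
    inf_subgroupOf_left] at h1
  have h2 := h.idx A hA
  change _ * (centralizer (E : Set G)).relIndex A = _ at h1
  have h3 := Nat.mul_le_mul_left (Nat.card (A ⊓ centralizer (E : Set G) : Subgroup G)) h2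
  omega

/-- Either `A ⊔ E` data: a rank three subgroup through `E`. -/
theorem exists_through {A : Subgroup G} (hA : Elem A) (hAT : A ≤ (T : Subgroup G))
    (h8 : 8 ≤ Nat.card A) :
    ∃ A' : Subgroup G, Elem A' ∧ A' ≤ (T : Subgroup G) ∧ 8 ≤ Nat.card A' ∧ E ≤ A' ∧
      4 ≤ Nat.card (A ⊓ A' : Subgroup G) := by
  set B := A ⊓ centralizer (E : Set G) with hB
  have hB4 : 4 ≤ Nat.card B := h.four_le_inter hAT h8
  have hel : Elem (B ⊔ E) := (hA.of_le inf_le_left).sup h.elem fun b hb e he =>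
    (mem_centralizer_iff.1 hb.2 e he).symm
  by_cases hbig : 8 ≤ Nat.card (B ⊔ E : Subgroup G)
  · exact ⟨B ⊔ E, hel, sup_le (inf_le_left.trans hAT) h.le, hbig, le_sup_right,
      hB4.trans (card_le_of_le (le_inf inf_le_left le_sup_left))⟩
  · have h4 : Nat.card (B ⊔ E : Subgroup G) ≤ 4 := by
      obtain ⟨n, hn⟩ := IsPGroup.iff_card.1 hel.isPGroup
      rw [hn] at hbig ⊢
      have : n ≤ 2 := by
        by_contra hn3
        have : 2 ^ 3 ≤ 2 ^ n := Nat.pow_le_pow_right two_pos (by omega)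
        omega
      calc 2 ^ n ≤ 2 ^ 2 := Nat.pow_le_pow_right two_pos this
        _ = 4 := rfl
    have hBE : B = E := by
      have e1 : B = B ⊔ E := eq_of_le_of_card_ge le_sup_left (h4.trans hB4)
      have e2 : E = B ⊔ E := eq_of_le_of_card_ge le_sup_right (h4.trans h.card.ge)
      exact e1.trans e2.symm
    exact ⟨A, hA, hAT, h8, hBE ▸ inf_le_left, by rw [inf_idem]; omega⟩

theorem gen_eq (hI : TwoNilpCent G) {A : Subgroup G} (hA : Elem A) (hAT : A ≤ (T : Subgroup G))
    (h8 : 8 ≤ Nat.card A) : gen A = gen E := by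
  obtain ⟨A', hA', -, h8', hEA', h4⟩ := h.exists_through hA hAT h8
  rw [hI.gen_eq_of_le hA' h8' hEA' h.card.ge, ← hI.gen_eq_of_le hA h8 inf_le_left h4,
    ← hI.gen_eq_of_le hA' h8' inf_le_right h4]

end FourData

/-- Every involution of `T` lies in an elementary subgroup of order eight of `T`. -/
theorem FourData.exists_elem [IsSimpleGroup G] (hna : ¬ IsMulCommutative G) (hI : TwoNilpCent G)
    {T : Sylow 2 G} {E : Subgroup G} (h : FourData T E) {E0 : Subgroup G} (hE0 : Elem E0)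
    (hE0T : E0 ≤ (T : Subgroup G)) (h8 : 8 ≤ Nat.card E0) {s : G} (hsT : s ∈ (T : Subgroup G))
    (hs : orderOf s = 2) :
    ∃ A : Subgroup G, Elem A ∧ A ≤ (T : Subgroup G) ∧ 8 ≤ Nat.card A ∧ s ∈ A := by
  classical
  haveI : Fact (Nat.Prime 2) := ⟨Nat.prime_two⟩
  have hs2 : s * s = 1 := involution_sq hs
  have hzp : Elem (zpowers s) := fun x hx => by
    obtain ⟨i, rfl⟩ := mem_zpowers_iff.1 hx
    rw [← (Commute.refl s).mul_zpow, hs2, one_zpow]
  -- the case `s ∈ C(E)`
  have hcase : ∀ x : G, x ∈ (T : Subgroup G) → orderOf x = 2 → x ∈ centralizer (E : Set G) →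
      ∃ A : Subgroup G, Elem A ∧ A ≤ (T : Subgroup G) ∧ 8 ≤ Nat.card A ∧ x ∈ A := by
    intro x hxT hx hxE
    by_cases hxm : x ∈ E
    · obtain ⟨A', hA', hA'T, h8', hEA', -⟩ := h.exists_through hE0 hE0T h8
      exact ⟨A', hA', hA'T, h8', hEA' hxm⟩
    · have hzx : Elem (zpowers x) := fun y hy => by
        obtain ⟨i, rfl⟩ := mem_zpowers_iff.1 hy
        rw [← (Commute.refl x).mul_zpow, involution_sq hx, one_zpow]
      have hel : Elem (E ⊔ zpowers x) := h.elem.sup hzx fun e he y hy => by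
        obtain ⟨i, rfl⟩ := mem_zpowers_iff.1 hy
        exact mem_centralizer_iff.1 (zpow_mem hxE i) e he
      refine ⟨_, hel, sup_le h.le (zpowers_le.2 hxT), ?_, mem_sup_right (mem_zpowers x)⟩
      have h1 : Nat.card E < Nat.card (E ⊔ zpowers x : Subgroup G) := by
        refine lt_of_le_of_ne (card_le_of_le le_sup_left) fun e => hxm ?_
        rw [eq_of_le_of_card_ge le_sup_left e.ge]
        exact mem_sup_right (mem_zpowers x)
      obtain ⟨n, hn⟩ := IsPGroup.iff_card.1 hel.isPGroup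
      rw [h.card, hn] at h1
      rw [hn]
      have h3 : 3 ≤ n := by
        by_contra h'
        have : 2 ^ n ≤ 2 ^ 2 := Nat.pow_le_pow_right two_pos (by omega)
        omega
      calc 8 = 2 ^ 3 := rfl
        _ ≤ 2 ^ n := Nat.pow_le_pow_right two_pos h3
  by_cases hsE : s ∈ centralizer (E : Set G)
  · exact hcase s hsT hs hsE
  by_contra hno
  push Not at hno
  have hidx : (centralizer (E : Set G)).relIndex (T : Subgroup G) = 2 := by
    have h1 := h.idx _ le_rfl
    have h2 : (centralizer (E : Set G)).relIndex (T : Subgroup G) ≠ 1 := fun e =>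
      hsE (relIndex_eq_one.1 e hsT)
    have h3 : (centralizer (E : Set G)).relIndex (T : Subgroup G) ≠ 0 := Subgroup.index_ne_zero_of_finite
    omega
  set Q := (T : Subgroup G) ⊓ centralizer (E : Set G) with hQ
  -- a conjugate of `s` in `Q`
  obtain ⟨A0, hA0, h80, hsA0⟩ : ∃ A : Subgroup G, Elem A ∧ 8 ≤ Nat.card A ∧ s ∈ A := by
    rcases Transfer.thompson_transfer T Q (by rw [hQ, inf_relIndex_left, hidx]) hs with
      ⟨N, hN, hN2, -⟩ | ⟨g, hg⟩
    · exfalso
      rcases hN.eq_bot_or_eq_top with rfl | rfl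
      · rw [index_bot] at hN2
        haveI : IsCyclic G := isCyclic_of_prime_card hN2
        exact hna ⟨⟨fun a b => (IsCyclic.commGroup (α := G)).mul_comm a b⟩⟩
      · rw [index_top] at hN2; omega
    · obtain ⟨A, hA, -, h8A, hxA⟩ := hcase _ (mem_inf.1 hg).1 ((orderOf_conj g s).trans hs)
        (mem_inf.1 hg).2
      exact ⟨cj g⁻¹ A, hA.cj _, by rw [card_cj]; exact h8A, mem_cj.2 (by simpa using hxA)⟩
  set S := (T : Subgroup G) ⊓ centralizer ({s} : Set G) with hS
  have hsS : s ∈ S := ⟨hsT, mem_cent.2 rfl⟩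
  -- no elementary group of order eight in `S`
  have hsmall : ∀ A : Subgroup G, A ≤ S → Elem A → Nat.card A < 8 := by
    intro A hAS hA
    by_contra h'
    have hc : ∀ a ∈ A, ∀ b ∈ zpowers s, a * b = b * a := fun a ha b hb => by
      obtain ⟨i, rfl⟩ := mem_zpowers_iff.1 hb
      exact (Commute.zpow_right (mem_cent.1 (hAS ha).2 : Commute a s) i).eq
    exact hno (A ⊔ zpowers s) (hA.sup hzp hc)
      (sup_le (hAS.trans inf_le_left) (zpowers_le.2 hsT))
      ((not_lt.1 h').trans (card_le_of_le le_sup_left)) (mem_sup_right (mem_zpowers s))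
  obtain ⟨z, hzE, hz1, hzc⟩ := h.exists_central
  have hzT : z ∈ (T : Subgroup G) := h.le hzE
  have hzS : z ∈ S := ⟨hzT, mem_cent.2 (hzc s hsT).symm⟩
  have hzQ : z ∈ centralizer (E : Set G) :=
    mem_centralizer_iff.2 fun e he => hzc e (h.le he)
  -- the involutions of `S ⊓ C(E)`
  have huniq : ∀ v ∈ S, v ∈ centralizer (E : Set G) → v * v = 1 → v ≠ 1 → v = z := by
    intro v hvS hvE hv2 hv1
    by_contra hvz
    have hzv : Elem (zpowers v) := fun y hy => by
      obtain ⟨i, rfl⟩ := mem_zpowers_iff.1 hy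
      rw [← (Commute.refl v).mul_zpow, hv2, one_zpow]
    have hzz : Elem (zpowers z) := fun y hy => by
      obtain ⟨i, rfl⟩ := mem_zpowers_iff.1 hy
      rw [← (Commute.refl z).mul_zpow, h.elem z hzE, one_zpow]
    have hel : Elem (zpowers z ⊔ zpowers v) := hzz.sup hzv fun a ha b hb => by
      obtain ⟨i, rfl⟩ := mem_zpowers_iff.1 ha
      obtain ⟨j, rfl⟩ := mem_zpowers_iff.1 hb
      exact (Commute.zpow_zpow (show Commute z v from (hzc v hvS.1).symm) i j).eq
    have hle : zpowers z ⊔ zpowers v ≤ S := sup_le (zpowers_le.2 hzS) (zpowers_le.2 hvS)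
    have hel2 : Elem (zpowers z ⊔ zpowers v ⊔ zpowers s) := hel.sup hzp fun a ha b hb => by
      obtain ⟨i, rfl⟩ := mem_zpowers_iff.1 hb
      exact (Commute.zpow_right (mem_cent.1 (hle ha).2 : Commute a s) i).eq
    have h3 : 3 ≤ Nat.card (zpowers z ⊔ zpowers v : Subgroup G) := by
      have := Set.ncard_le_ncard (s := ({1, z, v} : Set G))
        (t := (zpowers z ⊔ zpowers v : Subgroup G)) (by
          rintro x (rfl | rfl | rfl)
          exacts [one_mem _, mem_sup_left (mem_zpowers _), mem_sup_right (mem_zpowers _)])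
        (Set.toFinite _)
      rw [Set.ncard_eq_three.2 ⟨1, z, v, hz1.symm, hv1.symm, Ne.symm hvz, rfl⟩,
        ← Nat.card_coe_set_eq] at this
      exact this
    have h4 := hel.four_le h3
    have hlt : Nat.card (zpowers z ⊔ zpowers v : Subgroup G) <
        Nat.card (zpowers z ⊔ zpowers v ⊔ zpowers s : Subgroup G) := by
      refine lt_of_le_of_ne (card_le_of_le le_sup_left) fun e => hsE ?_
      have hsm : s ∈ zpowers z ⊔ zpowers v := by
        rw [eq_of_le_of_card_ge le_sup_left e.ge]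
        exact mem_sup_right (mem_zpowers s)
      exact (sup_le (zpowers_le.2 hzQ) (zpowers_le.2 hvE) : zpowers z ⊔ zpowers v ≤ _) hsm
    have h8' := hsmall _ (sup_le hle (zpowers_le.2 hsS)) hel2
    obtain ⟨n, hn⟩ := IsPGroup.iff_card.1 hel2.isPGroup
    rw [hn] at hlt h8'
    have : n ≤ 2 := by
      by_contra h'
      have : 2 ^ 3 ≤ 2 ^ n := Nat.pow_le_pow_right two_pos (by omega)
      omega
    have : 2 ^ n ≤ 2 ^ 2 := Nat.pow_le_pow_right two_pos this
    omega
  have hsqQ : ∀ x ∈ (T : Subgroup G), x * x ∈ centralizer (E : Set G) := fun x hx =>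
    mul_self_mem_of_index_two (H := (centralizer (E : Set G)).subgroupOf (T : Subgroup G)) hidx ⟨x, hx⟩
  -- `z` is a square in `S`
  obtain ⟨r, hrS, hr⟩ : ∃ r ∈ S, r * r = z := by
    by_contra hnr
    push Not at hnr
    have hexp : ∀ q ∈ S, q ∈ centralizer (E : Set G) → q * q = 1 := by
      intro q hqS hqE
      by_contra hq
      obtain ⟨k, hk⟩ := IsPGroup.iff_orderOf.1 T.2 ⟨q, hqS.1⟩
      rw [Subgroup.orderOf_mk] at hk
      have hk2 : 2 ≤ k := by
        by_contra h'
        refine hq ?_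
        rw [← pow_two]
        refine orderOf_dvd_iff_pow_eq_one.1 ?_
        rw [hk]
        exact (pow_dvd_pow 2 (show k ≤ 1 by omega)).trans (pow_one 2).dvd
      have ho : orderOf (q ^ 2 ^ (k - 1)) = 2 := by
        rw [orderOf_pow_of_dvd (pow_ne_zero _ two_ne_zero)
          (by rw [hk]; exact pow_dvd_pow 2 (Nat.sub_le k 1)), hk, Nat.pow_div (Nat.sub_le k 1) two_pos,
          show k - (k - 1) = 1 by omega, pow_one]
      refine hnr (q ^ 2 ^ (k - 2)) (pow_mem hqS _) ?_
      rw [← pow_two, ← pow_mul, ← pow_succ, show k - 2 + 1 = k - 1 by omega]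
      exact huniq _ (pow_mem hqS _) (pow_mem hqE _) (involution_sq ho) (involution_ne_one ho)
    have hSle : ∀ x ∈ S, x = 1 ∨ x = z ∨ x = s ∨ x = s * z := by
      intro x hx
      by_cases hxE : x ∈ centralizer (E : Set G)
      · by_cases hx1 : x = 1
        · exact Or.inl hx1
        · exact Or.inr (Or.inl (huniq x hx hxE (hexp x hx hxE) hx1))
      · have hsx : s * x ∈ centralizer (E : Set G) :=
          (mul_mem_iff_of_index_two (H := (centralizer (E : Set G)).subgroupOf (T : Subgroup G)) hidx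
            (a := ⟨s, hsT⟩) (b := ⟨x, hx.1⟩)).2 (iff_of_false hsE hxE)
        have hmem := mul_mem hsS hx
        by_cases hx1 : s * x = 1
        · exact Or.inr (Or.inr (Or.inl ((eq_inv_of_mul_eq_one_right hx1).trans (involution_inv hs))))
        · refine Or.inr (Or.inr (Or.inr ?_))
          rw [← huniq _ hmem hsx (hexp _ hmem hsx) hx1, ← mul_assoc, hs2, one_mul]
    have hsz : s ≠ z := fun e => hsE (e ▸ hzQ)
    have hz2 : z * z = 1 := h.elem z hzE
    have hcz : Commute s z := hzc s hsT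
    have hS4 : Nat.card S = 4 := by
      have hset : (S : Set G) = {1, z, s, s * z} := by
        ext x
        refine ⟨fun hx => hSle x hx, ?_⟩
        rintro (rfl | rfl | rfl | rfl)
        exacts [one_mem S, hzS, hsS, mul_mem hsS hzS]
      show Nat.card (S : Set G) = 4
      rw [Nat.card_coe_set_eq, hset]
      rw [Set.ncard_insert_of_notMem, Set.ncard_eq_three.2 ⟨z, s, s * z, hsz.symm, ?_, ?_, rfl⟩]
      · intro e
        exact involution_ne_one hs (right_eq_mul.1 e)
      · intro e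
        exact hz1 (left_eq_mul.1 e)
      · have h3 : s * z ≠ 1 := fun e => hsz (by
          rw [eq_inv_of_mul_eq_one_left e, inv_eq_of_mul_eq_one_right hz2])
        simp [hz1.symm, (involution_ne_one hs).symm, h3.symm]
    have hel : Elem S := fun x hx => by
      rcases hSle x hx with rfl | rfl | rfl | rfl
      · exact one_mul _
      · exact hz2
      · exact hs2
      · rw [mul_assoc, ← mul_assoc z, ← hcz.eq, mul_assoc s, hz2, mul_one, hs2]
    have h4 := CITOdd.card_le_four_of_selfcent_four (P := (T : Subgroup G)) T.2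
      (W := S.subgroupOf (T : Subgroup G))
      (fun x hx y hy => Subtype.ext (hel.comm hx hy)) (fun x hx => Subtype.ext (hel _ hx))
      (by rw [Nat.card_congr (subgroupOfEquivOfLe inf_le_left).toEquiv, hS4])
      (fun x hx => ⟨x.2, mem_cent.2
        (congrArg Subtype.val (mem_centralizer_iff.1 hx ⟨s, hsT⟩ hsS)).symm⟩)
      (E := E0.subgroupOf (T : Subgroup G)) (fun x hx => Subtype.ext (hE0 _ hx))
    rw [Nat.card_congr (subgroupOfEquivOfLe hE0T).toEquiv] at h4
    omega
  -- a Sylow 2-subgroup of `C(s)` above `S`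
  obtain ⟨Ts, hTs, hSTs⟩ := exists_isSyl (inf_le_right : S ≤ centralizer ({s} : Set G))
    (T.2.to_le inf_le_left)
  have hA0s : A0 ≤ centralizer ({s} : Set G) := fun a ha => mem_cent.2 (hA0.comm ha hsA0)
  obtain ⟨Ts', hTs', hA0T⟩ := exists_isSyl hA0s hA0.isPGroup
  obtain ⟨c, hc, hce⟩ := hTs'.exists_conj hTs
  have hlt : S < Ts := by
    refine lt_of_le_of_ne hSTs fun e => ?_
    have hle : cj c A0 ≤ S := by rw [e, ← hce]; exact cj_mono hA0T
    have := hsmall _ hle (hA0.cj c)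
    rw [card_cj] at this
    omega
  obtain ⟨n, hnT, hnS, hnN⟩ := exists_normalizing hTs.2.1 hlt
  have hns : n * s = s * n := mem_cent.1 (hTs.1 hnT)
  -- `n` centralises `z`
  have hnz : n * z = z * n := by
    have hr' : n * r * n⁻¹ ∈ S := (mem_normalizer_iff.1 hnN r).1 hrS
    have he : n * r * n⁻¹ * (n * r * n⁻¹) = n * z * n⁻¹ := by rw [← hr]; group
    have h1 := huniq (n * z * n⁻¹) (he ▸ mul_mem hr' hr') (he ▸ hsqQ _ hr'.1)
      (by rw [show n * z * n⁻¹ * (n * z * n⁻¹) = n * (z * z) * n⁻¹ by group, h.elem z hzE,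
        mul_one, mul_inv_cancel]) (fun e => hz1 (conj_eq_one_iff.1 e))
    exact mul_inv_eq_iff_eq_mul.1 h1
  -- the contradiction in `C(z)`
  have hzo : orderOf z = 2 := h.elem.orderOf_eq hzE hz1
  have hTC : ∃ P : Sylow 2 ↥(centralizer ({z} : Set G)),
      (P : Subgroup _).map (centralizer ({z} : Set G)).subtype = (T : Subgroup G) := by
    have hle : (T : Subgroup G) ≤ centralizer ({z} : Set G) := fun x hx => mem_cent.2 (hzc x hx)
    exact ⟨T.subtype hle, by rw [Sylow.coe_subtype, subgroupOf_map_subtype, inf_eq_left.2 hle]⟩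
  obtain ⟨u, hu, τ, hτ, he⟩ := hI.exists_mul hzo hTC hnz
  have hsu : s * u * s⁻¹ ∈ theta z := (mem_normalizer_iff.1 (le_normalizer_theta z
    (mem_cent.2 (hzc s hsT))) u).1 hu
  have hone : ∀ x ∈ theta z, x ∈ (T : Subgroup G) → x = 1 := fun x hx hxT => by
    obtain ⟨i, hi⟩ := IsPGroup.iff_orderOf.1 T.2 ⟨x, hxT⟩
    rw [Subgroup.orderOf_mk] at hi
    exact orderOf_eq_one_iff.1 (Nat.eq_one_of_dvd_coprimes
      ((odd_orderOf_of_mem (odd_card_theta z) hx).coprime_two_left.pow_left i) (hi ▸ dvd_rfl) dvd_rfl)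
  have hτs : τ * s = s * τ := by
    have h1 : s * (u * τ) = u * τ * s := by rw [← he, hns]
    have h2 : u⁻¹ * (s * u * s⁻¹) = τ * (s * τ⁻¹ * s⁻¹) := by
      calc u⁻¹ * (s * u * s⁻¹) = u⁻¹ * (s * (u * τ)) * (τ⁻¹ * s⁻¹) := by group
        _ = τ * (s * τ⁻¹ * s⁻¹) := by rw [h1]; group
    have h3 := hone _ (mul_mem (inv_mem hu) hsu) (h2 ▸ mul_mem hτ
      (mul_mem (mul_mem hsT (inv_mem hτ)) (inv_mem hsT)))
    rw [h2] at h3
    have h4 : τ * s * τ⁻¹ = s := by
      calc τ * s * τ⁻¹ = τ * (s * τ⁻¹ * s⁻¹) * s := by group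
        _ = s := by rw [h3, one_mul]
    exact mul_inv_eq_iff_eq_mul.1 h4
  have hτS : τ ∈ S := ⟨hτ, mem_cent.2 hτs⟩
  have huTs : u ∈ Ts := by
    rw [show u = n * τ⁻¹ by rw [he, mul_inv_cancel_right]]
    exact mul_mem hnT (inv_mem (hSTs hτS))
  obtain ⟨i, hi⟩ := IsPGroup.iff_orderOf.1 hTs.2.1 ⟨u, huTs⟩
  rw [Subgroup.orderOf_mk] at hi
  have hu1 : u = 1 := orderOf_eq_one_iff.1 (Nat.eq_one_of_dvd_coprimes
    ((odd_orderOf_of_mem (odd_card_theta z) hu).coprime_two_left.pow_left i) (hi ▸ dvd_rfl) dvd_rfl)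
  exact hnS (by rw [he, hu1, one_mul]; exact hτS)

/-- Either every `θ(t)` is trivial or there is a strongly embedded subgroup carrying them. -/
theorem exists_strongly_embedded [IsSimpleGroup G] (hna : ¬ IsMulCommutative G)
    (hI : TwoNilpCent G) {E0 : Subgroup G} (hE0 : Elem E0) (h8 : 8 ≤ Nat.card E0) :
    (∀ t : G, orderOf t = 2 → theta t = ⊥) ∨
      ∃ M : Subgroup G, Cfsg.IsStronglyEmbedded M ∧ Cfsg.oddCore ↥M ≠ ⊥ ∧
        (∀ t ∈ M, orderOf t = 2 → theta t ≤ (Cfsg.oddCore ↥M).map M.subtype) ∧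
        ∃ A : Subgroup G, A ≤ M ∧ Elem A ∧ 8 ≤ Nat.card A := by
  classical
  haveI : Fact (Nat.Prime 2) := ⟨Nat.prime_two⟩
  obtain ⟨T, hE0T⟩ := hE0.isPGroup.exists_le_sylow
  obtain ⟨E, hF⟩ := exists_fourData T hE0 hE0T h8
  set W := gen E with hWdef
  have hW : ∀ A : Subgroup G, Elem A → A ≤ (T : Subgroup G) → 8 ≤ Nat.card A → gen A = W :=
    fun A hA hAT h => hF.gen_eq hI hA hAT h
  have hodd : Odd (Nat.card W) := by rw [← hW E0 hE0 hE0T h8]; exact (hI.gen_spec hE0 h8).1
  have hTsyl : IsSyl (T : Subgroup G) ⊤ := ⟨le_top, T.2, fun Q hle _ hQ => T.3 hQ hle⟩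
  -- every involution of `T`
  have hθ : ∀ t ∈ (T : Subgroup G), orderOf t = 2 → theta t ≤ W := fun t htT ht => by
    obtain ⟨A, hA, hAT, h8A, htA⟩ := hF.exists_elem hna hI hE0 hE0T h8 htT ht
    rw [← hW A hA hAT h8A]
    exact le_gen htA (involution_ne_one ht)
  -- conjugating into `T` fixes `W`
  have hconj : ∀ (g : G) (A : Subgroup G), Elem A → 8 ≤ Nat.card A → A ≤ cj g (T : Subgroup G) →
      gen A = cj g W := by
    intro g A hA h8A hle
    have h1 := hW (cj g⁻¹ A) (hA.cj _) (by rw [← cj_inv_cj g (T : Subgroup G)]; exact cj_mono hle)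
      (by rw [card_cj]; exact h8A)
    rw [gen_cj] at h1
    rw [← h1, cj_cj_inv]
  have hind : ∀ (g t : G), orderOf t = 2 → t ∈ (T : Subgroup G) → t ∈ cj g (T : Subgroup G) →
      cj g W = W := by
    intro g t ht htT htg
    obtain ⟨A, hA, hAT, h8A, htA⟩ := hF.exists_elem hna hI hE0 hE0T h8 htT ht
    have hAC : A ≤ centralizer ({t} : Set G) := fun a ha => mem_cent.2 (hA.comm ha htA)
    obtain ⟨T1, hT1, hAT1⟩ := exists_isSyl hAC hA.isPGroup
    obtain ⟨T'', hT'', hle''⟩ := exists_isSyl (le_top : T1 ≤ ⊤) hT1.2.1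
    obtain ⟨h, -, hh⟩ := hTsyl.exists_conj hT''
    have hhW : cj h W = W := by
      rw [← hconj h A hA h8A (hh.symm ▸ hAT1.trans hle''), hW A hA hAT h8A]
    obtain ⟨A', hA', hA'T, h8', htA'⟩ := hF.exists_elem hna hI hE0 hE0T h8 (mem_cj.1 htg)
      (by rw [← orderOf_conj g (g⁻¹ * t * g), show g * (g⁻¹ * t * g) * g⁻¹ = t by group]; exact ht)
    have hgA : cj g A' ≤ centralizer ({t} : Set G) := fun x hx => mem_cent.2
      ((hA'.cj g).comm hx (mem_cj.2 htA'))
    obtain ⟨T2, hT2, hgAT⟩ := exists_isSyl hgA (hA'.cj g).isPGroup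
    obtain ⟨c, hc, hce⟩ := hT1.exists_conj hT2
    obtain ⟨P, hP⟩ := hT1.subgroupOf
    obtain ⟨u, hu, τ, hτ, rfl⟩ := hI.exists_mul ht ⟨P, hP⟩ (mem_cent.1 hc)
    have hτT1 : cj τ T1 = T1 := mem_normalizer_iff_cj.1 (le_normalizer hτ)
    rw [cj_mul, hτT1] at hce
    have hle2 : cj g A' ≤ cj (u * h) (T : Subgroup G) := by
      rw [cj_mul, hh]
      exact hgAT.trans (hce ▸ cj_mono hle'')
    have hgA' : gen (cj g A') = cj g W := by rw [gen_cj, hW A' hA' hA'T h8']
    rw [← hgA', hconj (u * h) _ (hA'.cj g) (by rw [card_cj]; exact h8') hle2, cj_mul, hhW]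
    exact mem_normalizer_iff_cj.1 (le_normalizer (hθ t htT ht hu))
  by_cases hW0 : W = ⊥
  · refine Or.inl fun t ht => ?_
    obtain ⟨T', hT', htT'⟩ := exists_isSyl (le_top : zpowers t ≤ ⊤)
      (IsPGroup.of_card (n := 1) (by rw [Nat.card_zpowers, ht, pow_one]))
    obtain ⟨g, -, hg⟩ := hT'.exists_conj hTsyl
    have h1 : g * t * g⁻¹ ∈ (T : Subgroup G) := hg ▸ conj_mem_cj.2 (htT' (mem_zpowers t))
    have h2 := hθ _ h1 ((orderOf_conj g t).trans ht)
    rw [hW0, le_bot_iff, theta_map_conj] at h2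
    exact (map_eq_bot_iff_of_injective _ (MulAut.conj g).injective).1 h2
  refine Or.inr ⟨normalizer (W : Set G), ?_, ?_⟩
  · obtain ⟨t0, ht0, ht01⟩ := E0.bot_or_exists_ne_one.resolve_left
      (fun e => by rw [e, card_bot] at h8; omega)
    have hTM : (T : Subgroup G) ≤ normalizer (W : Set G) := fun x hx => by
      rw [mem_normalizer_iff_cj]
      exact hind x t0 (hE0.orderOf_eq ht0 ht01) (hE0T ht0) (by
        rw [mem_normalizer_iff_cj.1 (le_normalizer hx)]; exact hE0T ht0)
    have hTMs : IsSyl (T : Subgroup G) (normalizer (W : Set G)) :=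
      ⟨hTM, T.2, fun Q hle _ hQ => T.3 hQ hle⟩
    rw [Signalizer.stronglyEmbedded_iff_conj]
    refine ⟨fun htop => ?_, even_iff_two_dvd.2 ?_, fun t htM ht g hg => ?_⟩
    · rcases (normalizer_eq_top_iff.1 htop).eq_bot_or_eq_top with e | e
      · exact hW0 e
      · rw [e, card_top] at hodd
        exact hodd.not_two_dvd_nat ((hE0.orderOf_eq ht0 ht01) ▸ orderOf_dvd_natCard t0)
    · rw [← hE0.orderOf_eq ht0 ht01]
      exact Subgroup.orderOf_dvd_natCard _ (hTM (hE0T ht0))
    · have hin : ∀ x ∈ normalizer (W : Set G), orderOf x = 2 →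
          ∃ m ∈ normalizer (W : Set G), m * x * m⁻¹ ∈ (T : Subgroup G) := by
        intro x hxM hx
        obtain ⟨T', hT', hxT'⟩ := exists_isSyl (zpowers_le.2 hxM)
          (IsPGroup.of_card (n := 1) (by rw [Nat.card_zpowers, hx, pow_one]))
        obtain ⟨m, hm, hme⟩ := hT'.exists_conj hTMs
        exact ⟨m, hm, hme ▸ conj_mem_cj.2 (hxT' (mem_zpowers x))⟩
      obtain ⟨m, hm, hmT⟩ := hin t htM ht
      obtain ⟨m', hm', hm'T⟩ := hin _ hg ((orderOf_conj g t).trans ht)
      have hk : m' * g * m⁻¹ ∈ normalizer (W : Set G) := by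
        rw [mem_normalizer_iff_cj]
        refine hind _ _ ((orderOf_conj m' _).trans ((orderOf_conj g t).trans ht)) hm'T (mem_cj.2 ?_)
        rw [show (m' * g * m⁻¹)⁻¹ * (m' * (g * t * g⁻¹) * m'⁻¹) * (m' * g * m⁻¹) = m * t * m⁻¹ by group]
        exact hmT
      rw [show g = m'⁻¹ * (m' * g * m⁻¹) * m by group]
      exact mul_mem (mul_mem (inv_mem hm') hk) hm
  · have hWle : W ≤ (Cfsg.oddCore ↥(normalizer (W : Set G))).map (normalizer (W : Set G)).subtype := by
      intro x hx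
      haveI : (W.subgroupOf (normalizer (W : Set G))).Normal := normal_in_normalizer
      exact ⟨⟨x, le_normalizer hx⟩, ZStar.le_oddCore inferInstance
        (by rw [Nat.card_congr (subgroupOfEquivOfLe le_normalizer).toEquiv]; exact hodd) hx, rfl⟩
    have hTM : (T : Subgroup G) ≤ normalizer (W : Set G) := fun x hx => by
      obtain ⟨t0, ht0, ht01⟩ := E0.bot_or_exists_ne_one.resolve_left
        (fun e => by rw [e, card_bot] at h8; omega)
      rw [mem_normalizer_iff_cj]
      exact hind x t0 (hE0.orderOf_eq ht0 ht01) (hE0T ht0) (by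
        rw [mem_normalizer_iff_cj.1 (le_normalizer hx)]; exact hE0T ht0)
    refine ⟨fun e => hW0 (le_bot_iff.1 (hWle.trans_eq (by rw [e, Subgroup.map_bot]))), fun t htM ht => ?_,
      E0, hE0T.trans hTM, hE0, h8⟩
    obtain ⟨T', hT', htT'⟩ := exists_isSyl (zpowers_le.2 htM)
      (IsPGroup.of_card (n := 1) (by rw [Nat.card_zpowers, ht, pow_one]))
    obtain ⟨m, hm, hme⟩ := hT'.exists_conj (⟨hTM, T.2, fun Q hle _ hQ => T.3 hQ hle⟩ :
      IsSyl (T : Subgroup G) (normalizer (W : Set G)))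
    have h1 := hθ _ (hme ▸ conj_mem_cj.2 (htT' (mem_zpowers t))) ((orderOf_conj m t).trans ht)
    rw [theta_map_conj] at h1
    refine le_trans (fun x hx => ?_) hWle
    exact (mem_normalizer_iff.1 hm x).2 (h1 ⟨x, hx, rfl⟩)

end CfsgLib.InvCent
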